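import Cfsg.Agent.Lib.Helper35.Virt

set_option autoImplicit false

namespace Cfsg.Agent.Lib.Helper35

open Cfsg Cfsg.Agent.Lib.Helper4
open scoped ComplexConjugate

section Pos

variable {G : Type*} [Group G] [Fintype G]

theorem classInner_self_real (f : G → ℂ) :
    classInner f f = (((Nat.card G : ℝ)⁻¹ * ∑ g : G, ‖f g‖ ^ 2 : ℝ) : ℂ) := by
  unfold classInner
  push_cast
  congr 1
  refine Finset.sum_congr rfl fun g _ => ?_
  rw [Complex.mul_conj, Complex.normSq_eq_norm_sq]
  push_cast
  rfl

theorem classInner_self_nonneg (f : G → ℂ) : ∃ r : ℝ, 0 ≤ r ∧ classInner f f = (r : ℂ) := by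
  refine ⟨_, ?_, classInner_self_real f⟩
  exact mul_nonneg (inv_nonneg.mpr (Nat.cast_nonneg _))
    (Finset.sum_nonneg fun g _ => sq_nonneg _)

theorem classInner_self_eq_zero' {f : G → ℂ} (h : classInner f f = 0) : f = 0 := by
  rw [classInner_self_real] at h
  have h1 : (Nat.card G : ℝ)⁻¹ * ∑ g : G, ‖f g‖ ^ 2 = 0 := by exact_mod_cast h
  have hG : (Nat.card G : ℝ)⁻¹ ≠ 0 :=
    inv_ne_zero (by exact_mod_cast (Nat.card_pos (α := G)).ne')
  have h2 : ∑ g : G, ‖f g‖ ^ 2 = 0 := by
    rcases mul_eq_zero.mp h1 with h' | h'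
    · exact absurd h' hG
    · exact h'
  funext g
  have h3 := (Finset.sum_eq_zero_iff_of_nonneg (fun g _ => sq_nonneg ‖f g‖)).mp h2 g
    (Finset.mem_univ g)
  have h4 : ‖f g‖ = 0 := by
    exact pow_eq_zero_iff (n := 2) (by norm_num) |>.mp h3
  exact norm_eq_zero.mp h4

/-- Bessel defect for a finite orthonormal set. -/
theorem bessel_defect [DecidableEq (G → ℂ)] (I : Finset (G → ℂ))
    (horth : ∀ α ∈ I, ∀ β ∈ I, classInner α β = if α = β then 1 else 0) (v : G → ℂ) :
    classInner (v - ∑ α ∈ I, classInner v α • α) (v - ∑ α ∈ I, classInner v α • α) =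
      classInner v v - ∑ α ∈ I, classInner v α * conj (classInner v α) := by
  have h1 : classInner v (∑ α ∈ I, classInner v α • α) =
      ∑ α ∈ I, classInner v α * conj (classInner v α) := by
    rw [classInner_sum_right]
    refine Finset.sum_congr rfl fun α _ => ?_
    rw [classInner_smul_right, mul_comm]
  have h2 : classInner (∑ α ∈ I, classInner v α • α) v =
      ∑ α ∈ I, classInner v α * conj (classInner v α) := by
    rw [classInner_sum_left]
    refine Finset.sum_congr rfl fun α _ => ?_
    rw [classInner_smul_left, classInner_conj_symm α v]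
  have h3 : classInner (∑ α ∈ I, classInner v α • α) (∑ α ∈ I, classInner v α • α) =
      ∑ α ∈ I, classInner v α * conj (classInner v α) := by
    rw [classInner_sum_left]
    refine Finset.sum_congr rfl fun α hα => ?_
    rw [classInner_sum_right, Finset.sum_eq_single α]
    · rw [classInner_smul_left, classInner_smul_right, horth α hα α hα, if_pos rfl]
      ring
    · intro β hβ hne
      rw [classInner_smul_left, classInner_smul_right, horth α hα β hβ, if_neg (Ne.symm hne)]
      ring
    · intro h
      exact absurd hα h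
  rw [classInner_sub_left, classInner_sub_right, classInner_sub_right, h1, h2, h3]
  ring

end Pos

section Gen

variable {G : Type*} [Group G]

theorem isGenChar_int_smul (m : ℤ) {θ : G → ℂ} (h : IsGeneralizedCharacter G θ) :
    IsGeneralizedCharacter G (((m : ℤ) : ℂ) • θ) := by
  obtain ⟨a, b, ha, hb, rfl⟩ := h
  rcases Int.eq_nat_or_neg m with ⟨k, rfl | rfl⟩
  · refine ⟨(k : ℂ) • a, (k : ℂ) • b, isCharacter_natCast_smul k ha,
      isCharacter_natCast_smul k hb, ?_⟩
    push_cast
    rw [smul_sub]
  · refine ⟨(k : ℂ) • b, (k : ℂ) • a, isCharacter_natCast_smul k hb,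
      isCharacter_natCast_smul k ha, ?_⟩
    push_cast
    rw [smul_sub, neg_smul, neg_smul]
    abel

theorem isGenChar_sum {ι : Type*} (s : Finset ι) (f : ι → G → ℂ)
    (h : ∀ i ∈ s, IsGeneralizedCharacter G (f i)) : IsGeneralizedCharacter G (∑ i ∈ s, f i) := by
  classical
  induction s using Finset.induction_on with
  | empty => simpa using isGenChar_zero
  | insert a s ha ih =>
    rw [Finset.sum_insert ha]
    exact isGenChar_add (h a (Finset.mem_insert_self a s))
      (ih fun i hi => h i (Finset.mem_insert_of_mem hi))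

theorem isChar_eq_zero_of_one {χ : G → ℂ} (h : IsCharacter G χ) (h1 : χ 1 = 0) : χ = 0 := by
  obtain ⟨n, ρ, rfl⟩ := h
  rw [Representation.char_one, Module.finrank_fin_fun] at h1
  have hn : n = 0 := by exact_mod_cast h1
  subst hn
  exact char_eq_zero_of_subsingleton ρ

end Gen

end Cfsg.Agent.Lib.Helper35
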