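import Cfsg.Agent.Lib.Helper35.Sibley
import Cfsg.Agent.S1520
import Mathlib

set_option autoImplicit false
open Cfsg

namespace Cfsg.Agent.Lib.Helper35

open Cfsg.Agent.Lib
open scoped ComplexConjugate commutatorElement

section NilAbel

/-- a finite nilpotent group whose order is divisible by `p` has an element whose image in the
abelianisation is not killed by a given exponent prime to `p` -/
theorem nil_abel_pow_ne_one {K : Type*} [Group K] [Finite K] [hnil : Group.IsNilpotent K]
    (p : ℕ) (hp : p.Prime) (hpK : p ∣ Nat.card K) (m : ℕ) (hm : Nat.Coprime m p) :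
    ∃ x : K, (Abelianization.of x) ^ m ≠ 1 := by
  classical
  have : Fact p.Prime := ⟨hp⟩
  have hn : ∀ {r : ℕ} [Fact r.Prime] (P : Sylow r K), (P : Subgroup K).Normal :=
    fun P => inferInstance
  let φ := Sylow.directProductOfNormal (G := K) hn
  have hpmem : p ∈ (Nat.card K).primeFactors :=
    Nat.mem_primeFactors.mpr ⟨hp, hpK, Nat.card_pos.ne'⟩
  let P₀ : Sylow p K := default
  have hP₀ : Nontrivial ↥(P₀ : Subgroup K) := by
    rw [← Finite.one_lt_card_iff_nontrivial, P₀.card_eq_multiplicity]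
    apply Nat.one_lt_pow _ hp.one_lt
    have := (hp.factorization_pos_of_dvd Nat.card_pos.ne' hpK)
    omega
  have hnilP : Group.IsNilpotent ↥(P₀ : Subgroup K) := P₀.isPGroup'.isNilpotent
  have hlt := Group.IsSolvable.commutator_lt_top_of_nontrivial ↥(P₀ : Subgroup K)
  obtain ⟨y, -, hy⟩ := SetLike.exists_of_lt hlt
  have hy' : Abelianization.of y ≠ 1 := by
    intro h
    apply hy
    rw [← Abelianization.ker_of]
    exact MonoidHom.mem_ker.mpr h
  obtain ⟨x, hx⟩ : ∃ x : K, x = φ (Pi.mulSingle ⟨p, hpmem⟩ (Pi.mulSingle P₀ y)) := ⟨_, rfl⟩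
  obtain ⟨f₀, hf₀def⟩ : ∃ f₀ : K →* ↥(P₀ : Subgroup K), f₀ =
      (Pi.evalMonoidHom (fun P : Sylow p K => ↥(P : Subgroup K)) P₀).comp
        ((Pi.evalMonoidHom (fun r : (Nat.card K).primeFactors =>
          ∀ P : Sylow r K, ↥(P : Subgroup K)) ⟨p, hpmem⟩).comp φ.symm.toMonoidHom) := ⟨_, rfl⟩
  have hf₀ : f₀ x = y := by
    rw [hf₀def, hx]
    simp
  refine ⟨x, fun h => hy' ?_⟩
  have h1 : (Abelianization.of (f₀ x)) ^ m = 1 := by
    have h2 := congrArg (Abelianization.map f₀) h
    rwa [map_pow, Abelianization.map_of, map_one] at h2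
  rw [hf₀] at h1
  have hpAb : IsPGroup p (Abelianization ↥(P₀ : Subgroup K)) :=
    P₀.isPGroup'.to_quotient _
  obtain ⟨k, hk⟩ := hpAb (Abelianization.of y)
  have h2 : orderOf (Abelianization.of y) ∣ m := orderOf_dvd_of_pow_eq_one h1
  have h3 : orderOf (Abelianization.of y) ∣ p ^ k := orderOf_dvd_of_pow_eq_one hk
  have h4 : orderOf (Abelianization.of y) = 1 :=
    (Nat.Coprime.coprime_dvd_left h2 (Nat.Coprime.pow_right k hm)).eq_one_of_dvd h3
  exact orderOf_eq_one_iff.mp h4

end NilAbel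

section PowKer

variable {H : Type*} [Group H] (M : Subgroup H)

/-- the elements of `M` whose `m`-th power lies in the commutator subgroup of `M` -/
noncomputable def powKer (m : ℕ) : Subgroup H :=
  (((powMonoidHom m : Abelianization M →* Abelianization M).comp Abelianization.of).ker).map
    M.subtype

theorem powKer_le (m : ℕ) : powKer M m ≤ M := Subgroup.map_subtype_le _

theorem commutator_le_powKer (m : ℕ) : ⁅M, M⁆ ≤ powKer M m := by
  rw [← Subgroup.map_subtype_commutator]
  apply Subgroup.map_mono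
  intro x hx
  rw [← Abelianization.ker_of] at hx
  rw [MonoidHom.mem_ker, MonoidHom.comp_apply, MonoidHom.mem_ker.mp hx, map_one]

theorem powKer_normal [hM : M.Normal] (m : ℕ) : (powKer M m).Normal := by
  refine ⟨fun z hz g => ?_⟩
  obtain ⟨y, hy, rfl⟩ := Subgroup.mem_map.mp hz
  refine Subgroup.mem_map.mpr ⟨MulAut.conjNormal g y, ?_, ?_⟩
  · rw [MonoidHom.mem_ker, MonoidHom.comp_apply, powMonoidHom_apply] at hy ⊢
    have h1 : Abelianization.of ((MulAut.conjNormal g : M ≃* M) y) =
        Abelianization.map (MulAut.conjNormal g : M ≃* M).toMonoidHom (Abelianization.of y) := rfl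
    rw [h1, ← map_pow, hy, map_one]
  · simp [MulAut.conjNormal_apply]

theorem powKer_relIndex [Finite M] [hnil : Group.IsNilpotent M] (p : ℕ) (hp : p.Prime)
    (k m : ℕ) (hk : 0 < k) (hcard : Nat.card M = p ^ k * m) (hm : Nat.Coprime m p) :
    ∃ j : ℕ, 0 < j ∧ (powKer M m).relIndex M = p ^ j := by
  have : Fact p.Prime := ⟨hp⟩
  obtain ⟨f, hf⟩ : ∃ f : M →* Abelianization M,
      f = (powMonoidHom m).comp Abelianization.of := ⟨_, rfl⟩
  have hrel : (powKer M m).relIndex M = Nat.card f.range := by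
    unfold Subgroup.relIndex powKer
    rw [← hf]
    have h1 : (f.ker.map M.subtype).subgroupOf M = f.ker := by
      ext x
      rw [Subgroup.mem_subgroupOf, Subgroup.mem_map]
      constructor
      · rintro ⟨y, hy, hyx⟩
        have : y = x := Subtype.ext hyx
        rw [← this]
        exact hy
      · intro hx
        exact ⟨x, hx, rfl⟩
    rw [h1, Subgroup.index_ker]
  have hpg : IsPGroup p f.range := by
    rintro ⟨z, hz⟩
    obtain ⟨x, rfl⟩ := MonoidHom.mem_range.mp hz
    refine ⟨k, Subtype.ext ?_⟩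
    show f x ^ p ^ k = 1
    rw [hf, MonoidHom.comp_apply, powMonoidHom_apply, ← pow_mul, mul_comm, ← hcard, ← map_pow,
      pow_card_eq_one', map_one]
  obtain ⟨j, hj⟩ := IsPGroup.iff_card.mp hpg
  refine ⟨j, ?_, by rw [hrel, hj]⟩
  by_contra h0
  have hj0 : j = 0 := by omega
  rw [hj0, pow_zero] at hj
  obtain ⟨x, hx⟩ := nil_abel_pow_ne_one (K := M) p hp
    (by rw [hcard]; exact Dvd.dvd.mul_right (dvd_pow_self p hk.ne') m) m hm
  apply hx
  have hsub : Subsingleton f.range := (Nat.card_eq_one_iff_unique.mp hj).1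
  have h2 : (⟨f x, MonoidHom.mem_range.mpr ⟨x, rfl⟩⟩ : f.range) = 1 := Subsingleton.elim _ _
  have h3 := congrArg Subtype.val h2
  rw [hf] at h3
  exact h3

end PowKer

section FrobNil

variable {H : Type*} [Group H] [Fintype H] (M : Subgroup H) [hM : M.Normal]

/-- in a Frobenius group with kernel `M`, the index in `M` of a normal subgroup of the whole
group contained in `M` is congruent to `1` modulo the index of `M` -/
theorem frob_relIndex_dvd (hfrob : ∀ y : H, y ∉ M → ∀ k ∈ M, k * y = y * k → k = 1)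
    (A : Subgroup H) [hA : A.Normal] (hAM : A ≤ M) : M.index ∣ A.relIndex M - 1 := by
  classical
  let _ : Fintype M := Fintype.ofFinite _
  have h1 := sum_sq_ntFin A
  have h2 : M.index ^ 2 ∣ ∑ f ∈ ntFin A, charDegree f ^ 2 := by
    apply Finset.dvd_sum
    intro f hf
    have hf' := ntSet_mono hAM (mem_ntFin.mp hf)
    obtain ⟨t, -, ht, -, -⟩ := frob_irr_deg M hfrob hf'.1 hf'.2 ⊥ bot_le
      (fun z hz k _ => by rw [Subgroup.mem_bot.mp hz]; simp)
    rw [ht]
    exact pow_dvd_pow_of_dvd (Dvd.intro _ rfl) 2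
  have h3 := Subgroup.card_mul_index M
  have h4 := Subgroup.relIndex_mul_index hAM
  have h5 := frob_index_dvd M hfrob
  have hpos : 0 < M.index := Nat.pos_of_ne_zero Subgroup.index_ne_zero_of_finite
  have hrle : A.relIndex M ≤ Nat.card M :=
    Nat.le_of_dvd Nat.card_pos (Subgroup.relIndex_dvd_card A M)
  have hr : 1 ≤ A.relIndex M := by
    have h0 : A.relIndex M ≠ 0 := by
      intro h
      rw [h, zero_mul] at h4
      exact Subgroup.index_ne_zero_of_finite h4.symm
    omega
  have h6 : ∑ f ∈ ntFin A, charDegree f ^ 2 = M.index * (Nat.card M - A.relIndex M) := by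
    have h7 : M.index * (Nat.card M - A.relIndex M) + A.index = Nat.card H := by
      rw [← h4, ← h3, Nat.mul_sub]
      have h8 : M.index * A.relIndex M ≤ M.index * Nat.card M := Nat.mul_le_mul_left _ hrle
      have h9 : A.relIndex M * M.index = M.index * A.relIndex M := mul_comm _ _
      have h10 : Nat.card M * M.index = M.index * Nat.card M := mul_comm _ _
      omega
    omega
  rw [h6, pow_two] at h2
  have h7 : M.index ∣ Nat.card M - A.relIndex M := Nat.dvd_of_mul_dvd_mul_left hpos h2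
  have h8 : A.relIndex M - 1 = (Nat.card M - 1) - (Nat.card M - A.relIndex M) := by omega
  rw [h8]
  exact Nat.dvd_sub h5 h7

/-- in a Frobenius group of odd order whose kernel `M` is nilpotent and not of prime power
order, the commutator quotient of `M` has more than `4 |H : M|² + 1` elements -/
theorem frob_commutator_big (hfrob : ∀ y : H, y ∉ M → ∀ k ∈ M, k * y = y * k → k = 1)
    (hodd : Odd (Nat.card H)) (hnil : Group.IsNilpotent M) (p q : ℕ) (hp : p.Prime)
    (hq : q.Prime) (hpq : p ≠ q) (hpM : p ∣ Nat.card M) (hqM : q ∣ Nat.card M) :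
    4 * M.index ^ 2 + 1 < (⁅M, M⁆).relIndex M := by
  classical
  have hMpos : Nat.card M ≠ 0 := Nat.card_pos.ne'
  have hoddM : Odd (Nat.card M) := by
    have h1 := Subgroup.card_mul_index M
    rw [← h1] at hodd
    exact (Nat.odd_mul.mp hodd).1
  have hodde : Odd M.index := by
    have h1 := Subgroup.card_mul_index M
    rw [← h1] at hodd
    exact (Nat.odd_mul.mp hodd).2
  -- for each prime, a normal subgroup of prime power index
  have key : ∀ r : ℕ, r.Prime → r ∣ Nat.card M → ∃ (A : Subgroup H) (j : ℕ), 0 < j ∧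
      ⁅M, M⁆ ≤ A ∧ A.relIndex M = r ^ j ∧ 2 * M.index + 1 ≤ r ^ j := by
    intro r hr hrM
    obtain ⟨k, m, hm, hkm⟩ := Nat.exists_eq_pow_mul_and_not_dvd hMpos r hr.one_lt.ne'
    have hk : 0 < k := by
      by_contra h
      have hk0 : k = 0 := by omega
      rw [hk0, pow_zero, one_mul] at hkm
      rw [hkm] at hrM
      exact hm hrM
    have hcop : Nat.Coprime m r := ((Nat.Prime.coprime_iff_not_dvd hr).mpr hm).symm
    obtain ⟨j, hj, hrel⟩ := powKer_relIndex M r hr k m hk hkm hcop
    have hAn : (powKer M m).Normal := powKer_normal M m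
    have hdvd := frob_relIndex_dvd M hfrob (powKer M m) (powKer_le M m)
    rw [hrel] at hdvd
    refine ⟨powKer M m, j, hj, commutator_le_powKer M m, hrel, ?_⟩
    have hrodd : Odd (r ^ j) := by
      have h1 : r ^ j ∣ Nat.card M := by
        rw [← hrel]
        exact Subgroup.relIndex_dvd_card _ _
      exact Odd.of_dvd_nat hoddM h1
    have h2 : 2 ∣ r ^ j - 1 := by
      obtain ⟨c, hc⟩ := hrodd
      exact ⟨c, by omega⟩
    have h3 : 2 * M.index ∣ r ^ j - 1 :=
      (Nat.coprime_two_left.mpr hodde).mul_dvd_of_dvd_of_dvd h2 hdvd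
    have h4 : 1 < r ^ j := Nat.one_lt_pow (by omega) hr.one_lt
    have h5 := Nat.le_of_dvd (by omega) h3
    omega
  obtain ⟨A₁, j₁, hj₁, hA₁, hrel₁, hbig₁⟩ := key p hp hpM
  obtain ⟨A₂, j₂, hj₂, hA₂, hrel₂, hbig₂⟩ := key q hq hqM
  have hd1 : p ^ j₁ ∣ (⁅M, M⁆).relIndex M := by
    rw [← hrel₁]
    exact Subgroup.relIndex_dvd_of_le_left M hA₁
  have hd2 : q ^ j₂ ∣ (⁅M, M⁆).relIndex M := by
    rw [← hrel₂]
    exact Subgroup.relIndex_dvd_of_le_left M hA₂
  have hcop : Nat.Coprime (p ^ j₁) (q ^ j₂) :=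
    Nat.Coprime.pow _ _ ((Nat.coprime_primes hp hq).mpr hpq)
  have hd : p ^ j₁ * q ^ j₂ ∣ (⁅M, M⁆).relIndex M := hcop.mul_dvd_of_dvd_of_dvd hd1 hd2
  have hpos : 0 < (⁅M, M⁆).relIndex M := by
    apply Nat.pos_of_ne_zero
    intro h
    have h1 := Subgroup.relIndex_dvd_card (⁅M, M⁆) M
    rw [h] at h1
    exact hMpos (Nat.eq_zero_of_zero_dvd h1)
  have hle := Nat.le_of_dvd hpos hd
  have h6 : (2 * M.index + 1) * (2 * M.index + 1) ≤ p ^ j₁ * q ^ j₂ :=
    Nat.mul_le_mul hbig₁ hbig₂
  have hepos : 0 < M.index := Nat.pos_of_ne_zero Subgroup.index_ne_zero_of_finite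
  nlinarith

end FrobNil

section FrobInd

variable {H : Type*} [Group H] [Fintype H] (M : Subgroup H) [hM : M.Normal]

/-- in a Frobenius group, the functions induced from the non-principal irreducible characters of
the kernel are exactly the irreducible characters not trivial on the kernel -/
theorem induced_eq_ntSet (hfrob : ∀ y : H, y ∉ M → ∀ k ∈ M, k * y = y * k → k = 1) :
    inducedIrrAbove M ⊥ = ntSet M := by
  classical
  let _ : Fintype M := Fintype.ofFinite _
  ext φ
  constructor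
  · rintro ⟨θ, hθ, hθ1, -, rfl⟩
    have hirr := frob_ind_irr M hfrob hθ hθ1
    refine ⟨hirr, fun hall => ?_⟩
    have h1 : classInner (indFun M θ) (indFun M θ) = 1 := Helper36.classInner_irr_self hirr
    rw [Helper35.frobenius_reciprocity M θ _ (Helper35.isClassFunction_indFun M θ)] at h1
    have h2 : Helper35.res M (indFun M θ) = (indFun M θ 1) • (fun _ : M => (1 : ℂ)) := by
      funext k
      rw [Helper35.res_apply, Pi.smul_apply, smul_eq_mul, mul_one]
      exact hall k k.2
    have h3 : classInner θ (fun _ : M => (1 : ℂ)) = 0 :=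
      (Helper35.classInner_irr' hθ (Helper83.trivIrr M).2).trans (if_neg hθ1)
    rw [h2, Helper35.classInner_smul_right, h3, mul_zero] at h1
    exact zero_ne_one h1
  · intro hφ
    obtain ⟨θ, hθ, hθ1, rfl⟩ := frob_irr_eq_ind M hfrob hφ.1 hφ.2
    refine ⟨θ, hθ, hθ1, fun a ha => ?_, rfl⟩
    rw [Subgroup.mem_bot] at ha
    have : a = 1 := Subtype.ext ha
    rw [this]

/-- coherence for a Frobenius group of odd order whose kernel is nilpotent and not of prime
power order -/
theorem frob_nonpgroup_coherent {G : Type*} [Group G] [Fintype G]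
    (hfrob : ∀ y : H, y ∉ M → ∀ k ∈ M, k * y = y * k → k = 1)
    (hodd : Odd (Nat.card H)) (hnil : Group.IsNilpotent M) (p q : ℕ) (hp : p.Prime)
    (hq : q.Prime) (hpq : p ≠ q) (hpM : p ∣ Nat.card M) (hqM : q ∣ Nat.card M)
    (τ : (H → ℂ) → (G → ℂ)) (hτ : IsLinearIsometryOn (zspanOn (ntSet M) {1}ᶜ) τ)
    (hτ1 : ∀ α ∈ zspanOn (ntSet M) {1}ᶜ, τ α 1 = 0) :
    IsCoherent (ntSet M) {1}ᶜ τ := by
  classical
  let _ : Fintype M := Fintype.ofFinite _
  have hind := induced_eq_ntSet M hfrob
  have hsolv : Group.IsSolvable M := inferInstance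
  have hMnt : Nontrivial M := by
    rw [← Finite.one_lt_card_iff_nontrivial]
    exact lt_of_lt_of_le hp.one_lt (Nat.le_of_dvd Nat.card_pos hpM)
  have hle : ⁅M, M⁆ ≤ M := Subgroup.commutator_le_right M M
  have hlt : ⁅M, M⁆ < M := by
    refine lt_of_le_of_ne hle fun h => ?_
    have h1 := Group.IsSolvable.commutator_lt_top_of_nontrivial M
    apply h1.ne
    apply Subgroup.map_injective M.subtype_injective
    rw [Subgroup.map_subtype_commutator, h, ← MonoidHom.range_eq_map, Subgroup.range_subtype]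
  have hsub : inducedIrrAbove M ⁅M, M⁆ ⊆ ntSet M := by
    rw [← hind]
    exact S1519.induced_mono M bot_le
  have hdeg : ∀ φ ∈ inducedIrrAbove M ⁅M, M⁆, φ 1 = (M.index : ℂ) := by
    rintro φ ⟨θ, hθ, hθ1, hker, rfl⟩
    rw [Helper35.indFun_one_eq]
    have h1 := S1519.central_bound hθ ⊤ (fun x _ g => by
      apply hker
      have h2 : ((x⁻¹ * (g * x * g⁻¹) : M) : H) = ⁅((x⁻¹ : M) : H), (g : H)⁆ := by
        simp [commutatorElement_def, mul_assoc]
      rw [h2]
      exact Subgroup.commutator_mem_commutator (M.inv_mem x.2) g.2)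
    rw [Subgroup.card_top] at h1
    obtain ⟨hpos, hd⟩ := Helper83.irr_degree hθ
    have hMpos : 0 < Nat.card M := Nat.card_pos
    have h3 : charDegree θ ^ 2 ≤ 1 := by
      by_contra h
      push Not at h
      have : Nat.card M * 1 < Nat.card M * charDegree θ ^ 2 := Nat.mul_lt_mul_of_pos_left h hMpos
      omega
    have h4 : charDegree θ = 1 := by nlinarith
    rw [hd, h4]
    simp
  have hcoh : IsCoherent (inducedIrrAbove M ⁅M, M⁆) {1}ᶜ τ := by
    refine uniform_coherent _ ?_ (fun χ hχ => (hsub hχ).1) ?_ τ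
      (isoOn_mono (Helper36.zspanOn_mono hsub _) hτ)
      (fun α hα => hτ1 α (Helper36.zspanOn_mono hsub _ hα))
      (fun φ hφ ψ hψ => by rw [hdeg φ hφ, hdeg ψ hψ])
    · obtain ⟨θ, hθ, hθ1, hker, -⟩ := S1519.exists_linear M hsolv ⁅M, M⁆ hlt
      exact ⟨indFun M θ, θ, hθ, hθ1, hker, rfl⟩
    · intro χ hχ
      exact ⟨S1519.conj_mem_induced M _ hχ, (ntSet_conj hodd (hsub hχ)).2⟩
  have hne : (ntSet M).Nonempty := by
    obtain ⟨θ, hθ, hθ1, hker, -⟩ := S1519.exists_linear M hsolv ⁅M, M⁆ hlt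
    exact ⟨indFun M θ, hsub ⟨θ, hθ, hθ1, hker, rfl⟩⟩
  obtain ⟨R, hR⟩ := S1514.result (ntSet M) hne (fun χ h => h.1) (fun χ h => ntSet_conj hodd h) τ
    hτ hτ1
  rw [← hind] at hR ⊢
  have hbig := frob_commutator_big M hfrob hodd hnil p q hp hq hpq hpM hqM
  have hnilq : Group.IsNilpotent (↥M ⧸ (⊥ : Subgroup H).subgroupOf M) := inferInstance
  exact S1520.result M hsolv τ R hR ⊥ ⁅M, M⁆ M bot_le hle le_rfl hnilq hcoh hbig

end FrobInd

end Cfsg.Agent.Lib.Helper35
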