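import Cfsg.Agent.Lib.Helper35.FeitCoh
import Cfsg.Agent.Lib.Helper4.IndFun
import Cfsg.Agent.Lib.Helper4.BrSuz
import Cfsg.Prelude.Def_OddOrderLocal
import Mathlib

set_option autoImplicit false
open Cfsg

namespace Cfsg.Agent.Lib.Helper35

open Cfsg.Agent.Lib
open scoped ComplexConjugate

section TiSetup

variable {G : Type*} [Group G] [Fintype G] (K : Subgroup G)

/-- the Frobenius condition inside `N` from the centraliser condition in `G` -/
theorem ti_frob (N : Subgroup G)
    (hC : ∀ k ∈ K, k ≠ 1 → Subgroup.centralizer ({k} : Set G) ≤ K) :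
    ∀ y : N, y ∉ K.subgroupOf N → ∀ k ∈ K.subgroupOf N, k * y = y * k → k = 1 := by
  intro y hy k hk hky
  by_contra hk1
  have hk1' : (k : G) ≠ 1 := fun h => hk1 (Subtype.ext h)
  have h1 := hC (k : G) (Subgroup.mem_subgroupOf.mp hk) hk1'
  apply hy
  rw [Subgroup.mem_subgroupOf]
  apply h1
  rw [Subgroup.mem_centralizer_singleton_iff]
  have h2 : (k : G) * (y : G) = (y : G) * (k : G) := congrArg Subtype.val hky
  exact h2.symm

/-- integer combinations of the characters of `N` not trivial on `K` vanish off `K` -/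
theorem ntSet_vanish (N : Subgroup G) [Fintype N] [hMn : (K.subgroupOf N).Normal]
    (hC : ∀ k ∈ K, k ≠ 1 → Subgroup.centralizer ({k} : Set G) ≤ K) {α : N → ℂ}
    (hα : α ∈ zspan (ntSet (K.subgroupOf N))) (y : N) (hy : (y : G) ∉ K) : α y = 0 := by
  classical
  have := Helper4.irr_finite (G := N)
  let _ : Fintype (IrrCharacter N) := Fintype.ofFinite _
  obtain ⟨s, c, hs, rfl⟩ := Helper36.zspan_exists_decomp hα
  rw [Finset.sum_apply]
  apply Finset.sum_eq_zero
  intro ψ hψ
  have hψ' := hs hψ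
  have h1 := Helper20.irr_vanish_of_centralizer (K.subgroupOf N) y
    (ti_frob K N hC y (fun h => hy (Subgroup.mem_subgroupOf.mp h))) ⟨ψ, hψ'.1⟩ hψ'.2
  rw [Pi.smul_apply]
  have h2 : ψ y = 0 := h1
  rw [h2, smul_zero]

/-- induction from the normaliser of a T.I. subgroup with Frobenius normaliser is an isometry
on the integer combinations, vanishing at `1`, of the characters not trivial on the subgroup -/
theorem ti_isometry (N : Subgroup G) [Fintype N] (hN : Subgroup.normalizer (K : Set G) = N)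
    (hTI : IsTISubset (K : Set G))
    (hC : ∀ k ∈ K, k ≠ 1 → Subgroup.centralizer ({k} : Set G) ≤ K) :
    IsLinearIsometryOn (zspanOn (ntSet (K.subgroupOf N)) {1}ᶜ) (fun α => indFun N α) ∧
      ∀ α ∈ zspanOn (ntSet (K.subgroupOf N)) {1}ᶜ, indFun N α 1 = 0 := by
  classical
  subst hN
  have hMn : (K.subgroupOf (Subgroup.normalizer (K : Set G))).Normal :=
    Subgroup.normal_in_normalizer
  have hgen : ∀ α ∈ zspanOn (ntSet (K.subgroupOf (Subgroup.normalizer (K : Set G)))) {1}ᶜ,
      IsGeneralizedCharacter (Subgroup.normalizer (K : Set G)) α := fun α hα =>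
    Helper36.zspan_isGenChar (fun χ hχ => hχ.1) hα.1
  have h1 : ∀ α ∈ zspanOn (ntSet (K.subgroupOf (Subgroup.normalizer (K : Set G)))) {1}ᶜ,
      α 1 = 0 := fun α hα => (Helper36.mem_zspanOn_compl_one.mp hα).2
  refine ⟨⟨?_, ?_, ?_, ?_⟩, ?_⟩
  · intro α _ β _
    exact Helper35.indFun_add _ α β
  · intro α _ n
    show indFun _ (n • α) = n • indFun _ α
    rw [Helper36.zsmul_eq_smul_cast, Helper35.indFun_smul, ← Helper36.zsmul_eq_smul_cast]
  · intro α hα β hβ
    exact Helper4.indFun_ti_isometry (K : Set G) hTI α β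
      (Helper4.isClassFunction_of_genChar β (hgen β hβ))
      (fun x hx => ntSet_vanish K _ hC hα.1 x hx) (fun x hx => ntSet_vanish K _ hC hβ.1 x hx)
      (h1 α hα)
  · intro α hα
    exact Helper35.isGenChar_indFun _ (hgen α hα)
  · intro α hα
    rw [Helper35.indFun_one_eq, h1 α hα, mul_zero]

end TiSetup

end Cfsg.Agent.Lib.Helper35
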