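import Cfsg.Agent.Lib.Helper35.Sibley
import Cfsg.Agent.Lib.Helper20.Coh
import Cfsg.Agent.S1523
import Mathlib

set_option autoImplicit false
open Cfsg

namespace Cfsg.Agent.Lib.Helper35

open Cfsg.Agent.Lib
open scoped ComplexConjugate

section Syl

variable {G : Type*} [Group G] [Fintype G]

/-- the divisibility property (Peterfalvi (6.7)) for the centre of a T.I. Sylow subgroup with
Frobenius normaliser of odd order, in the form needed by `sibley_main` -/
theorem sylow_hdiv (p : ℕ) [Fact p.Prime] (P : Sylow p G)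
    (hTI : IsTISubset ((P : Subgroup G) : Set G))
    (hC : ∀ k ∈ (P : Subgroup G), k ≠ 1 → Subgroup.centralizer ({k} : Set G) ≤ (P : Subgroup G))
    [Fintype ↥(Subgroup.normalizer ((P : Subgroup G) : Set G))]
    (hodd : Odd (Nat.card (Subgroup.normalizer ((P : Subgroup G) : Set G))))
    (ψ : G → ℂ) (hψ : IsIrrCharacter G ψ)
    (hconst : ∀ z z' : ↥(Subgroup.normalizer ((P : Subgroup G) : Set G)),
      z ∈ (P : Subgroup G).subgroupOf (Subgroup.normalizer ((P : Subgroup G) : Set G)) ⊓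
        Subgroup.centralizer (((P : Subgroup G).subgroupOf
          (Subgroup.normalizer ((P : Subgroup G) : Set G)) : Subgroup _) : Set _) →
      z' ∈ (P : Subgroup G).subgroupOf (Subgroup.normalizer ((P : Subgroup G) : Set G)) ⊓
        Subgroup.centralizer (((P : Subgroup G).subgroupOf
          (Subgroup.normalizer ((P : Subgroup G) : Set G)) : Subgroup _) : Set _) →
      z ≠ 1 → z' ≠ 1 → ψ z = ψ z')
    (z : ↥(Subgroup.normalizer ((P : Subgroup G) : Set G)))
    (hz : z ∈ (P : Subgroup G).subgroupOf (Subgroup.normalizer ((P : Subgroup G) : Set G)) ⊓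
        Subgroup.centralizer (((P : Subgroup G).subgroupOf
          (Subgroup.normalizer ((P : Subgroup G) : Set G)) : Subgroup _) : Set _))
    (hz1 : z ≠ 1) :
    ∃ n d : ℤ, ψ z = n ∧ ψ 1 = d ∧
      (Nat.card ((P : Subgroup G).subgroupOf
        (Subgroup.normalizer ((P : Subgroup G) : Set G))) : ℤ) ∣ d - n := by
  classical
  have hPN : (P : Subgroup G) ≤ Subgroup.normalizer ((P : Subgroup G) : Set G) :=
    Subgroup.le_normalizer
  have hcardM : Nat.card ((P : Subgroup G).subgroupOf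
      (Subgroup.normalizer ((P : Subgroup G) : Set G))) = Nat.card (P : Subgroup G) :=
    Nat.card_congr (Subgroup.subgroupOfEquivOfLe hPN).toEquiv
  -- the centre of `P` as a subgroup of `G`
  obtain ⟨ZG, hZG⟩ : ∃ ZG : Subgroup G,
      ZG = (P : Subgroup G) ⊓ Subgroup.centralizer ((P : Subgroup G) : Set G) := ⟨_, rfl⟩
  have hmemZG : ∀ x : G, x ∈ ZG ↔ x ∈ (P : Subgroup G) ∧ ∀ y ∈ (P : Subgroup G), y * x = x * y := by
    intro x
    rw [hZG, Subgroup.mem_inf, Subgroup.mem_centralizer_iff]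
    rfl
  have hmemZ : ∀ w : ↥(Subgroup.normalizer ((P : Subgroup G) : Set G)),
      w ∈ (P : Subgroup G).subgroupOf (Subgroup.normalizer ((P : Subgroup G) : Set G)) ⊓
        Subgroup.centralizer (((P : Subgroup G).subgroupOf
          (Subgroup.normalizer ((P : Subgroup G) : Set G)) : Subgroup _) : Set _) ↔
      (w : G) ∈ ZG := by
    intro w
    rw [hmemZG, Subgroup.mem_inf, Subgroup.mem_centralizer_iff, Subgroup.mem_subgroupOf]
    constructor
    · rintro ⟨h1, h2⟩
      refine ⟨h1, fun y hy => ?_⟩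
      have := h2 ⟨y, hPN hy⟩ (Subgroup.mem_subgroupOf.mpr hy)
      exact congrArg Subtype.val this
    · rintro ⟨h1, h2⟩
      refine ⟨h1, fun y hy => ?_⟩
      apply Subtype.ext
      exact h2 (y : G) (Subgroup.mem_subgroupOf.mp hy)
  have hzG : (z : G) ∈ ZG := (hmemZ z).mp hz
  have hzG1 : (z : G) ≠ 1 := fun h => hz1 (Subtype.ext h)
  have hZ1 : ZG ≠ ⊥ := by
    intro h
    rw [h, Subgroup.mem_bot] at hzG
    exact hzG1 hzG
  have hZP : ZG ≤ (P : Subgroup G) := fun x hx => ((hmemZG x).mp hx).1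
  have hZc : ∀ x ∈ ZG, ∀ y ∈ (P : Subgroup G), x * y = y * x :=
    fun x hx y hy => (((hmemZG x).mp hx).2 y hy).symm
  have hZn : ∀ x ∈ Subgroup.normalizer ((P : Subgroup G) : Set G), ∀ w ∈ ZG,
      x * w * x⁻¹ ∈ ZG := by
    intro x hx w hw
    have hPn : ∀ y, y ∈ (P : Subgroup G) → x * y * x⁻¹ ∈ (P : Subgroup G) := by
      intro y hy
      exact (Subgroup.mem_normalizer_iff.mp hx y).mp hy
    have hPn' : ∀ y, y ∈ (P : Subgroup G) → x⁻¹ * y * x ∈ (P : Subgroup G) := by
      intro y hy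
      have := (Subgroup.mem_normalizer_iff.mp (Subgroup.inv_mem _ hx) y).mp hy
      rwa [inv_inv] at this
    rw [hmemZG] at hw ⊢
    refine ⟨hPn w hw.1, fun y hy => ?_⟩
    have h1 := hw.2 (x⁻¹ * y * x) (hPn' y hy)
    calc y * (x * w * x⁻¹) = x * ((x⁻¹ * y * x) * w) * x⁻¹ := by group
      _ = x * (w * (x⁻¹ * y * x)) * x⁻¹ := by rw [h1]
      _ = x * w * x⁻¹ * y := by group
  have hcent : ∀ w ∈ ZG, w ≠ 1 →
      Subgroup.normalizer ((P : Subgroup G) : Set G) ⊓ Subgroup.centralizer ({w} : Set G) =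
        (P : Subgroup G) := by
    intro w hw hw1
    apply le_antisymm
    · intro x hx
      exact hC w (hZP hw) hw1 (Subgroup.mem_inf.mp hx).2
    · intro x hx
      refine Subgroup.mem_inf.mpr ⟨hPN hx, ?_⟩
      rw [Subgroup.mem_centralizer_singleton_iff]
      exact ((hZc w hw x hx)).symm
  have hCL : ∀ w ∈ ZG, ∀ w' ∈ ZG, w ≠ 1 → w' ≠ 1 →
      Nat.card ↥(Subgroup.normalizer ((P : Subgroup G) : Set G) ⊓
        Subgroup.centralizer ({w} : Set G)) =
      Nat.card ↥(Subgroup.normalizer ((P : Subgroup G) : Set G) ⊓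
        Subgroup.centralizer ({w'} : Set G)) := by
    intro w hw w' hw' hw1 hw'1
    rw [hcent w hw hw1, hcent w' hw' hw'1]
  have hconst' : ∀ w ∈ ZG, ∀ w' ∈ ZG, w ≠ 1 → w' ≠ 1 → ψ w = ψ w' := by
    intro w hw w' hw' hw1 hw'1
    exact hconst ⟨w, hPN (hZP hw)⟩ ⟨w', hPN (hZP hw')⟩ ((hmemZ _).mpr hw) ((hmemZ _).mpr hw')
      (fun h => hw1 (congrArg Subtype.val h)) (fun h => hw'1 (congrArg Subtype.val h))
  rw [hcardM]
  exact S1523.result p P hTI hodd ZG hZ1 hZP hZn hZc hCL ψ hψ hconst' (z : G) hzG hzG1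

/-- Sibley's coherence theorem for a non-abelian T.I. Sylow `p`-subgroup (`p` odd) with
Frobenius normaliser -/
theorem sylow_coh_nonabelian (p : ℕ) [Fact p.Prime] (hp : p ≠ 2) (P : Sylow p G)
    (hna : ¬ IsMulCommutative (P : Subgroup G))
    (hTI : IsTISubset ((P : Subgroup G) : Set G))
    (hC : ∀ k ∈ (P : Subgroup G), k ≠ 1 → Subgroup.centralizer ({k} : Set G) ≤ (P : Subgroup G))
    [Fintype ↥(Subgroup.normalizer ((P : Subgroup G) : Set G))] :
    IsCoherent (ntSet ((P : Subgroup G).subgroupOf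
      (Subgroup.normalizer ((P : Subgroup G) : Set G)))) {1}ᶜ
      (fun α => indFun (Subgroup.normalizer ((P : Subgroup G) : Set G)) α) := by
  classical
  have hMn : ((P : Subgroup G).subgroupOf
      (Subgroup.normalizer ((P : Subgroup G) : Set G))).Normal := Subgroup.normal_in_normalizer
  have hPN : (P : Subgroup G) ≤ Subgroup.normalizer ((P : Subgroup G) : Set G) :=
    Subgroup.le_normalizer
  have hfrob := ti_frob (P : Subgroup G) (Subgroup.normalizer ((P : Subgroup G) : Set G)) hC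
  have hpM : IsPGroup p ((P : Subgroup G).subgroupOf
      (Subgroup.normalizer ((P : Subgroup G) : Set G))) := P.isPGroup'.comap_subtype
  have hMo : Odd (Nat.card ((P : Subgroup G).subgroupOf
      (Subgroup.normalizer ((P : Subgroup G) : Set G)))) := by
    obtain ⟨n, hn⟩ := IsPGroup.iff_card.mp hpM
    rw [hn]
    exact Odd.pow ((Fact.out : p.Prime).odd_of_ne_two hp)
  have hMnc : ¬ ∀ a ∈ (P : Subgroup G).subgroupOf
      (Subgroup.normalizer ((P : Subgroup G) : Set G)),
      ∀ b ∈ (P : Subgroup G).subgroupOf (Subgroup.normalizer ((P : Subgroup G) : Set G)),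
      a * b = b * a := by
    intro hab
    apply hna
    refine ⟨⟨fun a b => ?_⟩⟩
    apply Subtype.ext
    have := hab ⟨(a : G), hPN a.2⟩ (Subgroup.mem_subgroupOf.mpr a.2) ⟨(b : G), hPN b.2⟩
      (Subgroup.mem_subgroupOf.mpr b.2)
    exact congrArg (fun x : ↥(Subgroup.normalizer ((P : Subgroup G) : Set G)) => (x : G)) this
  have hodd := frob_odd _ hfrob hMnc hMo
  obtain ⟨hα, hα1⟩ := ti_isometry (P : Subgroup G) _ rfl hTI hC
  exact sibley_main _ _ hfrob hodd p Fact.out hpM hMnc hα hα1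
    (fun ψ hψ hconst z hz hz1 => sylow_hdiv p P hTI hC hodd ψ hψ hconst z hz hz1)

/-- the abelian case: a T.I. abelian subgroup `K` with Frobenius normaliser `N` either has a
single relevant character, order `|N : K| + 1` and prime exponent, or its relevant characters
form a coherent set -/
theorem ti_abelian (K : Subgroup G) [Fintype ↥(Subgroup.normalizer (K : Set G))]
    (hTI : IsTISubset (K : Set G))
    (hC : ∀ k ∈ K, k ≠ 1 → Subgroup.centralizer ({k} : Set G) ≤ K)
    (hab : ∀ a ∈ K, ∀ b ∈ K, a * b = b * a) (hK1 : K ≠ ⊥) :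
    ((ntFin (K.subgroupOf (Subgroup.normalizer (K : Set G)))).card = 1 ∧
      Nat.card K = (K.subgroupOf (Subgroup.normalizer (K : Set G))).index + 1 ∧
      ∀ q : ℕ, q.Prime → q ∣ Nat.card K → ∀ a ∈ K, a ^ q = 1) ∨
    IsCoherent (ntSet (K.subgroupOf (Subgroup.normalizer (K : Set G)))) {1}ᶜ
      (fun α => indFun (Subgroup.normalizer (K : Set G)) α) := by
  classical
  have hMn : (K.subgroupOf (Subgroup.normalizer (K : Set G))).Normal :=
    Subgroup.normal_in_normalizer
  have hKN : K ≤ Subgroup.normalizer (K : Set G) := Subgroup.le_normalizer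
  have hfrob := ti_frob K (Subgroup.normalizer (K : Set G)) hC
  obtain ⟨M, hM⟩ : ∃ M : Subgroup ↥(Subgroup.normalizer (K : Set G)),
      M = K.subgroupOf (Subgroup.normalizer (K : Set G)) := ⟨_, rfl⟩
  rw [← hM] at hMn hfrob ⊢
  have hcardM : Nat.card M = Nat.card K := by
    rw [hM]
    exact Nat.card_congr (Subgroup.subgroupOfEquivOfLe hKN).toEquiv
  have hab' : ∀ a ∈ M, ∀ b ∈ M, a * b = b * a := by
    intro a ha b hb
    rw [hM] at ha hb
    apply Subtype.ext
    exact hab _ (Subgroup.mem_subgroupOf.mp ha) _ (Subgroup.mem_subgroupOf.mp hb)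
  have hepos : 0 < M.index := Nat.pos_of_ne_zero Subgroup.index_ne_zero_of_finite
  have hMpos : 0 < Nat.card M := Nat.card_pos
  have hdegE : ∀ χ ∈ ntSet M, charDegree χ = M.index := by
    intro χ hχ
    obtain ⟨t, ht0, ht, -, hle⟩ := frob_irr_deg M hfrob hχ.1 hχ.2 M le_rfl hab'
    have h1 : t ^ 2 ≤ 1 := by
      by_contra h
      push Not at h
      have : Nat.card M * 1 < Nat.card M * t ^ 2 := Nat.mul_lt_mul_of_pos_left h hMpos
      omega
    have h2 : t = 1 := by nlinarith
    rw [ht, h2, mul_one]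
  have hsumM := sum_sq_ntFin M
  have hsumM' : ∑ f ∈ ntFin M, charDegree f ^ 2 = (ntFin M).card * M.index ^ 2 := by
    rw [Finset.sum_congr rfl (fun f hf => by rw [hdegE f (mem_ntFin.mp hf)]), Finset.sum_const,
      smul_eq_mul]
  have hcardN := Subgroup.card_mul_index M
  have hM2 : 2 ≤ Nat.card M := by
    rw [hcardM]
    have := (Subgroup.one_lt_card_iff_ne_bot K).mpr hK1
    omega
  have hne : (ntFin M).Nonempty := by
    rw [Finset.nonempty_iff_ne_empty]
    intro h
    rw [h, Finset.sum_empty] at hsumM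
    have : 2 * M.index ≤ Nat.card M * M.index := Nat.mul_le_mul_right _ hM2
    omega
  by_cases hcard : (ntFin M).card = 1
  · left
    rw [hcard, one_mul] at hsumM'
    have hcardM' : Nat.card M = M.index + 1 := by
      have h1 : M.index * M.index + M.index = Nat.card M * M.index := by
        rw [hcardN, ← hsumM, hsumM', pow_two]
      have h2 : (M.index + 1) * M.index = Nat.card M * M.index := by
        rw [← h1]
        ring
      exact (Nat.eq_of_mul_eq_mul_right hepos h2).symm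
    refine ⟨hcard, by rw [← hcardM, hcardM'], ?_⟩
    intro q hq hqK a ha
    -- the subgroup of elements of order dividing `q`
    let T : Subgroup ↥(Subgroup.normalizer (K : Set G)) :=
      { carrier := {x | x ∈ M ∧ x ^ q = 1}
        one_mem' := ⟨M.one_mem, one_pow q⟩
        mul_mem' := by
          rintro x y ⟨hx, hxq⟩ ⟨hy, hyq⟩
          refine ⟨M.mul_mem hx hy, ?_⟩
          have hcomm : Commute x y := hab' x hx y hy
          rw [hcomm.mul_pow, hxq, hyq, one_mul]
        inv_mem' := by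
          rintro x ⟨hx, hxq⟩
          exact ⟨M.inv_mem hx, by rw [inv_pow, hxq, inv_one]⟩ }
    have hTmem : ∀ x, x ∈ T ↔ x ∈ M ∧ x ^ q = 1 := fun x => Iff.rfl
    have hTn : T.Normal := by
      refine ⟨fun x hx g => ?_⟩
      rw [hTmem] at hx ⊢
      exact ⟨hMn.conj_mem x hx.1 g, by rw [conj_pow, hx.2]; group⟩
    have hTM : T ≤ M := fun x hx => ((hTmem x).mp hx).1
    have hT1 : T ≠ ⊥ := by
      have hqK' : q ∣ Nat.card K := hqK
      have : Fact q.Prime := ⟨hq⟩
      obtain ⟨x, hx⟩ := exists_prime_orderOf_dvd_card' q hqK'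
      intro hbot
      have h1 : (⟨(x : G), hKN x.2⟩ : ↥(Subgroup.normalizer (K : Set G))) ∈ T := by
        rw [hTmem, hM]
        refine ⟨Subgroup.mem_subgroupOf.mpr x.2, ?_⟩
        apply Subtype.ext
        have h2 : x ^ q = 1 := by rw [← hx]; exact pow_orderOf_eq_one x
        have h3 : ((x ^ q : K) : G) = 1 := by rw [h2]; rfl
        simpa using h3
      rw [hbot, Subgroup.mem_bot] at h1
      have h4 : (x : G) = 1 := congrArg Subtype.val h1
      have h5 : x = 1 := Subtype.ext h4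
      rw [h5, orderOf_one] at hx
      exact hq.one_lt.ne hx
    have hsumT := sum_sq_ntFin T
    have hTsub : ntFin T ⊆ ntFin M := fun χ hχ =>
      mem_ntFin.mpr (ntSet_mono hTM (mem_ntFin.mp hχ))
    have hTne : (ntFin T).Nonempty := by
      rw [Finset.nonempty_iff_ne_empty]
      intro h
      rw [h, Finset.sum_empty, zero_add] at hsumT
      have h1 := Subgroup.card_mul_index T
      rw [hsumT] at h1
      have h2 : Nat.card T = 1 := by
        have hNpos : 0 < Nat.card ↥(Subgroup.normalizer (K : Set G)) := Nat.card_pos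
        have h3 : Nat.card T * Nat.card ↥(Subgroup.normalizer (K : Set G)) =
            1 * Nat.card ↥(Subgroup.normalizer (K : Set G)) := by rw [h1, one_mul]
        exact Nat.eq_of_mul_eq_mul_right hNpos h3
      exact hT1 (Subgroup.card_eq_one.mp h2)
    have hTeq : ntFin T = ntFin M := by
      apply Finset.eq_of_subset_of_card_le hTsub
      rw [hcard]
      exact Finset.card_pos.mpr hTne
    have hTidx : T.index = M.index := by
      rw [hTeq] at hsumT
      omega
    have hTcard : Nat.card T = Nat.card M := by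
      have h1 := Subgroup.card_mul_index T
      rw [hTidx, ← hcardN] at h1
      exact Nat.eq_of_mul_eq_mul_right hepos h1
    have hTeqM : T = M := Subgroup.eq_of_le_of_card_ge hTM (by rw [hTcard])
    have h1 : (⟨a, hKN ha⟩ : ↥(Subgroup.normalizer (K : Set G))) ∈ T := by
      rw [hTeqM, hM]
      exact Subgroup.mem_subgroupOf.mpr ha
    have h2 := ((hTmem _).mp h1).2
    have h3 := congrArg (fun x : ↥(Subgroup.normalizer (K : Set G)) => (x : G)) h2
    simpa using h3
  · right
    have hiso : ∀ (ψ θ : ↥(Subgroup.normalizer (K : Set G)) → ℂ),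
        IsClassFunction ↥(Subgroup.normalizer (K : Set G)) θ →
        (∀ x : ↥(Subgroup.normalizer (K : Set G)), (x : G) ∉ K → ψ x = 0) →
        (∀ x : ↥(Subgroup.normalizer (K : Set G)), (x : G) ∉ K → θ x = 0) → ψ 1 = 0 →
        classInner (indFun (Subgroup.normalizer (K : Set G)) ψ)
          (indFun (Subgroup.normalizer (K : Set G)) θ) = classInner ψ θ :=
      fun ψ θ hθ h1 h2 h3 => Helper4.indFun_ti_isometry (K : Set G) hTI ψ θ hθ h1 h2 h3
    have hMn' : (K.subgroupOf (Subgroup.normalizer (K : Set G))).Normal := by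
      rw [← hM]
      exact hMn
    obtain ⟨ε, f, hε, hfinj, hfam⟩ := Helper20.tifn_abelian_coherent K
      (Subgroup.normalizer (K : Set G)) hMn' hC hab hiso
    have hconv : ∀ χ : ↥(Subgroup.normalizer (K : Set G)) → ℂ, χ ∈ ntSet M →
        ∃ k : ↥(Subgroup.normalizer (K : Set G)), (k : G) ∈ K ∧ χ k ≠ χ 1 := by
      intro χ hχ
      rw [hM] at hχ
      exact ((Helper20.tifn_mem_iff K _ χ).mpr hχ).2
    obtain ⟨F, hFdef⟩ : ∃ F : (↥(Subgroup.normalizer (K : Set G)) → ℂ) → (G → ℂ),
        F = fun χ => if h : χ ∈ ntSet M then (f ⟨⟨χ, h.1⟩, hconv χ h⟩ : G → ℂ) else 0 := ⟨_, rfl⟩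
    have hFval : ∀ χ (h : χ ∈ ntSet M), F χ = (f ⟨⟨χ, h.1⟩, hconv χ h⟩ : G → ℂ) := by
      intro χ h
      rw [hFdef]
      exact dif_pos h
    obtain ⟨hα, -⟩ := ti_isometry K _ rfl hTI hC
    rw [← hM] at hα
    rw [← coe_ntFin] at hα ⊢
    have h2 : ∃ a ∈ ntFin M, ∃ b ∈ ntFin M, a ≠ b := by
      have h3 : 1 < (ntFin M).card := by
        have := Finset.card_pos.mpr hne
        omega
      obtain ⟨a, ha, b, hb, hab⟩ := Finset.one_lt_card.mp h3
      exact ⟨a, ha, b, hb, hab⟩
    refine coherent_of_family (ntFin M) (fun χ hχ => (mem_ntFin.mp hχ).1) ?_ h2 _ hα ε hε F ?_ ?_ ?_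
    · intro φ hφ ψ hψ
      rw [(Helper83.irr_degree (mem_ntFin.mp hφ).1).2, (Helper83.irr_degree (mem_ntFin.mp hψ).1).2,
        hdegE φ (mem_ntFin.mp hφ), hdegE ψ (mem_ntFin.mp hψ)]
    · intro χ hχ
      rw [hFval χ (mem_ntFin.mp hχ)]
      exact (f _).2
    · intro χ hχ ξ hξ h
      rw [hFval χ (mem_ntFin.mp hχ), hFval ξ (mem_ntFin.mp hξ)] at h
      have h3 := hfinj (Subtype.ext h)
      have h4 := congrArg (fun x => (x.1 : ↥(Subgroup.normalizer (K : Set G)) → ℂ)) h3
      exact h4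
    · intro χ hχ ξ hξ
      rw [hFval χ (mem_ntFin.mp hχ), hFval ξ (mem_ntFin.mp hξ)]
      exact hfam ⟨⟨χ, (mem_ntFin.mp hχ).1⟩, hconv χ (mem_ntFin.mp hχ)⟩
        ⟨⟨ξ, (mem_ntFin.mp hξ).1⟩, hconv ξ (mem_ntFin.mp hξ)⟩

end Syl

end Cfsg.Agent.Lib.Helper35
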