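import Cfsg.Agent.Lib.Helper35.SibleySyl
import Cfsg.Agent.Lib.Helper35.NilFrob
import Mathlib

set_option autoImplicit false
open Cfsg

namespace Cfsg.Agent.Lib.Helper35

open Cfsg.Agent.Lib
open scoped ComplexConjugate

section TiNil

variable {G : Type*} [Group G] [Fintype G]

/-- a T.I. `p`-subgroup with Frobenius normaliser is a Sylow `p`-subgroup -/
theorem ti_sylow (K : Subgroup G) (hK1 : K ≠ ⊥)
    (hC : ∀ k ∈ K, k ≠ 1 → Subgroup.centralizer ({k} : Set G) ≤ K)
    (p : ℕ) [Fact p.Prime] (hpK : IsPGroup p K) : ∃ Q : Sylow p G, (Q : Subgroup G) = K := by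
  classical
  have hp : p.Prime := Fact.out
  let _ : Fintype ↥(Subgroup.normalizer (K : Set G)) := Fintype.ofFinite _
  have hMn : (K.subgroupOf (Subgroup.normalizer (K : Set G))).Normal :=
    Subgroup.normal_in_normalizer
  have hKN : K ≤ Subgroup.normalizer (K : Set G) := Subgroup.le_normalizer
  have hfrob := ti_frob K (Subgroup.normalizer (K : Set G)) hC
  have hcardM : Nat.card (K.subgroupOf (Subgroup.normalizer (K : Set G))) = Nat.card K :=
    Nat.card_congr (Subgroup.subgroupOfEquivOfLe hKN).toEquiv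
  have hidx := frob_index_dvd (K.subgroupOf (Subgroup.normalizer (K : Set G))) hfrob
  rw [hcardM] at hidx
  obtain ⟨k, hk⟩ := IsPGroup.iff_card.mp hpK
  have hk0 : k ≠ 0 := by
    rintro rfl
    rw [pow_zero] at hk
    exact hK1 (Subgroup.card_eq_one.mp hk)
  have hcop : Nat.Coprime (K.subgroupOf (Subgroup.normalizer (K : Set G))).index p := by
    have h1 : Nat.Coprime (K.subgroupOf (Subgroup.normalizer (K : Set G))).index (Nat.card K) := by
      have h2 : Nat.card K = (Nat.card K - 1) + 1 := by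
        have : 0 < Nat.card K := Nat.card_pos
        omega
      rw [h2]
      have h3 : Nat.Coprime (Nat.card K - 1) (Nat.card K - 1 + 1) := by simp
      exact h3.coprime_dvd_left hidx
    rw [hk] at h1
    exact (Nat.coprime_pow_right_iff (by omega) _ _).mp h1
  have hcardN : Nat.card ↥(Subgroup.normalizer (K : Set G)) =
      (K.subgroupOf (Subgroup.normalizer (K : Set G))).index * p ^ k := by
    rw [← hk, ← hcardM, mul_comm]
    exact (Subgroup.card_mul_index _).symm
  obtain ⟨Q, hKQ⟩ := hpK.exists_le_sylow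
  refine ⟨Q, le_antisymm ?_ hKQ⟩
  by_contra hne
  have hlt : K.subgroupOf (Q : Subgroup G) < ⊤ := by
    rw [lt_top_iff_ne_top]
    intro h
    apply hne
    intro x hx
    have h1 : (⟨x, hx⟩ : (Q : Subgroup G)) ∈ K.subgroupOf (Q : Subgroup G) := by
      rw [h]
      exact Subgroup.mem_top _
    exact Subgroup.mem_subgroupOf.mp h1
  have hnilQ : Group.IsNilpotent ↥(Q : Subgroup G) := Q.isPGroup'.isNilpotent
  have hnc := normalizerCondition_of_isNilpotent (G := ↥(Q : Subgroup G)) _ hlt
  obtain ⟨x, hxn, hxK⟩ := SetLike.exists_of_lt hnc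
  rw [← Subgroup.subgroupOf_normalizer_eq hKQ, Subgroup.mem_subgroupOf] at hxn
  have hxK' : (x : G) ∉ K := fun h => hxK (Subgroup.mem_subgroupOf.mpr h)
  -- the subgroup `Q ⊓ N`
  have hD1 : K ≤ (Q : Subgroup G) ⊓ Subgroup.normalizer (K : Set G) := le_inf hKQ hKN
  have hD2 : (x : G) ∈ (Q : Subgroup G) ⊓ Subgroup.normalizer (K : Set G) :=
    Subgroup.mem_inf.mpr ⟨x.2, hxn⟩
  have hDlt : K < (Q : Subgroup G) ⊓ Subgroup.normalizer (K : Set G) :=
    lt_of_le_of_ne hD1 (fun h => hxK' (by rw [h]; exact hD2))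
  have hDp : IsPGroup p ↥((Q : Subgroup G) ⊓ Subgroup.normalizer (K : Set G)) :=
    Q.isPGroup'.to_le inf_le_left
  obtain ⟨j, hj⟩ := IsPGroup.iff_card.mp hDp
  have hDdvd : Nat.card ↥((Q : Subgroup G) ⊓ Subgroup.normalizer (K : Set G)) ∣
      Nat.card ↥(Subgroup.normalizer (K : Set G)) := Subgroup.card_dvd_of_le inf_le_right
  rw [hj, hcardN] at hDdvd
  have h5 : p ^ j ∣ p ^ k :=
    (Nat.Coprime.pow_left j hcop.symm).dvd_of_dvd_mul_left hDdvd
  have h6 : Nat.card K < Nat.card ↥((Q : Subgroup G) ⊓ Subgroup.normalizer (K : Set G)) := by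
    by_contra h
    push Not at h
    exact hDlt.ne (Subgroup.eq_of_le_of_card_ge hDlt.le h)
  rw [hj, hk] at h6
  have h7 := Nat.le_of_dvd (pow_pos hp.pos k) h5
  omega

/-- coherence of the characters of the normaliser (of odd order) of a nilpotent T.I. subgroup
`K` with Frobenius normaliser that are not trivial on `K` -/
theorem ti_nil_coherent (K : Subgroup G) [Fintype ↥(Subgroup.normalizer (K : Set G))]
    (hTI : IsTISubset (K : Set G))
    (hC : ∀ k ∈ K, k ≠ 1 → Subgroup.centralizer ({k} : Set G) ≤ K)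
    (hnil : Group.IsNilpotent K) (hK1 : K ≠ ⊥)
    (hodd : Odd (Nat.card (Subgroup.normalizer (K : Set G)))) :
    IsCoherent (ntSet (K.subgroupOf (Subgroup.normalizer (K : Set G)))) {1}ᶜ
      (fun α => indFun (Subgroup.normalizer (K : Set G)) α) := by
  classical
  have hMn : (K.subgroupOf (Subgroup.normalizer (K : Set G))).Normal :=
    Subgroup.normal_in_normalizer
  have hKN : K ≤ Subgroup.normalizer (K : Set G) := Subgroup.le_normalizer
  have hfrob := ti_frob K (Subgroup.normalizer (K : Set G)) hC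
  have hcardM : Nat.card (K.subgroupOf (Subgroup.normalizer (K : Set G))) = Nat.card K :=
    Nat.card_congr (Subgroup.subgroupOfEquivOfLe hKN).toEquiv
  obtain ⟨hα, hα1⟩ := ti_isometry K _ rfl hTI hC
  by_cases hpg : ∃ p : ℕ, p.Prime ∧ IsPGroup p K
  · obtain ⟨p, hp, hpK⟩ := hpg
    have : Fact p.Prime := ⟨hp⟩
    by_cases hab : ∀ a ∈ K, ∀ b ∈ K, a * b = b * a
    · rcases ti_abelian K hTI hC hab hK1 with ⟨h1, -, -⟩ | h
      · exfalso
        obtain ⟨χ, hχ⟩ := Finset.card_eq_one.mp h1
        have hχmem : χ ∈ ntFin (K.subgroupOf (Subgroup.normalizer (K : Set G))) := by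
          rw [hχ]
          exact Finset.mem_singleton_self _
        have hc := ntSet_conj hodd (mem_ntFin.mp hχmem)
        have h2 : conjFun χ ∈ ntFin (K.subgroupOf (Subgroup.normalizer (K : Set G))) :=
          mem_ntFin.mpr hc.1
        rw [hχ, Finset.mem_singleton] at h2
        exact hc.2 h2
      · exact h
    · obtain ⟨Q, hQ⟩ := ti_sylow K hK1 hC p hpK
      subst hQ
      have hp2 : p ≠ 2 := by
        rintro rfl
        obtain ⟨k, hk⟩ := IsPGroup.iff_card.mp hpK
        have hk0 : k ≠ 0 := by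
          rintro rfl
          rw [pow_zero] at hk
          exact hK1 (Subgroup.card_eq_one.mp hk)
        have h1 : 2 ∣ Nat.card ↥(Subgroup.normalizer ((Q : Subgroup G) : Set G)) :=
          (dvd_pow_self 2 hk0).trans (hk ▸ Subgroup.card_dvd_of_le hKN)
        exact (Nat.not_even_iff_odd.mpr hodd) (even_iff_two_dvd.mpr h1)
      refine sylow_coh_nonabelian p hp2 Q (fun h => hab (fun a ha b hb => ?_)) hTI hC
      have := h.is_comm.comm (⟨a, ha⟩ : (Q : Subgroup G)) ⟨b, hb⟩
      exact congrArg Subtype.val this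
  · have hcard1 : Nat.card K ≠ 1 := fun h => hK1 (Subgroup.card_eq_one.mp h)
    obtain ⟨p, hp, hpK⟩ := Nat.exists_prime_and_dvd hcard1
    have hex : ∃ q : ℕ, q.Prime ∧ q ∣ Nat.card K ∧ q ≠ p := by
      by_contra hcon
      push Not at hcon
      apply hpg
      refine ⟨p, hp, ?_⟩
      have h1 := Nat.eq_prime_pow_of_unique_prime_dvd (Nat.card_pos (α := K)).ne'
        (fun {d} hd hdn => hcon d hd hdn)
      exact IsPGroup.of_card h1
    obtain ⟨q, hq, hqK, hqp⟩ := hex
    have hnilM : Group.IsNilpotent ↥(K.subgroupOf (Subgroup.normalizer (K : Set G))) :=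
      Group.nilpotent_of_mulEquiv (Subgroup.subgroupOfEquivOfLe hKN).symm
    exact frob_nonpgroup_coherent _ hfrob hodd hnilM p q hp hq (Ne.symm hqp)
      (by rw [hcardM]; exact hpK) (by rw [hcardM]; exact hqK) _ hα hα1

end TiNil

end Cfsg.Agent.Lib.Helper35
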