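import Cfsg.Agent.Lib.Helper35.TiNil
import Cfsg.Agent.S0033
import Mathlib

set_option autoImplicit false
open Cfsg

namespace Cfsg.Agent.Lib.Helper35

open Cfsg.Agent.Lib
open scoped ComplexConjugate

section CnTi

variable {G : Type*} [Group G] [Fintype G]

/-- a subgroup with Frobenius normaliser (centralisers of its non-identity elements lie inside it,
and it is properly contained in its normaliser) is nilpotent (Thompson) -/
theorem ti_frob_nilpotent (K : Subgroup G)
    (hC : ∀ k ∈ K, k ≠ 1 → Subgroup.centralizer ({k} : Set G) ≤ K)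
    (hlt : K < Subgroup.normalizer (K : Set G)) (hK1 : K ≠ ⊥) : Group.IsNilpotent K := by
  classical
  let _ : Fintype ↥(Subgroup.normalizer (K : Set G)) := Fintype.ofFinite _
  have hMn : (K.subgroupOf (Subgroup.normalizer (K : Set G))).Normal :=
    Subgroup.normal_in_normalizer
  have hKN : K ≤ Subgroup.normalizer (K : Set G) := Subgroup.le_normalizer
  have hfrob := ti_frob K (Subgroup.normalizer (K : Set G)) hC
  have hcardM : Nat.card (K.subgroupOf (Subgroup.normalizer (K : Set G))) = Nat.card K :=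
    Nat.card_congr (Subgroup.subgroupOfEquivOfLe hKN).toEquiv
  have hidx := frob_index_dvd (K.subgroupOf (Subgroup.normalizer (K : Set G))) hfrob
  obtain ⟨M, hMdef⟩ : ∃ M, M = K.subgroupOf (Subgroup.normalizer (K : Set G)) := ⟨_, rfl⟩
  rw [← hMdef] at hMn hfrob hcardM hidx
  have hidx1 : M.index ≠ 1 := by
    intro h
    rw [Subgroup.index_eq_one, hMdef, Subgroup.subgroupOf_eq_top] at h
    exact (lt_irrefl _ (lt_of_lt_of_le hlt h))
  obtain ⟨p, hp, hpe⟩ := Nat.exists_prime_and_dvd hidx1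
  have : Fact p.Prime := ⟨hp⟩
  have hpN : p ∣ Nat.card ↥(Subgroup.normalizer (K : Set G)) :=
    hpe.trans (Subgroup.index_dvd_card M)
  obtain ⟨y, hy⟩ := exists_prime_orderOf_dvd_card' p hpN
  have hyM : y ∉ M := by
    intro hyM
    have h1 : orderOf (⟨y, hyM⟩ : M) = p := by
      rw [← hy]
      exact Subgroup.orderOf_mk y hyM
    have h2 : p ∣ Nat.card M := h1 ▸ orderOf_dvd_natCard _
    have h3 : p ∣ Nat.card M - 1 := hpe.trans hidx
    have hpos : 0 < Nat.card M := Nat.card_pos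
    have h4 : p ∣ 1 := by
      have := Nat.dvd_sub h2 h3
      rwa [show Nat.card M - (Nat.card M - 1) = 1 by omega] at this
    exact hp.one_lt.ne' (Nat.dvd_one.mp h4)
  obtain ⟨φ, hφdef⟩ : ∃ φ : MulAut M, φ = MulAut.conjNormal y := ⟨_, rfl⟩
  have hfix : MonoidHom.FixedPointFree ((φ : M ≃* M) : M →* M) := by
    intro k hk
    have h1 : ((φ k : M) : ↥(Subgroup.normalizer (K : Set G))) = y * k * y⁻¹ := by
      rw [hφdef]
      exact MulAut.conjNormal_apply y k
    have hk' : (φ k : M) = k := hk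
    rw [hk'] at h1
    have h2 : (k : ↥(Subgroup.normalizer (K : Set G))) * y = y * k := by
      calc (k : ↥(Subgroup.normalizer (K : Set G))) * y = y * k * y⁻¹ * y := by rw [← h1]
        _ = y * k := by group
    have := hfrob y hyM k k.2 h2
    exact Subtype.ext this
  have hφ1 : φ ≠ 1 := by
    intro h1
    apply hK1
    rw [eq_bot_iff]
    intro k hk
    have hkM : (⟨k, hKN hk⟩ : ↥(Subgroup.normalizer (K : Set G))) ∈ M := by
      rw [hMdef]
      exact Subgroup.mem_subgroupOf.mpr hk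
    have h2 := hfix ⟨_, hkM⟩ (by rw [h1]; rfl)
    have h3 := congrArg (fun z : M => ((z : ↥(Subgroup.normalizer (K : Set G))) : G)) h2
    exact h3
  have hord : orderOf φ = p := by
    apply orderOf_eq_prime _ hφ1
    rw [hφdef, ← map_pow, ← hy, pow_orderOf_eq_one, map_one]
  have hnilM : Group.IsNilpotent M := S0033.result φ hfix p hp hord
  rw [hMdef] at hnilM
  exact Group.nilpotent_of_mulEquiv (Subgroup.subgroupOfEquivOfLe hKN)

omit [Fintype G] in
/-- a function induced from the normaliser of `K` that is supported on `K \ {1}` vanishes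
off the conjugates of `K \ {1}` -/
theorem ind_supp [Fintype G] (K N : Subgroup G) (ϑ : N → ℂ)
    (hvan : ∀ x : N, (x : G) ∉ K → ϑ x = 0) (h1 : ϑ 1 = 0) (g : G)
    (hg : ∀ y : G, y * g * y⁻¹ ∈ K → g = 1) : indFun N ϑ g = 0 := by
  have hterm : ∀ x : G, extendByZero N ϑ (x⁻¹ * g * x) = 0 := by
    intro x
    by_cases hx : x⁻¹ * g * x ∈ N
    · rw [ext_mem N _ _ hx]
      by_cases hK : x⁻¹ * g * x ∈ K
      · have h2 := hg x⁻¹ (by rwa [inv_inv])
        have h3 : (⟨x⁻¹ * g * x, hx⟩ : N) = 1 := by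
          apply Subtype.ext
          simp [h2]
        rw [h3, h1]
      · exact hvan _ hK
    · exact ext_not_mem N _ _ hx
  simp only [indFun, hterm, Finset.sum_const_zero, mul_zero]

open Classical in
/-- counting over the conjugates of the non-identity elements of a T.I. subgroup -/
theorem ti_count (K : Subgroup G) (hTI : IsTISubset (K : Set G)) (F : G → ℂ)
    (hF : IsClassFunction G F) :
    ∑ g : G, (if (∃ y : G, y * g * y⁻¹ ∈ K) ∧ g ≠ 1 then F g else 0) =
      ((Subgroup.normalizer (K : Set G)).index : ℂ) *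
        ∑ x : G, (if x ∈ K ∧ x ≠ 1 then F x else 0) := by
  let _ : Fintype ↥(Subgroup.normalizer (K : Set G)) := Fintype.ofFinite _
  have hKN : K ≤ Subgroup.normalizer (K : Set G) := Subgroup.le_normalizer
  obtain ⟨ϑ, hϑdef⟩ : ∃ ϑ : ↥(Subgroup.normalizer (K : Set G)) → ℂ,
      ϑ = fun x : ↥(Subgroup.normalizer (K : Set G)) =>
        if (x : G) ∈ K ∧ x ≠ 1 then F (x : G) else 0 := ⟨_, rfl⟩
  have hcf : IsClassFunction ↥(Subgroup.normalizer (K : Set G)) ϑ := by
    intro g h
    rw [hϑdef]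
    simp only
    have h1 : ((h * g * h⁻¹ : ↥(Subgroup.normalizer (K : Set G))) : G) ∈ K ↔ (g : G) ∈ K :=
      (Subgroup.mem_normalizer_iff.mp h.2 (g : G)).symm
    have h2 : h * g * h⁻¹ ≠ 1 ↔ g ≠ 1 := by
      rw [not_iff_not]
      constructor
      · intro h3
        have : g = h⁻¹ * (h * g * h⁻¹) * h := by group
        rw [this, h3]
        group
      · intro h3
        rw [h3]
        group
    have h3 : F ((h * g * h⁻¹ : ↥(Subgroup.normalizer (K : Set G))) : G) = F (g : G) :=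
      hF (g : G) (h : G)
    by_cases hc : (g : G) ∈ K ∧ g ≠ 1
    · rw [if_pos hc, if_pos ⟨h1.mpr hc.1, h2.mpr hc.2⟩, h3]
    · rw [if_neg hc, if_neg (fun hh => hc ⟨h1.mp hh.1, h2.mp hh.2⟩)]
  have hvan : ∀ x : ↥(Subgroup.normalizer (K : Set G)), (x : G) ∉ (K : Set G) → ϑ x = 0 := by
    intro x hx
    rw [hϑdef]
    exact if_neg (fun hh => hx hh.1)
  have h1 : ϑ 1 = 0 := by
    rw [hϑdef]
    exact if_neg (fun hh => hh.2 rfl)
  have hind : ∀ g : G, indFun (Subgroup.normalizer (K : Set G)) ϑ g =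
      if (∃ y : G, y * g * y⁻¹ ∈ K) ∧ g ≠ 1 then F g else 0 := by
    intro g
    by_cases hc : (∃ y : G, y * g * y⁻¹ ∈ K) ∧ g ≠ 1
    · rw [if_pos hc]
      obtain ⟨⟨y, hy⟩, hg1⟩ := hc
      rw [← indFun_conj (Subgroup.normalizer (K : Set G)) ϑ g y]
      have ht1 : (⟨y * g * y⁻¹, hKN hy⟩ : ↥(Subgroup.normalizer (K : Set G))) ≠ 1 := by
        intro h
        have h2 : y * g * y⁻¹ = 1 := congrArg Subtype.val h
        apply hg1
        have : g = y⁻¹ * (y * g * y⁻¹) * y := by group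
        rw [this, h2]
        group
      have h3 := Helper4.indFun_ti (K : Set G) hTI ϑ hcf hvan ⟨y * g * y⁻¹, hKN hy⟩ hy ht1
      rw [h3, hϑdef]
      simp only
      rw [if_pos ⟨hy, ht1⟩]
      exact hF g y
    · rw [if_neg hc]
      apply ind_supp K _ ϑ hvan h1
      intro y hy
      by_contra hg1
      exact hc ⟨⟨y, hy⟩, hg1⟩
  have hrec := frobenius_reciprocity (Subgroup.normalizer (K : Set G)) ϑ (fun _ => 1)
    (fun _ _ => rfl)
  simp only [classInner, res, map_one, mul_one] at hrec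
  have hsum : ∑ x : ↥(Subgroup.normalizer (K : Set G)), ϑ x =
      ∑ x : G, (if x ∈ K ∧ x ≠ 1 then F x else 0) := by
    have h2 := Helper4.sum_extendByZero_mul (Subgroup.normalizer (K : Set G)) ϑ (fun _ => (1 : ℂ))
    simp only [mul_one] at h2
    rw [← h2]
    refine Finset.sum_congr rfl fun x _ => ?_
    by_cases hx : x ∈ Subgroup.normalizer (K : Set G)
    · rw [ext_mem _ _ _ hx, hϑdef]
      simp only
      by_cases hc : x ∈ K ∧ x ≠ 1
      · rw [if_pos hc, if_pos ⟨hc.1, fun h => hc.2 (congrArg Subtype.val h)⟩]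
      · rw [if_neg hc, if_neg (fun hh => hc ⟨hh.1, fun h => hh.2 (Subtype.ext h)⟩)]
    · rw [ext_not_mem _ _ _ hx, if_neg (fun hh => hx (hKN hh.1))]
  rw [← hsum]
  have hG : (Nat.card G : ℂ) ≠ 0 := Nat.cast_ne_zero.mpr Nat.card_pos.ne'
  have hN : (Nat.card ↥(Subgroup.normalizer (K : Set G)) : ℂ) ≠ 0 :=
    Nat.cast_ne_zero.mpr Nat.card_pos.ne'
  have hidx : (Nat.card G : ℂ) = (Nat.card ↥(Subgroup.normalizer (K : Set G)) : ℂ) *
      ((Subgroup.normalizer (K : Set G)).index : ℂ) := by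
    rw [← Nat.cast_mul, Subgroup.card_mul_index]
  have h5 : ∑ g : G, (if (∃ y : G, y * g * y⁻¹ ∈ K) ∧ g ≠ 1 then F g else 0) =
      ∑ g : G, indFun (Subgroup.normalizer (K : Set G)) ϑ g :=
    Finset.sum_congr rfl fun g _ => (hind g).symm
  rw [h5]
  have h6 : ∑ g : G, indFun (Subgroup.normalizer (K : Set G)) ϑ g =
      (Nat.card G : ℂ) * ((Nat.card ↥(Subgroup.normalizer (K : Set G)) : ℂ)⁻¹ *
        ∑ x : ↥(Subgroup.normalizer (K : Set G)), ϑ x) := by
    rw [← hrec]
    field_simp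
  rw [h6, hidx]
  field_simp

end CnTi

end Cfsg.Agent.Lib.Helper35
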