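import Cfsg.Agent.Lib.Helper35.FeitFrob
import Mathlib

set_option autoImplicit false
open Cfsg

namespace Cfsg.Agent.Lib.Helper35

open Cfsg.Agent.Lib
open scoped ComplexConjugate commutatorElement

section Arith

theorem feit_arith_basic (e r : ℕ) (h : 4 * e ^ 2 + 2 ≤ r) : 4 * e ^ 2 * r < (r - 1) ^ 2 := by
  obtain ⟨s, rfl⟩ : ∃ s, r = s + 1 := ⟨r - 1, by omega⟩
  rw [Nat.add_sub_cancel]
  have h1 : 4 * e ^ 2 + 1 ≤ s := by omega
  nlinarith

theorem feit_arith_P (e y a : ℕ) (he : 2 ≤ e) (hy : 2 * e + 1 ≤ y) (ha : e + 1 ≤ a) :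
    4 * e ^ 2 * y < (a * y - 1) ^ 2 := by
  have h1 : e * y + 2 ≤ a * y - 1 := by
    have : (e + 1) * y ≤ a * y := Nat.mul_le_mul_right y ha
    have : 3 ≤ y := by omega
    nlinarith [Nat.sub_add_cancel (show 1 ≤ a * y by nlinarith)]
  have h2 : (e * y + 2) ^ 2 ≤ (a * y - 1) ^ 2 := Nat.pow_le_pow_left h1 2
  have h3 : 4 * e ^ 2 * y < (e * y + 2) ^ 2 := by
    have : 4 ≤ y := by omega
    nlinarith [Nat.zero_le (e * y), Nat.mul_le_mul_left (e^2*y) this]
  omega

theorem feit_arith_Z (e y c : ℕ) (he : 1 ≤ e) (hc : 2 * e + 1 ≤ c) (hy : 2 ≤ y) :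
    4 * e ^ 2 * y < (c * y - 1) ^ 2 := by
  have h1 : 2 * e * y ≤ c * y - 1 := by
    have : (2 * e + 1) * y ≤ c * y := Nat.mul_le_mul_right y hc
    have h3 : 2 * e * y + y ≤ c * y := by nlinarith
    omega
  have h2 : (2 * e * y) ^ 2 ≤ (c * y - 1) ^ 2 := Nat.pow_le_pow_left h1 2
  have h3 : 4 * e ^ 2 * y < (2 * e * y) ^ 2 := by
    have h4 : (2 * e * y) ^ 2 = 4 * e ^ 2 * y * y := by ring
    rw [h4]
    have h5 : 0 < 4 * e ^ 2 * y := by positivity
    nlinarith
  omega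

theorem feit_mod1 (e y : ℕ) (hodd : Odd e) (hy1 : 1 < y) (hyodd : ¬ 2 ∣ y) (h : e ∣ y - 1) :
    2 * e + 1 ≤ y := by
  have h2 : 2 ∣ y - 1 := by omega
  have h3 : 2 * e ∣ y - 1 := (Nat.coprime_two_left.mpr hodd).mul_dvd_of_dvd_of_dvd h2 h
  have h5 := Nat.le_of_dvd (by omega) h3
  omega

theorem feit_mod2 (e a : ℕ) (ha1 : 1 < a) (h : e ∣ a - 1) : e + 1 ≤ a := by
  have h5 := Nat.le_of_dvd (by omega) h
  omega

theorem feit_mod3 (e a y : ℕ) (hy : 0 < y) (ha : 0 < a) (h1 : e ∣ a * y - 1) (h2 : e ∣ y - 1) :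
    e ∣ a - 1 := by
  have h3 : (a * y - 1 : ℤ) = (y - 1) * a + (a - 1) := by ring
  have h4 : (e : ℤ) ∣ (a * y - 1 : ℤ) := by
    have : ((a * y - 1 : ℕ) : ℤ) = (a * y - 1 : ℤ) := by
      have : 1 ≤ a * y := Nat.mul_pos ha hy
      push_cast [Nat.cast_sub this]
      ring
    rw [← this]
    exact Int.natCast_dvd_natCast.mpr h1
  have h5 : (e : ℤ) ∣ (y - 1 : ℤ) := by
    have : ((y - 1 : ℕ) : ℤ) = (y - 1 : ℤ) := by
      push_cast [Nat.cast_sub hy]
      ring
    rw [← this]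
    exact Int.natCast_dvd_natCast.mpr h2
  have h6 : (e : ℤ) ∣ (a - 1 : ℤ) := by
    have := (Int.dvd_add_right (Dvd.dvd.mul_right h5 (a : ℤ))).mp (h3 ▸ h4)
    exact this
  have : ((a - 1 : ℕ) : ℤ) = (a - 1 : ℤ) := by
    push_cast [Nat.cast_sub ha]
    ring
  rw [← this] at h6
  exact Int.natCast_dvd_natCast.mp h6

theorem card_prime_dichotomy (n : ℕ) (h0 : n ≠ 0) (h1 : n ≠ 1) :
    (∃ p : ℕ, p.Prime ∧ ∃ m : ℕ, n = p ^ m) ∨
      ∃ p q : ℕ, p.Prime ∧ q.Prime ∧ p ≠ q ∧ p ∣ n ∧ q ∣ n := by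
  obtain ⟨p, hp, hpd⟩ := Nat.exists_prime_and_dvd h1
  by_cases hall : ∀ d : ℕ, d.Prime → d ∣ n → d = p
  · left
    exact ⟨p, hp, _, Nat.eq_prime_pow_of_unique_prime_dvd h0 (fun {d} hd hdd => hall d hd hdd)⟩
  · right
    push Not at hall
    obtain ⟨q, hq, hqd, hne⟩ := hall
    exact ⟨p, q, hp, hq, Ne.symm hne, hpd, hqd⟩

end Arith

section FeitMain

variable {N : Type*} [Group N] [Fintype N] (H : Subgroup N) [hH : H.Normal]

omit hH in
theorem relIndex_pos' (A : Subgroup N) : 0 < A.relIndex H :=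
  Nat.pos_of_ne_zero (Subgroup.index_ne_zero_of_finite (H := A.subgroupOf H))

/-- each prime divisor of the order of the nilpotent Frobenius kernel contributes a factor
congruent to `1` modulo the index to the order of the commutator quotient -/
theorem frob_prime_part (hfrob : ∀ y : N, y ∉ H → ∀ k ∈ H, k * y = y * k → k = 1)
    (hnil : Group.IsNilpotent H) (r : ℕ) (hr : r.Prime) (hrM : r ∣ Nat.card H) :
    ∃ j : ℕ, 0 < j ∧ r ^ j ∣ (⁅H, H⁆).relIndex H ∧ H.index ∣ r ^ j - 1 := by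
  have hMpos : Nat.card H ≠ 0 := Nat.card_pos.ne'
  obtain ⟨k, m, hm, hkm⟩ := Nat.exists_eq_pow_mul_and_not_dvd hMpos r hr.one_lt.ne'
  have hk : 0 < k := by
    by_contra h
    have hk0 : k = 0 := by omega
    rw [hk0, pow_zero, one_mul] at hkm
    rw [hkm] at hrM
    exact hm hrM
  have hcop : Nat.Coprime m r := ((Nat.Prime.coprime_iff_not_dvd hr).mpr hm).symm
  obtain ⟨j, hj, hrel⟩ := powKer_relIndex H r hr k m hk hkm hcop
  have hAn : (powKer H m).Normal := powKer_normal H m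
  have hdvd := frob_relIndex_dvd H hfrob (powKer H m) (powKer_le H m)
  rw [hrel] at hdvd
  refine ⟨j, hj, ?_, hdvd⟩
  rw [← hrel]
  exact Subgroup.relIndex_dvd_of_le_left H (commutator_le_powKer H m)

/-- the Sylow `r`-subgroup of a nilpotent normal subgroup, as a normal subgroup of the whole
group -/
theorem sylow_in_normal (hnil : Group.IsNilpotent H) (r : ℕ) (hr : r.Prime) :
    ∃ P : Subgroup N, P.Normal ∧ P ≤ H ∧ IsPGroup r P ∧
      Nat.card P = r ^ (Nat.card H).factorization r ∧ ¬ r ∣ P.relIndex H := by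
  haveI : Fact r.Prime := ⟨hr⟩
  obtain ⟨P₀⟩ : Nonempty (Sylow r H) := inferInstance
  haveI hn : (P₀ : Subgroup H).Normal := inferInstance
  haveI hchar : (P₀ : Subgroup H).Characteristic := Sylow.characteristic_of_normal P₀ hn
  refine ⟨(P₀ : Subgroup H).map H.subtype, ConjAct.normal_of_characteristic_of_normal,
    Subgroup.map_subtype_le _, P₀.isPGroup'.map H.subtype, ?_, ?_⟩
  · rw [Subgroup.card_map_of_injective H.subtype_injective, P₀.card_eq_multiplicity]
  · have h1 : ((P₀ : Subgroup H).map H.subtype).relIndex H = (P₀ : Subgroup H).index := by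
      unfold Subgroup.relIndex
      congr 1
      ext x
      rw [Subgroup.mem_subgroupOf, Subgroup.mem_map]
      constructor
      · rintro ⟨y, hy, hyx⟩
        have : y = x := Subtype.ext hyx
        rw [← this]
        exact hy
      · intro hx
        exact ⟨x, hx, rfl⟩
    rw [h1]
    exact P₀.not_dvd_index

/-- the exceptional configuration: `H` non-abelian, of even order, not of prime power order -/
theorem feit_exotic {G : Type*} [Group G] [Fintype G]
    (hfrob : ∀ y : N, y ∉ H → ∀ k ∈ H, k * y = y * k → k = 1)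
    (hnil : Group.IsNilpotent H)
    (hnab : ¬ ∀ a ∈ H, ∀ b ∈ H, a * b = b * a) (hodd : Odd H.index) (he2 : 2 ≤ H.index)
    (h2 : 2 ∣ Nat.card H) (q : ℕ) (hq : q.Prime) (hq2 : q ≠ 2) (hqH : q ∣ Nat.card H)
    (τ : (N → ℂ) → (G → ℂ))
    (hτ : IsLinearIsometryOn (zspanOn (ntSet H) {1}ᶜ) τ)
    (hτ1 : ∀ α ∈ zspanOn (ntSet H) {1}ᶜ, τ α 1 = 0)
    (ψ : N → ℂ) (hψ : ψ ∈ saFin H ⁅H, H⁆) (hψd : charDegree ψ = H.index)
    (hcoh : IsCoherent (↑(saFin H ⁅H, H⁆) : Set (N → ℂ)) {1}ᶜ τ) :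
    IsCoherent (ntSet H) {1}ᶜ τ := by
  classical
  have hH'n : (⁅H, H⁆).Normal := inferInstance
  have hH'le : ⁅H, H⁆ ≤ H := Subgroup.commutator_le_left H H
  obtain ⟨P, hPn, hPH, hPp, hPcard, hPodd⟩ := sylow_in_normal H hnil 2 Nat.prime_two
  haveI := hPn
  obtain ⟨j2, hj2, hj2x, -⟩ := frob_prime_part H hfrob hnil 2 Nat.prime_two h2
  obtain ⟨jq, hjq, hjqx, -⟩ := frob_prime_part H hfrob hnil q hq hqH
  have h2x : 2 ∣ (⁅H, H⁆).relIndex H := (dvd_pow_self 2 hj2.ne').trans hj2x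
  have hqx : q ∣ (⁅H, H⁆).relIndex H := (dvd_pow_self q hjq.ne').trans hjqx
  have F1 : ¬ P ≤ ⁅H, H⁆ := by
    intro h
    exact hPodd (h2x.trans (Subgroup.relIndex_dvd_of_le_left H h))
  have F2 : ¬ H ≤ P ⊔ ⁅H, H⁆ := by
    intro h
    have h1 : P ⊔ ⁅H, H⁆ = H := le_antisymm (sup_le hPH hH'le) h
    have h3 := Subgroup.relIndex_sup_right P ⁅H, H⁆
    rw [h1] at h3
    have h4 : q ∣ Nat.card P := by
      have := Subgroup.relIndex_dvd_card ⁅H, H⁆ P
      rw [← h3] at this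
      exact hqx.trans this
    rw [hPcard] at h4
    exact hq2 ((Nat.prime_dvd_prime_iff_eq hq Nat.prime_two).mp (hq.dvd_of_dvd_pow h4))
  have hineqP : ∀ A : Subgroup N, A.Normal → A ≤ ⁅H, H⁆ →
      4 * H.index ^ 2 * (P ⊔ A).relIndex H < (A.relIndex H - 1) ^ 2 ∧
        (H.index + 1) * (2 * H.index + 1) ≤ A.relIndex H := by
    intro A hAn hAle
    haveI := hAn
    have hAH : A ≤ H := hAle.trans hH'le
    have hmul := Subgroup.relIndex_mul_relIndex A (P ⊔ A) H le_sup_right (sup_le hPH hAH)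
    have hy0 := relIndex_pos' H (P ⊔ A)
    have hy1 : (P ⊔ A).relIndex H ≠ 1 := by
      intro h
      exact F2 ((Subgroup.relIndex_eq_one.mp h).trans (sup_le_sup_left hAle P))
    have hyodd : ¬ 2 ∣ (P ⊔ A).relIndex H := fun h =>
      hPodd (h.trans (Subgroup.relIndex_dvd_of_le_left H (le_sup_left : P ≤ P ⊔ A)))
    have hyd := frob_relIndex_dvd H hfrob (P ⊔ A) (sup_le hPH hAH)
    have hy := feit_mod1 _ _ hodd (by omega) hyodd hyd
    have ha0 : 0 < A.relIndex (P ⊔ A) := Nat.pos_of_ne_zero (by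
      intro h
      rw [h, zero_mul] at hmul
      have := relIndex_pos' H A
      omega)
    have ha1 : A.relIndex (P ⊔ A) ≠ 1 := by
      intro h
      rw [Subgroup.relIndex_sup_right P A] at h
      exact F1 ((Subgroup.relIndex_eq_one.mp h).trans hAle)
    have hAd := frob_relIndex_dvd H hfrob A hAH
    rw [← hmul] at hAd
    have had := feit_mod3 _ _ _ hy0 ha0 hAd hyd
    have ha := feit_mod2 _ _ (by omega) had
    rw [← hmul]
    exact ⟨feit_arith_P _ _ _ he2 hy ha, Nat.mul_le_mul ha hy⟩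
  obtain ⟨A₁, hA₁n, hA₁le, hA₁eq, hA₁coh⟩ := sa_chain H hfrob P τ hτ hτ1 ψ hψd
    (Nat.card (⁅H, H⁆ : Subgroup N)) ⁅H, H⁆ le_rfl hH'n hH'le
    (Subgroup.commutator_mono (sup_le hPH hH'le) le_rfl) hψ
    (fun A hA hAle => (hineqP A hA hAle).1) hcoh
  haveI := hA₁n
  have hA₁H : A₁ ≤ H := hA₁le.trans hH'le
  have hψ₁ : ψ ∈ saFin H A₁ := saFin_mono H hA₁le hψ
  by_cases hcase : A₁ = ⁅H, H⁆
  · have hH'P : ⁅H, H⁆ ≤ P := by
      have := stab_le H hnil P A₁ hA₁H hA₁eq.ge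
      rwa [hcase] at this
    have hZn := cenN_normal H
    have hZH := cenN_le H
    obtain ⟨Rq, hRqn, hRqH, hRqp, hRqcard, -⟩ := sylow_in_normal H hnil q hq
    haveI := hRqn
    have hRq1 : Rq ≠ ⊥ := by
      intro h
      rw [h, Subgroup.card_bot] at hRqcard
      have hpos : 0 < (Nat.card H).factorization q :=
        hq.factorization_pos_of_dvd Nat.card_pos.ne' hqH
      have : 1 < q ^ (Nat.card H).factorization q := Nat.one_lt_pow hpos.ne' hq.one_lt
      omega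
    obtain ⟨z, hzR, hz1, hzc⟩ := center_meets H hnil Rq hRqH hRq1
    have hzZ : z ∈ cenN H := (mem_cenN H).mpr ⟨hRqH hzR, hzc⟩
    have hzP : z ∉ P := by
      intro h
      haveI : Fact (Nat.Prime 2) := ⟨Nat.prime_two⟩
      haveI : Fact q.Prime := ⟨hq⟩
      have hd := IsPGroup.disjoint_of_ne 2 q (Ne.symm hq2) P Rq hPp hRqp
      have : z ∈ P ⊓ Rq := ⟨h, hzR⟩
      rw [hd.eq_bot, Subgroup.mem_bot] at this
      exact hz1 this
    have hc1 : P.relIndex (cenN H) ≠ 1 := fun h => hzP (Subgroup.relIndex_eq_one.mp h hzZ)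
    have hc0 := relIndex_pos' (cenN H) P
    have hcodd : ¬ 2 ∣ P.relIndex (cenN H) := by
      intro h
      have h1 := Subgroup.relIndex_sup_right (cenN H) P
      have h2' := Subgroup.relIndex_mul_relIndex P (cenN H ⊔ P) H le_sup_right (sup_le hZH hPH)
      rw [h1] at h2'
      exact hPodd (h.trans (Dvd.intro _ h2'))
    have hcd : H.index ∣ P.relIndex (cenN H) - 1 := by
      haveI : (P ⊓ cenN H).Normal := inferInstance
      have h1 := Subgroup.inf_relIndex_right P (cenN H)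
      have h2' := Subgroup.relIndex_mul_relIndex (P ⊓ cenN H) (cenN H) H inf_le_right hZH
      rw [h1] at h2'
      have h3 := frob_relIndex_dvd H hfrob (cenN H) hZH
      have h4 := frob_relIndex_dvd H hfrob (P ⊓ cenN H) (inf_le_right.trans hZH)
      rw [← h2'] at h4
      exact feit_mod3 _ _ _ (relIndex_pos' H (cenN H)) hc0 h4 h3
    have hc := feit_mod1 _ _ hodd (by omega) hcodd hcd
    have hineqZ : ∀ A : Subgroup N, A.Normal → A ≤ ⁅H, H⁆ →
        4 * H.index ^ 2 * (cenN H ⊔ A).relIndex H < (A.relIndex H - 1) ^ 2 := by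
      intro A hAn hAle
      haveI := hAn
      have hAH : A ≤ H := hAle.trans hH'le
      have hmul := Subgroup.relIndex_mul_relIndex A (cenN H ⊔ A) H le_sup_right
        (sup_le hZH hAH)
      have hy0 := relIndex_pos' H (cenN H ⊔ A)
      have hy1 : (cenN H ⊔ A).relIndex H ≠ 1 := by
        intro h
        have h1 : H ≤ cenN H ⊔ ⁅H, H⁆ :=
          (Subgroup.relIndex_eq_one.mp h).trans (sup_le_sup_left hAle _)
        have h2' : ⁅H, H⁆ ≤ cenN H :=
          stab_le H hnil (cenN H) ⁅H, H⁆ hH'le (Subgroup.commutator_mono h1 le_rfl)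
        have h3 : H ≤ cenN H := h1.trans (sup_le le_rfl h2')
        exact hnab (fun a ha b hb => ((mem_cenN H).mp (h3 ha)).2 b hb)
      have hcA : P.relIndex (cenN H) ∣ A.relIndex (cenN H) :=
        Subgroup.relIndex_dvd_of_le_left (cenN H) (hAle.trans hH'P)
      have hcA0 := relIndex_pos' (cenN H) A
      have hcle := Nat.le_of_dvd hcA0 hcA
      have h5 := Subgroup.relIndex_sup_right (cenN H) A
      rw [← hmul, h5]
      exact feit_arith_Z _ _ _ (by omega) (by omega) (by omega)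
    obtain ⟨A₂, hA₂n, hA₂le, hA₂eq, hA₂coh⟩ := sa_chain H hfrob (cenN H) τ hτ hτ1 ψ hψd
      (Nat.card (⁅H, H⁆ : Subgroup N)) ⁅H, H⁆ le_rfl hH'n hH'le
      (Subgroup.commutator_mono (sup_le hZH hH'le) le_rfl) hψ hineqZ hcoh
    have hbot := cen_stab_bot H hnil A₂ (hA₂le.trans hH'le) hA₂eq
    rw [hbot, saFin_bot] at hA₂coh
    exact hA₂coh
  · have hbig : 4 * H.index ^ 2 + 2 ≤ A₁.relIndex H := by
      have h1 := Subgroup.relIndex_mul_relIndex A₁ ⁅H, H⁆ H hA₁le hH'le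
      have h2' : A₁.relIndex ⁅H, H⁆ ≠ 1 := fun h =>
        hcase (le_antisymm hA₁le (Subgroup.relIndex_eq_one.mp h))
      have h3 := relIndex_pos' ⁅H, H⁆ A₁
      have h4 := (hineqP ⁅H, H⁆ hH'n le_rfl).2
      have h5 : 2 * (⁅H, H⁆).relIndex H ≤ A₁.relIndex H := by
        rw [← h1]
        exact Nat.mul_le_mul_right _ (by omega)
      nlinarith
    have hineq0 : ∀ A : Subgroup N, A.Normal → A ≤ A₁ →
        4 * H.index ^ 2 * ((⊥ : Subgroup N) ⊔ A).relIndex H < (A.relIndex H - 1) ^ 2 := by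
      intro A hAn hAle
      rw [bot_sup_eq]
      apply feit_arith_basic
      have h1 : A₁.relIndex H ∣ A.relIndex H := Subgroup.relIndex_dvd_of_le_left H hAle
      have := Nat.le_of_dvd (relIndex_pos' H A) h1
      omega
    obtain ⟨A₂, hA₂n, hA₂le, hA₂eq, hA₂coh⟩ := sa_chain H hfrob ⊥ τ hτ hτ1 ψ hψd
      (Nat.card A₁) A₁ le_rfl hA₁n hA₁H
      (by rw [bot_sup_eq]; exact Subgroup.commutator_le_left A₁ H) hψ₁ hineq0 hA₁coh
    have hbot : A₂ = ⊥ :=
      le_bot_iff.mp (stab_le H hnil ⊥ A₂ (hA₂le.trans hA₁H) hA₂eq.ge)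
    rw [hbot, saFin_bot] at hA₂coh
    exact hA₂coh

/-- Feit's coherence theorem for a Frobenius group with nilpotent kernel `H` -/
theorem feit_frob_main {G : Type*} [Group G] [Fintype G]
    (hH1 : H ≠ ⊥) (hH2 : H ≠ ⊤)
    (hfrob : ∀ y : N, y ∉ H → ∀ k ∈ H, k * y = y * k → k = 1)
    (hnil : Group.IsNilpotent H)
    (he : Nat.card H ≠ H.index + 1) (τ : (N → ℂ) → (G → ℂ))
    (hτ : IsLinearIsometryOn (zspanOn (ntSet H) {1}ᶜ) τ)
    (hτ1 : ∀ α ∈ zspanOn (ntSet H) {1}ᶜ, τ α 1 = 0) :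
    IsCoherent (ntSet H) {1}ᶜ τ ∨ ∃ p : ℕ, p.Prime ∧ (∃ m : ℕ, Nat.card H = p ^ m) ∧
      (¬ ∀ a ∈ H, ∀ b ∈ H, a * b = b * a) ∧ (⁅H, H⁆).relIndex H ≤ 4 * H.index ^ 2 + 1 := by
  classical
  let _ : Fintype H := Fintype.ofFinite _
  have hepos : 0 < H.index := Nat.pos_of_ne_zero Subgroup.index_ne_zero_of_finite
  have he2 : 2 ≤ H.index := by
    have : H.index ≠ 1 := fun h => hH2 (Subgroup.index_eq_one.mp h)
    omega
  have hH'n : (⁅H, H⁆).Normal := inferInstance
  have hH'le : ⁅H, H⁆ ≤ H := Subgroup.commutator_le_left H H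
  have hxd := frob_relIndex_dvd H hfrob ⁅H, H⁆ hH'le
  have hx0 := relIndex_pos' H ⁅H, H⁆
  have hMnt : Nontrivial H := (Subgroup.nontrivial_iff_ne_bot H).mpr hH1
  have hsolv : Group.IsSolvable H := inferInstance
  have hx1 : (⁅H, H⁆).relIndex H ≠ 1 := by
    intro h
    have h1 := Subgroup.relIndex_eq_one.mp h
    have h2 := Group.IsSolvable.commutator_lt_top_of_nontrivial H
    apply h2.ne
    apply Subgroup.map_injective H.subtype_injective
    rw [Subgroup.map_subtype_commutator, le_antisymm hH'le h1, ← MonoidHom.range_eq_map,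
      Subgroup.range_subtype]
  have hS1deg : ∀ χ ∈ saFin H ⁅H, H⁆, charDegree χ = H.index := by
    intro χ hχ
    obtain ⟨h1, h2⟩ := (mem_saFin H).mp hχ
    obtain ⟨t, ht0, ht, -, -⟩ := frob_irr_deg H hfrob h1.1 h1.2 ⊥ bot_le
      (fun z hz k _ => by rw [Subgroup.mem_bot.mp hz]; simp)
    have hb := S1519.degree_bound h1.1 ⁅H, H⁆ H H (fun x hx y hy => by
      have := Subgroup.commutator_mem_commutator hx hy
      rwa [commutatorElement_def] at this) h2
    rw [Subgroup.relIndex_self, mul_one, ht] at hb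
    have h3 : H.index * t ≤ H.index * 1 := by
      rw [mul_one]
      exact (Nat.pow_le_pow_iff_left (by norm_num)).mp hb
    have h4 : t ≤ 1 := Nat.le_of_mul_le_mul_left h3 hepos
    have h5 : t = 1 := by omega
    rw [ht, h5, mul_one]
  have hS1sum := saFin_sum H ⁅H, H⁆ hH'le
  have hS1card : (saFin H ⁅H, H⁆).card * H.index = (⁅H, H⁆).relIndex H - 1 := by
    have h1 : ∑ f ∈ saFin H ⁅H, H⁆, charDegree f ^ 2 = (saFin H ⁅H, H⁆).card * H.index ^ 2 := by
      rw [Finset.sum_congr rfl (fun f hf => by rw [hS1deg f hf]), Finset.sum_const, smul_eq_mul]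
    rw [h1] at hS1sum
    have h2 : H.index * ((saFin H ⁅H, H⁆).card * H.index) =
        H.index * ((⁅H, H⁆).relIndex H - 1) := by
      rw [← hS1sum]
      ring
    exact Nat.eq_of_mul_eq_mul_left hepos h2
  have hcard1 : Nat.card H ≠ 1 := fun h => hH1 ((Subgroup.eq_bot_iff_card H).mpr h)
  have hab_bot : (∀ a ∈ H, ∀ b ∈ H, a * b = b * a) → ⁅H, H⁆ = ⊥ := by
    intro h
    rw [Subgroup.commutator_eq_bot_iff_le_centralizer]
    intro a ha
    rw [Subgroup.mem_centralizer_iff]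
    intro b hb
    exact h b hb a ha
  by_cases hsmall : (⁅H, H⁆).relIndex H < 2 * H.index + 1
  · have hxe : (⁅H, H⁆).relIndex H = H.index + 1 := by
      obtain ⟨c, hc⟩ := hxd
      have hc1 : c = 1 := by
        rcases Nat.lt_or_ge c 2 with h | h
        · rcases Nat.eq_zero_or_pos c with h0 | h0
          · rw [h0, mul_zero] at hc
            omega
          · omega
        · have : H.index * 2 ≤ H.index * c := Nat.mul_le_mul_left _ h
          omega
      rw [hc1, mul_one] at hc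
      omega
    have hnab : ¬ ∀ a ∈ H, ∀ b ∈ H, a * b = b * a := by
      intro h
      have := hab_bot h
      rw [this, Subgroup.relIndex_bot_left] at hxe
      exact he hxe
    rcases card_prime_dichotomy (Nat.card H) Nat.card_pos.ne' hcard1 with ⟨p, hp, hm⟩ | ⟨p, q, hp, hq, hpq, hpd, hqd⟩
    · right
      exact ⟨p, hp, hm, hnab, by rw [hxe]; nlinarith⟩
    · exfalso
      obtain ⟨j₁, hj₁, hd₁, he₁⟩ := frob_prime_part H hfrob hnil p hp hpd
      obtain ⟨j₂, hj₂, hd₂, he₂⟩ := frob_prime_part H hfrob hnil q hq hqd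
      have hcop : Nat.Coprime (p ^ j₁) (q ^ j₂) :=
        Nat.Coprime.pow _ _ ((Nat.coprime_primes hp hq).mpr hpq)
      have hd := hcop.mul_dvd_of_dvd_of_dvd hd₁ hd₂
      have hle := Nat.le_of_dvd hx0 hd
      have h1 := feit_mod2 _ _ (Nat.one_lt_pow hj₁.ne' hp.one_lt) he₁
      have h2 := feit_mod2 _ _ (Nat.one_lt_pow hj₂.ne' hq.one_lt) he₂
      have : (H.index + 1) * (H.index + 1) ≤ p ^ j₁ * q ^ j₂ := Nat.mul_le_mul h1 h2
      nlinarith
  · push Not at hsmall
    have hcard2 : 2 ≤ (saFin H ⁅H, H⁆).card := by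
      by_contra hcon
      push Not at hcon
      have : (saFin H ⁅H, H⁆).card * H.index ≤ 1 * H.index :=
        Nat.mul_le_mul_right _ (by omega)
      omega
    obtain ⟨a, ha, b, hb, hab⟩ := Finset.one_lt_card.mp hcard2
    have hdegC : ∀ χ ∈ saFin H ⁅H, H⁆, χ 1 = (H.index : ℂ) := by
      intro χ hχ
      have := (Helper83.irr_degree ((mem_saFin H).mp hχ).1.1).2
      rw [this, hS1deg χ hχ]
    have hcoh1 : IsCoherent (↑(saFin H ⁅H, H⁆) : Set (N → ℂ)) {1}ᶜ τ :=
      uniform_coherent' _ (fun χ hχ => ((mem_saFin H).mp hχ).1.1)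
        (fun φ hφ ψ hψ => by rw [hdegC φ hφ, hdegC ψ hψ]) ⟨a, ha, b, hb, hab⟩ τ
        (isoOn_mono (Helper36.zspanOn_mono (saFin_subset H _) _) hτ)
        (fun α hα => hτ1 α (Helper36.zspanOn_mono (saFin_subset H _) _ hα))
    by_cases hbig : 4 * H.index ^ 2 + 2 ≤ (⁅H, H⁆).relIndex H
    · left
      have hineq0 : ∀ A : Subgroup N, A.Normal → A ≤ ⁅H, H⁆ →
          4 * H.index ^ 2 * ((⊥ : Subgroup N) ⊔ A).relIndex H < (A.relIndex H - 1) ^ 2 := by
        intro A hAn hAle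
        rw [bot_sup_eq]
        apply feit_arith_basic
        have h1 : (⁅H, H⁆).relIndex H ∣ A.relIndex H := Subgroup.relIndex_dvd_of_le_left H hAle
        have := Nat.le_of_dvd (relIndex_pos' H A) h1
        omega
      obtain ⟨A₂, hA₂n, hA₂le, hA₂eq, hA₂coh⟩ := sa_chain H hfrob ⊥ τ hτ hτ1 a (hS1deg a ha)
        (Nat.card (⁅H, H⁆ : Subgroup N)) ⁅H, H⁆ le_rfl hH'n hH'le
        (by rw [bot_sup_eq]; exact Subgroup.commutator_le_left ⁅H, H⁆ H) ha hineq0 hcoh1
      have hbot : A₂ = ⊥ :=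
        le_bot_iff.mp (stab_le H hnil ⊥ A₂ (hA₂le.trans hH'le) hA₂eq.ge)
      rw [hbot, saFin_bot] at hA₂coh
      exact hA₂coh
    · push Not at hbig
      by_cases hab' : ∀ a ∈ H, ∀ b ∈ H, a * b = b * a
      · left
        rw [hab_bot hab', saFin_bot] at hcoh1
        exact hcoh1
      rcases card_prime_dichotomy (Nat.card H) Nat.card_pos.ne' hcard1 with ⟨p, hp, hm⟩ | ⟨p, q, hp, hq, hpq, hpd, hqd⟩
      · right
        exact ⟨p, hp, hm, hab', by omega⟩
      · left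
        have hodd : Odd H.index := by
          by_contra hcon
          rw [Nat.not_odd_iff_even] at hcon
          have hMo : Odd (Nat.card H) := by
            have h1 := frob_index_dvd H hfrob
            rw [Nat.odd_iff]
            have h2 : 2 ∣ Nat.card H - 1 := (even_iff_two_dvd.mp hcon).trans h1
            have : 0 < Nat.card H := Nat.card_pos
            omega
          have h3 := frob_odd H hfrob hab' hMo
          have h4 : Odd H.index := h3.of_dvd_nat (Subgroup.index_dvd_card H)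
          exact (Nat.not_even_iff_odd.mpr h4) hcon
        have hNeven : ¬ Odd (Nat.card N) := by
          intro h
          have := frob_commutator_big H hfrob h hnil p q hp hq hpq hpd hqd
          omega
        have h2H : 2 ∣ Nat.card H := by
          rw [Nat.not_odd_iff_even] at hNeven
          have h1 := Subgroup.card_mul_index H
          rw [← h1] at hNeven
          rcases Nat.even_mul.mp hNeven with h | h
          · exact even_iff_two_dvd.mp h
          · exact absurd hodd (Nat.not_odd_iff_even.mpr h)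
        obtain ⟨q₀, hq₀, hq₀2, hq₀H⟩ : ∃ q₀ : ℕ, q₀.Prime ∧ q₀ ≠ 2 ∧ q₀ ∣ Nat.card H := by
          by_cases h : p = 2
          · exact ⟨q, hq, fun h' => hpq (h.trans h'.symm), hqd⟩
          · exact ⟨p, hp, h, hpd⟩
        exact feit_exotic H hfrob hnil hab' hodd he2 h2H q₀ hq₀ hq₀2 hq₀H τ hτ hτ1 a ha
          (hS1deg a ha) hcoh1

end FeitMain

end Cfsg.Agent.Lib.Helper35
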