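import Cfsg.Agent.Lib.Helper35.BaerP13aCore
import Cfsg.Agent.Lib.Helper80.BaerX

/-!
# Piece P13a for S4125: internal form of Lemma X
-/

set_option autoImplicit false

namespace Cfsg.Agent.Lib.Helper35

open Cfsg.Agent.Lib.Helper80

variable {G : Type*} [Group G] [Finite G]

theorem lemmaX_internal (p : ℕ) [Fact p.Prime] (A : Subgroup G) [A.Normal] (hA : IsMulCommutative A)
    (hcop : (Nat.card A).Coprime A.index) (hC : Subgroup.centralizer (A : Set G) ≤ A)
    (ho : ∀ a ∈ A, ∃ k : ℕ, (Subgroup.centralizer ({a} : Set G)).index = p ^ k) : Group.IsSolvable G :=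
  lemmaX_internal_of p (fun _ _ _ _ _ _ _ hB => lemmaX hB) A hA hcop hC ho

end Cfsg.Agent.Lib.Helper35
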