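import Mathlib
import Cfsg.Agent.Lib.Helper22.BFDefs
import Cfsg.Agent.Lib.Helper22.PRatF

/-! # S4503 project (helper22), piece FIXB: sums over `⟨z⟩` and over `C_G(z)` -/

set_option autoImplicit false
set_option linter.style.haveILetI false
set_option maxHeartbeats 1600000

namespace Cfsg.Agent.Lib.Helper35.BFT

open Cfsg Cfsg.Agent.Lib.Helper22.BFD
open scoped ComplexConjugate

universe u

section

variable {G : Type u} [Group G] [Fintype G]

theorem pow_val_injective (p : ℕ) [Fact p.Prime] (z : G) (hz : orderOf z = p) :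
    Function.Injective (fun t : ZMod p => z ^ t.val) := by
  intro a b hab
  have h1 : a.val ≡ b.val [MOD p] := by
    have := (pow_eq_pow_iff_modEq (x := z) (n := a.val) (m := b.val)).1 hab
    rwa [hz] at this
  have h2 : a.val = b.val := Nat.ModEq.eq_of_lt_of_lt h1 (ZMod.val_lt a) (ZMod.val_lt b)
  exact ZMod.val_injective p h2

theorem mem_zpowers_iff_val (p : ℕ) [Fact p.Prime] (z : G) (hz : orderOf z = p) (g : G) :
    g ∈ Subgroup.zpowers z ↔ ∃ t : ZMod p, z ^ t.val = g := by
  constructor
  · intro hg
    have hfin : IsOfFinOrder z := isOfFinOrder_of_finite z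
    rw [← mem_powers_iff_mem_zpowers] at hg
    obtain ⟨n, rfl⟩ := hg
    refine ⟨(n : ZMod p), ?_⟩
    rw [ZMod.val_natCast, ← hz, pow_mod_orderOf]
  · rintro ⟨t, rfl⟩
    exact Subgroup.pow_mem _ (Subgroup.mem_zpowers z) _

theorem mem_zpowers_of_commute (p : ℕ) [Fact p.Prime] (hsq : ¬ p ^ 2 ∣ Nat.card G) (z : G)
    (hz : orderOf z = p) (x : G) (hxz : x * z = z * x) (e : ℕ) (hx : x ^ (p ^ e) = 1) :
    x ∈ Subgroup.zpowers z := by
  classical
  have hp : p.Prime := Fact.out
  by_cases hx1 : x = 1
  · rw [hx1]; exact Subgroup.one_mem _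
  have hpG : p ∣ Nat.card G := by rw [← hz]; exact orderOf_dvd_natCard z
  have hfac : (Nat.card G).factorization p = 1 := by
    have h1 : 0 < (Nat.card G).factorization p :=
      Nat.Prime.factorization_pos_of_dvd hp Nat.card_pos.ne' hpG
    have h2 : ¬ 2 ≤ (Nat.card G).factorization p := by
      intro h
      exact hsq ((Nat.Prime.pow_dvd_iff_le_factorization hp Nat.card_pos.ne').2 h)
    omega
  have hxp : IsPGroup p (Subgroup.zpowers x) := by
    have hdvd : orderOf x ∣ p ^ e := orderOf_dvd_of_pow_eq_one hx
    obtain ⟨k, -, hk⟩ := (Nat.dvd_prime_pow hp).mp hdvd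
    apply IsPGroup.of_card (n := k)
    rw [Nat.card_zpowers, hk]
  obtain ⟨Q, hQ⟩ := hxp.exists_le_sylow
  have hQcard : Nat.card Q = p := by
    rw [Sylow.card_eq_multiplicity, hfac, pow_one]
  have hxQ : x ∈ (Q : Subgroup G) := hQ (Subgroup.mem_zpowers x)
  -- `zpowers x = Q`
  have hxQeq : Subgroup.zpowers x = (Q : Subgroup G) := by
    apply Subgroup.eq_of_le_of_card_ge hQ
    rw [hQcard, Nat.card_zpowers]
    have h1 : orderOf x ∣ p := by
      have := orderOf_dvd_natCard (⟨x, hxQ⟩ : (Q : Subgroup G))
      rw [hQcard] at this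
      rwa [Subgroup.orderOf_mk] at this
    rcases (Nat.dvd_prime hp).mp h1 with h | h
    · exact absurd (orderOf_eq_one_iff.mp h) hx1
    · exact h.ge
  -- `z` normalises `Q`
  have hzN : z ∈ Subgroup.normalizer ((Q : Subgroup G) : Set G) := by
    rw [Subgroup.mem_normalizer_iff]
    intro h
    have hcomm : ∀ w ∈ Subgroup.zpowers x, z * w * z⁻¹ = w := by
      intro w hw
      obtain ⟨k, rfl⟩ := Subgroup.mem_zpowers_iff.mp hw
      have hc : Commute z x := hxz.symm
      have : Commute z (x ^ k) := hc.zpow_right k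
      rw [this.eq, mul_inv_cancel_right]
    constructor
    · intro hh
      rw [← hxQeq] at hh ⊢
      rw [hcomm h hh]; exact hh
    · intro hh
      rw [← hxQeq] at hh ⊢
      have h2 := hcomm _ hh
      have h3 : z * h * z⁻¹ = h := by
        have : z * (z * h * z⁻¹) * z⁻¹ = z * h * z⁻¹ := h2
        have h4 : z * (z * h * z⁻¹) = (z * h * z⁻¹) * z := by
          calc z * (z * h * z⁻¹) = (z * (z * h * z⁻¹) * z⁻¹) * z := by group
            _ = (z * h * z⁻¹) * z := by rw [this]
        have h5 : z * h = h * z := by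
          have h6 : z * (z * h * z⁻¹) = z * h := by rw [h4]; group
          have h7 : z * h * z⁻¹ = h := mul_left_cancel h6
          calc z * h = (z * h * z⁻¹) * z := by group
            _ = h * z := by rw [h7]
        rw [h5, mul_inv_cancel_right]
      rw [← h3]; exact hh
  have hzp : IsPGroup p (Subgroup.zpowers z) := by
    apply IsPGroup.of_card (n := 1)
    rw [Nat.card_zpowers, hz, pow_one]
  have hinf := hzp.inf_normalizer_sylow Q
  have hzQ : z ∈ (Q : Subgroup G) := by
    have h0 : z ∈ Subgroup.zpowers z ⊓ Subgroup.normalizer ((Q : Subgroup G) : Set G) :=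
      ⟨Subgroup.mem_zpowers z, hzN⟩
    have h1 : z ∈ Subgroup.zpowers z ⊓ (Q : Subgroup G) := by
      rw [← hinf]; exact h0
    exact h1.2
  have hzQeq : Subgroup.zpowers z = (Q : Subgroup G) := by
    apply Subgroup.eq_of_le_of_card_ge
    · rw [Subgroup.zpowers_le]; exact hzQ
    · rw [hQcard, Nat.card_zpowers, hz]
  rw [hzQeq]; exact hxQ

open scoped Classical in
/-- PIECE FIXB -/
theorem cent_sum (p : ℕ) [Fact p.Prime] (hsq : ¬ p ^ 2 ∣ Nat.card G) (z : G)
    (hz : orderOf z = p) (F : G → ℂ) :
    (∑ g : G, (if g ∈ Subgroup.zpowers z then F g else 0) = ∑ t : ZMod p, F (z ^ t.val)) ∧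
    (∑ g : G, (if g ∈ Subgroup.centralizer ({z} : Set G) then F g else 0) =
      ∑ t : ZMod p, ∑ y ∈ Kf p z, F (z ^ t.val * y)) := by
  have hp : p.Prime := Fact.out
  constructor
  · rw [← Finset.sum_filter]
    have himg : (Finset.univ.filter (fun g : G => g ∈ Subgroup.zpowers z)) =
        Finset.univ.image (fun t : ZMod p => z ^ t.val) := by
      ext g
      simp only [Finset.mem_filter, Finset.mem_univ, true_and, Finset.mem_image]
      exact mem_zpowers_iff_val p z hz g
    rw [himg, Finset.sum_image]
    intro a _ b _ hab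
    exact pow_val_injective p z hz hab
  · rw [← Finset.sum_filter, ← Finset.sum_product']
    symm
    apply Finset.sum_bij (fun (a : ZMod p × G) _ => z ^ a.1.val * a.2)
    · rintro ⟨t, y⟩ hty
      simp only [Finset.mem_product, Finset.mem_univ, true_and] at hty
      have hy : y * z = z * y ∧ ¬ p ∣ orderOf y := by
        simpa [Kf] using hty
      simp only [Finset.mem_filter, Finset.mem_univ, true_and]
      rw [Subgroup.mem_centralizer_iff]
      intro h hh
      rw [Set.mem_singleton_iff.mp hh]
      have c1 : Commute z (z ^ t.val) := (Commute.refl z).pow_right _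
      have c2 : Commute z y := hy.1.symm
      exact (c1.mul_right c2).eq
    · rintro ⟨t, y⟩ hty ⟨t', y'⟩ hty' heq
      simp only [Finset.mem_product, Finset.mem_univ, true_and] at hty hty'
      have hy : y * z = z * y ∧ ¬ p ∣ orderOf y := by simpa [Kf] using hty
      have hy' : y' * z = z * y' ∧ ¬ p ∣ orderOf y' := by simpa [Kf] using hty'
      simp only at heq
      set m := orderOf y * orderOf y' with hm
      have e1 : (z ^ t.val * y) ^ m = z ^ (t.val * m) := by
        have c : Commute (z ^ t.val) y := (Commute.pow_left (show Commute z y from hy.1.symm) _)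
        rw [c.mul_pow, ← pow_mul]
        have : y ^ m = 1 := by rw [hm, pow_mul, pow_orderOf_eq_one, one_pow]
        rw [this, mul_one]
      have e2 : (z ^ t'.val * y') ^ m = z ^ (t'.val * m) := by
        have c : Commute (z ^ t'.val) y' := (Commute.pow_left (show Commute z y' from hy'.1.symm) _)
        rw [c.mul_pow, ← pow_mul]
        have : y' ^ m = 1 := by rw [hm, mul_comm, pow_mul, pow_orderOf_eq_one, one_pow]
        rw [this, mul_one]
      rw [heq, e2] at e1
      have h1 : t'.val * m ≡ t.val * m [MOD p] := by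
        have := (pow_eq_pow_iff_modEq (x := z) (n := t'.val * m) (m := t.val * m)).1 e1
        rwa [hz] at this
      have hcop : Nat.Coprime p m := by
        rw [hm]
        exact Nat.Coprime.mul_right ((Nat.Prime.coprime_iff_not_dvd hp).2 hy.2)
          ((Nat.Prime.coprime_iff_not_dvd hp).2 hy'.2)
      have h2 : t'.val ≡ t.val [MOD p] := Nat.ModEq.cancel_right_of_coprime hcop h1
      have h3 : t'.val = t.val := Nat.ModEq.eq_of_lt_of_lt h2 (ZMod.val_lt t') (ZMod.val_lt t)
      have h4 : t' = t := ZMod.val_injective p h3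
      subst h4
      have h5 : y = y' := mul_left_cancel heq
      rw [h5]
    · intro c hc
      simp only [Finset.mem_filter, Finset.mem_univ, true_and] at hc
      have hcz : c * z = z * c := by
        have := Subgroup.mem_centralizer_iff.mp hc z (Set.mem_singleton z)
        exact this.symm
      obtain ⟨a, a', ⟨e, he⟩, hna, hdec⟩ := Cfsg.Agent.Lib.Helper22.PRat.exists_p_decomp p hp c
      have hxz : c ^ a' * z = z * c ^ a' := ((show Commute c z from hcz).pow_left a').eq
      have hyz : c ^ a * z = z * c ^ a := ((show Commute c z from hcz).pow_left a).eq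
      have hx := mem_zpowers_of_commute p hsq z hz (c ^ a') hxz e he
      obtain ⟨t, ht⟩ := (mem_zpowers_iff_val p z hz _).1 hx
      refine ⟨(t, c ^ a), ?_, ?_⟩
      · simp only [Finset.mem_product, Finset.mem_univ, true_and]
        simp only [Kf, Finset.mem_filter, Finset.mem_univ, true_and]
        exact ⟨hyz, hna⟩
      · simp only
        rw [ht, ← hdec]
        have hcomm : Commute c (c ^ a')⁻¹ := ((Commute.refl c).pow_right a').inv_right
        rw [hcomm.eq]
        group
    · rintro ⟨t, y⟩ _
      rfl

end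

end Cfsg.Agent.Lib.Helper35.BFT
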