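import Mathlib

set_option autoImplicit false

namespace Cfsg.Agent.Lib.Helper35

open Finset in
/-- the final arithmetic contradiction in the CN-type non-existence theorem -/
theorem cn_arith {ι : Type*} [Fintype ι] [DecidableEq ι] (i₀ : ι) (e r h n : ι → ℤ) (g : ℤ)
    (a b : ι → ℤ) (d w : ℤ)
    (he2 : 2 ≤ e i₀) (hemin : ∀ k, e i₀ ≤ e k) (hr2 : ∀ k, 2 ≤ r k) (hn : ∀ k, 0 < n k)
    (hh : ∀ k, h k = e k * r k + 1) (hg : ∀ k, n k * e k * h k = g)
    (hA : g - 1 = ∑ k, n k * e k * r k)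
    (hB : w ^ 2 + ∑ k ∈ univ.erase i₀, n k * e k * r k * a k ^ 2 =
      n i₀ * e i₀ * (e i₀ - d * (d * r i₀ - 2)))
    (hC : ∑ k ∈ univ.erase i₀, r k * b k ^ 2 + d * (d * r i₀ - 2) ≤ e i₀ - 1)
    (hD : ∀ k, k ≠ i₀ → Odd (a k + b k))
    (hw : w ≠ 0) (hE : w ^ 2 = 1 → ∀ k, k ≠ i₀ → a k ≠ 0) : False := by
  obtain ⟨E, hEdef⟩ : ∃ E, E = e i₀ := ⟨_, rfl⟩
  obtain ⟨R, hRdef⟩ : ∃ R, R = r i₀ := ⟨_, rfl⟩
  obtain ⟨n₀, hn0def⟩ : ∃ n₀, n₀ = n i₀ := ⟨_, rfl⟩
  rw [← hEdef, ← hRdef, ← hn0def] at hB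
  rw [← hEdef, ← hRdef] at hC
  rw [← hEdef] at he2
  have hR2 : 2 ≤ R := hRdef ▸ hr2 i₀
  have hn0 : 0 < n₀ := hn0def ▸ hn i₀
  have hg0 : n₀ * E * (E * R + 1) = g := by
    have := hg i₀
    rw [hh i₀, ← hEdef, ← hRdef, ← hn0def] at this
    exact this
  have hgpos : 0 < g := by
    rw [← hg0]
    positivity
  obtain ⟨D, hDdef⟩ : ∃ D, D = d * (d * R - 2) := ⟨_, rfl⟩
  rw [← hDdef] at hB hC
  have hD0 : 0 ≤ D := by
    rw [hDdef]
    rcases le_or_gt d 0 with hd | hd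
    · rcases eq_or_lt_of_le hd with hd0 | hd0
      · rw [hd0]; simp
      · have h1 : d * R - 2 ≤ 0 := by nlinarith
        nlinarith
    · have h1 : 0 ≤ d * R - 2 := by nlinarith
      nlinarith
  have key1 : (2 * E + 1) * (n₀ * E * (R + E)) ≤ (E + 2) * g := by
    rw [← hg0]
    have h1 : 0 ≤ n₀ * E * ((R - 2) * (E ^ 2 - 1)) := by
      have : 0 ≤ E ^ 2 - 1 := by nlinarith
      have h2 : 0 ≤ R - 2 := by linarith
      positivity
    nlinarith
  -- split (A)
  have hA' : g - 1 = n₀ * E * R + ∑ k ∈ univ.erase i₀, n k * e k * r k := by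
    rw [hA, ← Finset.add_sum_erase univ _ (Finset.mem_univ i₀), ← hEdef, ← hRdef, ← hn0def]
  have hPpos : ∀ k, 0 < n k * e k * r k := by
    intro k
    have h1 : 0 < e k := by have := hemin k; rw [← hEdef] at this; linarith
    have h2 : 0 < r k := by have := hr2 k; linarith
    have h3 := hn k
    positivity
  have hbig : ∀ k, (2 * E + 1) * (n k * e k) ≤ g := by
    intro k
    rw [← hg k, hh k]
    have h1 : E ≤ e k := by have := hemin k; rw [← hEdef] at this; exact this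
    have h2 := hr2 k
    have h3 := hn k
    have h4 : 0 < e k := by linarith
    have h5 : 2 * E + 1 ≤ e k * r k + 1 := by nlinarith
    have h6 : 0 ≤ n k * e k := by positivity
    nlinarith
  -- general inequality
  have hper : ∀ k ∈ univ.erase i₀, (2 * E + 1) * (n k * e k * r k) ≤
      (2 * E + 1) * (n k * e k * r k * a k ^ 2) + g * (r k * b k ^ 2) := by
    intro k hk
    have hk' : k ≠ i₀ := (Finset.mem_erase.mp hk).1
    have hP := hPpos k
    have hr0 : 0 < r k := by have := hr2 k; linarith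
    by_cases hb : b k = 0
    · have hodd := hD k hk'
      rw [hb, add_zero] at hodd
      have ha : a k ≠ 0 := by
        rintro h0
        rw [h0] at hodd
        exact absurd hodd (by decide)
      have ha2 : 1 ≤ a k ^ 2 := by
        have := sq_nonneg (a k)
        have h1 : a k ^ 2 ≠ 0 := pow_ne_zero 2 ha
        omega
      rw [hb]
      have : n k * e k * r k ≤ n k * e k * r k * a k ^ 2 := by nlinarith
      nlinarith
    · have hb2 : 1 ≤ b k ^ 2 := by
        have := sq_nonneg (b k)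
        have h1 : b k ^ 2 ≠ 0 := pow_ne_zero 2 hb
        omega
      have h1 := hbig k
      have h2 : 0 ≤ n k * e k * r k * a k ^ 2 := by positivity
      have h3 : (2 * E + 1) * (n k * e k * r k) ≤ g * r k := by nlinarith
      have h4 : g * r k ≤ g * (r k * b k ^ 2) := by
        have : r k ≤ r k * b k ^ 2 := by nlinarith
        nlinarith
      nlinarith
  have hsum := Finset.sum_le_sum hper
  rw [Finset.sum_add_distrib, ← Finset.mul_sum, ← Finset.mul_sum, ← Finset.mul_sum] at hsum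
  obtain ⟨S1, hS1⟩ : ∃ S1, S1 = ∑ k ∈ univ.erase i₀, n k * e k * r k := ⟨_, rfl⟩
  obtain ⟨S2, hS2⟩ : ∃ S2, S2 = ∑ k ∈ univ.erase i₀, n k * e k * r k * a k ^ 2 := ⟨_, rfl⟩
  obtain ⟨S3, hS3⟩ : ∃ S3, S3 = ∑ k ∈ univ.erase i₀, r k * b k ^ 2 := ⟨_, rfl⟩
  rw [← hS1, ← hS2, ← hS3] at hsum
  rw [← hS1] at hA'
  rw [← hS2] at hB
  rw [← hS3] at hC
  have hw2 : w ^ 2 ≤ 1 := by
    have h1 : g * S3 ≤ g * (E - 1 - D) := by
      have : S3 ≤ E - 1 - D := by linarith
      exact mul_le_mul_of_nonneg_left this hgpos.le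
    have h2 : 0 ≤ D * ((2 * E + 1) * (n₀ * E) + g) := by positivity
    have h3 : (2 * E + 1) * w ^ 2 ≤ 2 * E + 1 := by
      linear_combination hsum + h1 + key1 + h2 + (2 * E + 1) * hA' + (2 * E + 1) * hB
    by_contra hcon
    push Not at hcon
    have h4 : (2 * E + 1) * 2 ≤ (2 * E + 1) * w ^ 2 :=
      mul_le_mul_of_nonneg_left (by omega) (by linarith)
    linarith
  have hw1 : w ^ 2 = 1 := by
    have := sq_nonneg w
    have h1 : w ^ 2 ≠ 0 := pow_ne_zero 2 hw
    omega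
  have ha := hE hw1
  have hper2 : ∀ k ∈ univ.erase i₀, n k * e k * r k ≤ n k * e k * r k * a k ^ 2 := by
    intro k hk
    have hk' : k ≠ i₀ := (Finset.mem_erase.mp hk).1
    have hP := hPpos k
    have ha2 : 1 ≤ a k ^ 2 := by
      have := sq_nonneg (a k)
      have h1 : a k ^ 2 ≠ 0 := pow_ne_zero 2 (ha k hk')
      omega
    have := mul_le_mul_of_nonneg_left ha2 hP.le
    rwa [mul_one] at this
  have hsum2 := Finset.sum_le_sum hper2
  rw [← hS1, ← hS2] at hsum2
  have h5 : g ≤ n₀ * E * (R + E) := by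
    have : 0 ≤ n₀ * E * D := by positivity
    linear_combination hsum2 + this + hA' + hB - hw1
  have h7 := mul_le_mul_of_nonneg_left h5 (show (0 : ℤ) ≤ 2 * E + 1 by linarith)
  have h6 : (2 * E + 1) * g ≤ (E + 2) * g := by linarith
  have h8 : 0 < (E - 1) * g := mul_pos (by linarith) hgpos
  linarith

end Cfsg.Agent.Lib.Helper35
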