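import Cfsg.Agent.Lib.Helper35.Virt
import Cfsg.Agent.Lib.Helper4.CharOdd
import Mathlib

set_option autoImplicit false

namespace Cfsg.Agent.Lib.Helper35

open Cfsg Cfsg.Agent.Lib.Helper4
open scoped ComplexConjugate

/-- in a group of odd order, the inner product of two real-valued generalized characters, one of
which is orthogonal to the principal character, is even -/
theorem real_gen_parity {G : Type*} [Group G] [Fintype G] (hodd : Odd (Nat.card G))
    {ψ ψ' : G → ℂ} (hψ : IsGeneralizedCharacter G ψ) (hψ' : IsGeneralizedCharacter G ψ')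
    (hr : ∀ g, conj (ψ g) = ψ g) (hr' : ∀ g, conj (ψ' g) = ψ' g)
    (h0 : classInner ψ (fun _ => 1) = 0) : ∃ z : ℤ, classInner ψ ψ' = 2 * z := by
  classical
  have := irr_finite (G := G)
  let _ : Fintype (IrrCharacter G) := Fintype.ofFinite _
  obtain ⟨c, hc⟩ := gen_decomp hψ
  obtain ⟨c', hc'⟩ := gen_decomp hψ'
  have hcoef : ∀ χ : IrrCharacter G, classInner ψ (χ : G → ℂ) = c χ := by
    intro χ
    rw [hc, classInner_sum_irr]
  have hcoef' : ∀ χ : IrrCharacter G, classInner ψ' (χ : G → ℂ) = c' χ := by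
    intro χ
    rw [hc', classInner_sum_irr]
  have hcc : ∀ (φ : G → ℂ) (_ : ∀ g, conj (φ g) = φ g) (χ : IrrCharacter G),
      classInner φ ((irrConj χ : IrrCharacter G) : G → ℂ) = conj (classInner φ (χ : G → ℂ)) := by
    intro φ hφ χ
    unfold classInner
    rw [map_mul, map_sum, map_inv₀, map_natCast]
    congr 1
    refine Finset.sum_congr rfl fun g _ => ?_
    rw [irrConj_apply, map_mul, hφ g]
  have hconj : ∀ χ, c (irrConj χ) = c χ := by
    intro χ
    have h1 := hcoef (irrConj χ)
    rw [hcc ψ hr χ, hcoef χ, map_intCast] at h1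
    exact_mod_cast h1.symm
  have hconj' : ∀ χ, c' (irrConj χ) = c' χ := by
    intro χ
    have h1 := hcoef' (irrConj χ)
    rw [hcc ψ' hr' χ, hcoef' χ, map_intCast] at h1
    exact_mod_cast h1.symm
  have htriv : c trivIrr = 0 := by
    have h1 := hcoef trivIrr
    rw [show ((trivIrr : IrrCharacter G) : G → ℂ) = fun _ => 1 from rfl, h0] at h1
    exact_mod_cast h1.symm
  have hsplit : ∑ χ, c χ * c' χ =
      c trivIrr * c' trivIrr + ∑ χ ∈ Finset.univ.erase trivIrr, c χ * c' χ :=
    (Finset.add_sum_erase Finset.univ _ (Finset.mem_univ _)).symm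
  obtain ⟨t, -, ht⟩ := sum_eq_add_of_involution (irrConj (G := G)) irrConj_irrConj
    (Finset.univ.erase trivIrr) (by
      intro χ hχ
      have hχ1 := (Finset.mem_erase.mp hχ).1
      refine ⟨Finset.mem_erase.mpr ⟨?_, Finset.mem_univ _⟩, ?_⟩
      · intro h
        apply hχ1
        rw [← irrConj_irrConj χ, h, irrConj_triv]
      · intro h
        exact hχ1 (real_irr_eq_triv hodd χ ((irrConj_eq_self_iff χ).mp h)))
    (fun χ => c χ * c' χ) (fun χ _ => by rw [hconj, hconj'])
  refine ⟨∑ a ∈ t, c a * c' a, ?_⟩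
  rw [hc, hc', classInner_int_decomp, hsplit, htriv, ht]
  push_cast
  ring

end Cfsg.Agent.Lib.Helper35
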