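import Cfsg.Agent.Lib.Helper35.TiSetup
import Mathlib

set_option autoImplicit false
open Cfsg

namespace Cfsg.Agent.Lib.Helper35

open Cfsg.Agent.Lib
open scoped ComplexConjugate

section BesselFin

variable {G : Type*} [Group G] [Fintype G]

/-- Bessel's inequality with integer coefficients for an orthonormal family indexed by a
finite type, with its equality case -/
theorem bessel_fin {ι : Type*} [Fintype ι] [DecidableEq ι] (f : ι → G → ℂ)
    (horth : ∀ i j, classInner (f i) (f j) = if i = j then 1 else 0) (v : G → ℂ) (c : ι → ℤ)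
    (hc : ∀ i, classInner v (f i) = c i) (m : ℤ) (hm : classInner v v = m) :
    ∑ i, c i ^ 2 ≤ m ∧ (∑ i, c i ^ 2 = m → v = ∑ i, c i • f i) := by
  have h1 : classInner v (∑ i, c i • f i) = ((∑ i, c i ^ 2 : ℤ) : ℂ) := by
    rw [Helper35.classInner_sum_right, Int.cast_sum]
    refine Finset.sum_congr rfl fun i _ => ?_
    rw [Helper36.classInner_zsmul_right, hc]
    push_cast
    ring
  have h2 : classInner (∑ i, c i • f i) v = ((∑ i, c i ^ 2 : ℤ) : ℂ) := by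
    rw [Helper36.classInner_conj_symm v, h1, map_intCast]
  have h3 : classInner (∑ i, c i • f i) (∑ i, c i • f i) = ((∑ i, c i ^ 2 : ℤ) : ℂ) := by
    rw [Helper35.classInner_sum_left, Int.cast_sum]
    refine Finset.sum_congr rfl fun i _ => ?_
    rw [Helper35.classInner_sum_right, Finset.sum_eq_single i]
    · rw [Helper36.classInner_zsmul_left, Helper36.classInner_zsmul_right, horth i i, if_pos rfl]
      push_cast
      ring
    · intro j _ hne
      rw [Helper36.classInner_zsmul_left, Helper36.classInner_zsmul_right, horth i j,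
        if_neg (Ne.symm hne)]
      ring
    · intro h
      exact absurd (Finset.mem_univ i) h
  have h4 : classInner (v - ∑ i, c i • f i) (v - ∑ i, c i • f i) =
      ((m - ∑ i, c i ^ 2 : ℤ) : ℂ) := by
    rw [Helper35.classInner_sub_left, Helper35.classInner_sub_right,
      Helper35.classInner_sub_right, h1, h2, h3, hm]
    push_cast
    ring
  obtain ⟨r, hr0, hr⟩ := Helper35.classInner_self_nonneg (v - ∑ i, c i • f i)
  rw [h4] at hr
  have h5 : ((m - ∑ i, c i ^ 2 : ℤ) : ℝ) = r := by exact_mod_cast hr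
  constructor
  · have h6 : (0 : ℝ) ≤ ((m - ∑ i, c i ^ 2 : ℤ) : ℝ) := by rw [h5]; exact hr0
    have h7 : (0 : ℤ) ≤ m - ∑ i, c i ^ 2 := by exact_mod_cast h6
    omega
  · intro heq
    rw [heq, sub_self, Int.cast_zero] at h4
    exact sub_eq_zero.mp (Helper35.classInner_self_eq_zero' h4)

end BesselFin

section Swap

variable {L : Type*} [Group L] [Fintype L] {G : Type*} [Group G] [Fintype G]

/-- for a coherent set `{a, b}` of two irreducible characters of the same degree, the second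
choice of the isometry -/
theorem swap2 (W : Set (L → ℂ)) (a b : L → ℂ) (haW : a ∈ W) (hbW : b ∈ W)
    (hW : ∀ χ ∈ W, χ = a ∨ χ = b) (ha : IsIrrCharacter L a) (hb : IsIrrCharacter L b)
    (hab : a ≠ b) (h1 : a 1 = b 1) (α σ : (L → ℂ) → (G → ℂ))
    (hσ : IsLinearIsometryOn (zspan W) σ) (hσα : ∀ θ ∈ zspanOn W {1}ᶜ, σ θ = α θ) :
    ∃ σ' : (L → ℂ) → (G → ℂ), IsLinearIsometryOn (zspan W) σ' ∧
      (∀ θ ∈ zspanOn W {1}ᶜ, σ' θ = α θ) ∧ σ' a = -σ b ∧ σ' b = -σ a := by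
  have hWeq : W = {a, b} := by
    ext χ
    constructor
    · intro h
      rcases hW χ h with rfl | rfl
      · exact Set.mem_insert _ _
      · exact Set.mem_insert_of_mem _ rfl
    · intro h
      rcases h with rfl | rfl
      · exact haW
      · exact hbW
  have haa : classInner a a = 1 := Helper36.classInner_irr_self ha
  have hbb : classInner b b = 1 := Helper36.classInner_irr_self hb
  have hab0 : classInner a b = 0 := Helper36.classInner_irr_ne ha hb hab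
  have hba0 : classInner b a = 0 := Helper36.classInner_irr_ne hb ha (Ne.symm hab)
  have hmem : ∀ f ∈ zspan W, ∃ m n : ℤ, f = m • a + n • b := by
    intro f hf
    rw [hWeq] at hf
    obtain ⟨m, n, h⟩ := Submodule.mem_span_pair.mp hf
    exact ⟨m, n, h.symm⟩
  have hazs : a ∈ zspan W := Helper36.subset_zspan W haW
  have hbzs : b ∈ zspan W := Helper36.subset_zspan W hbW
  have hσa : classInner (σ a) (σ a) = 1 := by rw [hσ.2.2.1 a hazs a hazs, haa]
  have hσb : classInner (σ b) (σ b) = 1 := by rw [hσ.2.2.1 b hbzs b hbzs, hbb]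
  have hσab : classInner (σ a) (σ b) = 0 := by rw [hσ.2.2.1 a hazs b hbzs, hab0]
  have hσba : classInner (σ b) (σ a) = 0 := by rw [hσ.2.2.1 b hbzs a hazs, hba0]
  have hfa : ∀ m n : ℤ, classInner (m • a + n • b) a = m := by
    intro m n
    rw [Helper35.classInner_add_left, Helper36.classInner_zsmul_left,
      Helper36.classInner_zsmul_left, haa, hba0]
    ring
  have hfb : ∀ m n : ℤ, classInner (m • a + n • b) b = n := by
    intro m n
    rw [Helper35.classInner_add_left, Helper36.classInner_zsmul_left,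
      Helper36.classInner_zsmul_left, hbb, hab0]
    ring
  have hval : ∀ m n : ℤ, -(classInner (m • a + n • b) a • σ b + classInner (m • a + n • b) b • σ a)
      = -(m • σ b + n • σ a) := by
    intro m n
    rw [hfa, hfb, ← Helper36.zsmul_eq_smul_cast, ← Helper36.zsmul_eq_smul_cast]
  refine ⟨fun f => -(classInner f a • σ b + classInner f b • σ a), ⟨?_, ?_, ?_, ?_⟩, ?_, ?_, ?_⟩
  · intro f _ g _
    show -(classInner (f + g) a • σ b + classInner (f + g) b • σ a) = _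
    rw [Helper35.classInner_add_left, Helper35.classInner_add_left]
    module
  · intro f _ k
    show -(classInner (k • f) a • σ b + classInner (k • f) b • σ a) = _
    rw [Helper36.classInner_zsmul_left, Helper36.classInner_zsmul_left, mul_smul, mul_smul,
      ← Helper36.zsmul_eq_smul_cast, ← Helper36.zsmul_eq_smul_cast, ← smul_add, smul_neg]
  · intro f hf g hg
    obtain ⟨m, n, rfl⟩ := hmem f hf
    obtain ⟨m', n', rfl⟩ := hmem g hg
    show classInner (-(_ • σ b + _ • σ a)) (-(_ • σ b + _ • σ a)) = _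
    rw [hfa, hfb, hfa, hfb, Helper35.classInner_neg_left, Helper35.classInner_neg_right,
      Helper35.classInner_add_left, Helper35.classInner_add_right, Helper35.classInner_add_right,
      Helper35.classInner_smul_left, Helper35.classInner_smul_left,
      Helper35.classInner_smul_left, Helper35.classInner_smul_left,
      Helper35.classInner_smul_right, Helper35.classInner_smul_right,
      Helper35.classInner_smul_right, Helper35.classInner_smul_right, hσa, hσb, hσab, hσba,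
      Helper35.classInner_add_left, Helper35.classInner_add_right, Helper35.classInner_add_right,
      Helper36.classInner_zsmul_left, Helper36.classInner_zsmul_left,
      Helper36.classInner_zsmul_left, Helper36.classInner_zsmul_left,
      Helper36.classInner_zsmul_right, Helper36.classInner_zsmul_right,
      Helper36.classInner_zsmul_right, Helper36.classInner_zsmul_right, haa, hbb, hab0, hba0]
    simp only [map_intCast]
    ring
  · intro f hf
    obtain ⟨m, n, rfl⟩ := hmem f hf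
    show IsGeneralizedCharacter G (-(_ • σ b + _ • σ a))
    rw [hval]
    exact Helper36.isGenChar_neg (Helper36.isGenChar_add
      (Helper36.isGenChar_zsmul (hσ.2.2.2 b hbzs) m) (Helper36.isGenChar_zsmul (hσ.2.2.2 a hazs) n))
  · intro f hf
    obtain ⟨m, n, rfl⟩ := hmem f hf.1
    show -(_ • σ b + _ • σ a) = _
    rw [hval, ← hσα _ hf]
    have h0 := (Helper36.mem_zspanOn_compl_one.mp hf).2
    have ha1 : a 1 ≠ 0 := Helper83.irr_one_ne_zero ha
    have hmn : n = -m := by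
      have h2 : ((m : ℂ) + n) * a 1 = 0 := by
        rw [Pi.add_apply, Pi.smul_apply, Pi.smul_apply, zsmul_eq_mul, zsmul_eq_mul, ← h1] at h0
        linear_combination h0
      have h3 : (m : ℂ) + n = 0 := by
        rcases mul_eq_zero.mp h2 with h | h
        · exact h
        · exact absurd h ha1
      have h4 : m + n = 0 := by exact_mod_cast h3
      omega
    rw [hσ.1 _ (Helper36.zspan_zsmul hazs m) _ (Helper36.zspan_zsmul hbzs n), hσ.2.1 a hazs,
      hσ.2.1 b hbzs, hmn]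
    simp only [neg_smul]
    abel
  · show -(classInner a a • σ b + classInner a b • σ a) = -σ b
    rw [haa, hab0, one_smul, zero_smul, add_zero]
  · show -(classInner b a • σ b + classInner b b • σ a) = -σ a
    rw [hbb, hba0, one_smul, zero_smul, zero_add]

end Swap

section SibDiv

variable {G : Type*} [Group G] [Fintype G] (N : Subgroup G) [Fintype N]

/-- the divisibility at the heart of Sibley's argument: if an irreducible character `ψ` of `G`
is orthogonal to the functions induced from the differences of members of `X_Z`, then the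
multiplicity of `ξ ∈ X_Z` in the restriction of `ψ` is divisible by `ξ 1 / e` -/
theorem sibley_div (M Z : Subgroup N) [hZ : Z.Normal] (e : ℕ)
    (he : Nat.card N = e * Nat.card M) (hZ1 : Z ≠ ⊥)
    (hdiv : ∀ ψ : G → ℂ, IsIrrCharacter G ψ →
      (∀ z z' : N, z ∈ Z → z' ∈ Z → z ≠ 1 → z' ≠ 1 → ψ z = ψ z') →
      ∀ z : N, z ∈ Z → z ≠ 1 → ∃ n d : ℤ, ψ z = n ∧ ψ 1 = d ∧ (Nat.card M : ℤ) ∣ d - n)
    (ψ : G → ℂ) (hψ : IsIrrCharacter G ψ)
    (horth : ∀ θ ∈ zspanOn (ntSet Z) {1}ᶜ, classInner (indFun N θ) ψ = 0)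
    (ξ : N → ℂ) (hξ : ξ ∈ ntSet Z) (t : ℕ) (hξ1 : ξ 1 = ((e * t : ℕ) : ℂ)) :
    ∃ m : ℤ, classInner ξ (Helper35.res N ψ) = t * m := by
  classical
  have := Helper4.irr_finite (G := N)
  let _ : Fintype (IrrCharacter N) := Fintype.ofFinite _
  obtain ⟨ρ, hρ⟩ : ∃ ρ : N → ℂ, ρ = Helper35.res N ψ := ⟨_, rfl⟩
  have hψc : IsCharacter G ψ := Helper35.isChar_of_irr hψ
  have hρc : IsCharacter N ρ := by
    rw [hρ]
    exact Helper35.isCharacter_res N hψc
  have hρcf : IsClassFunction N ρ := Helper35.isClassFunction_of_isCharacter hρc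
  have hψcf : IsClassFunction G ψ := Helper35.isClassFunction_of_isCharacter hψc
  have hnat : ∀ χ : N → ℂ, IsIrrCharacter N χ →
      ∃ k : ℕ, classInner χ ρ = k ∧ classInner ρ χ = k := by
    intro χ hχ
    obtain ⟨k, hk⟩ := Helper35.classInner_char_nat (Helper35.isChar_of_irr hχ) hρc
    refine ⟨k, hk, ?_⟩
    rw [Helper36.classInner_conj_symm χ ρ, hk, map_natCast]
  obtain ⟨hdξpos, hdξ⟩ := Helper83.irr_degree hξ.1
  have hdξ0 : (charDegree ξ : ℂ) ≠ 0 := by exact_mod_cast hdξpos.ne'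
  obtain ⟨k2, hk2, hk2'⟩ := hnat _ hξ.1
  obtain ⟨b, hb⟩ : ∃ b : ℂ, b = (k2 : ℂ) / (charDegree ξ : ℂ) := ⟨_, rfl⟩
  have hprop : ∀ χ : IrrCharacter N, (¬ ∀ x ∈ Z, (χ : N → ℂ) x = (χ : N → ℂ) 1) →
      classInner ρ (χ : N → ℂ) = b * (χ : N → ℂ) 1 := by
    intro χ hχ
    have hχS : (χ : N → ℂ) ∈ ntSet Z := ⟨χ.2, hχ⟩
    obtain ⟨hdχpos, hdχ⟩ := Helper83.irr_degree χ.2
    have hmem := Helper36.degDiff_mem hχS hξ _ _ hdχ hdξ
    have h1 := horth _ hmem
    rw [Helper35.frobenius_reciprocity N _ ψ hψcf, ← hρ, Helper35.classInner_sub_left,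
      Helper36.classInner_zsmul_left, Helper36.classInner_zsmul_left] at h1
    obtain ⟨k1, hk1, hk1'⟩ := hnat _ χ.2
    rw [hk1, hk2] at h1
    rw [hb, hk1', hdχ]
    push_cast at h1
    field_simp
    linear_combination h1
  have hconst := fun (k : N) (hk : k ∈ Z) (hk1 : k ≠ 1) =>
    Helper20.const_on_normal Z ρ hρcf b hprop k hk hk1
  have hexp := Helper83.class_fun_expansion ρ (fun g x => hρcf g x)
  have hρ1 : ρ 1 = (∑ χ : IrrCharacter N, if (∀ x ∈ Z, (χ : N → ℂ) x = (χ : N → ℂ) 1) then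
      classInner ρ (χ : N → ℂ) * (χ : N → ℂ) 1 else 0) +
      b * ((Nat.card N : ℂ) - (Z.index : ℂ)) := by
    have h1 : ρ 1 = ∑ χ : IrrCharacter N, classInner ρ (χ : N → ℂ) * (χ : N → ℂ) 1 := by
      conv_lhs => rw [hexp]
      rw [Finset.sum_apply]
      rfl
    have hE := Helper20.sum_sq_triv Z
    have hD := Helper83.sum_degree_sq (G := N)
    have hterm : ∀ χ : IrrCharacter N, classInner ρ (χ : N → ℂ) * (χ : N → ℂ) 1 =
        (if (∀ x ∈ Z, (χ : N → ℂ) x = (χ : N → ℂ) 1) then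
          classInner ρ (χ : N → ℂ) * (χ : N → ℂ) 1 else 0) +
        b * ((χ : N → ℂ) 1) ^ 2 -
        b * (if (∀ x ∈ Z, (χ : N → ℂ) x = (χ : N → ℂ) 1) then
          (χ : N → ℂ) 1 * (χ : N → ℂ) 1 else 0) := by
      intro χ
      by_cases hP : ∀ x ∈ Z, (χ : N → ℂ) x = (χ : N → ℂ) 1
      · rw [if_pos hP, if_pos hP]
        ring
      · rw [if_neg hP, if_neg hP, hprop χ hP]
        ring
    rw [h1, Finset.sum_congr rfl (fun χ _ => hterm χ), Finset.sum_sub_distrib,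
      Finset.sum_add_distrib, ← Finset.mul_sum, ← Finset.mul_sum, hD, hE]
    ring
  obtain ⟨z₀, hz₀, hz₀1⟩ : ∃ z₀ : N, z₀ ∈ Z ∧ z₀ ≠ 1 := by
    by_contra hcon
    push Not at hcon
    exact hZ1 ((Subgroup.eq_bot_iff_forall Z).mpr hcon)
  have hψconst : ∀ z z' : N, z ∈ Z → z' ∈ Z → z ≠ 1 → z' ≠ 1 → ψ z = ψ z' := by
    intro z z' hz hz' hz1 hz'1
    have e1 := hconst z hz hz1
    have e2 := hconst z' hz' hz'1
    rw [hρ] at e1 e2
    exact e1.trans e2.symm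
  obtain ⟨n, d, hn, hd, hdvd⟩ := hdiv ψ hψ hψconst z₀ hz₀ hz₀1
  obtain ⟨m, hm⟩ := hdvd
  have hdiff : ρ 1 - ρ z₀ = b * (Nat.card N : ℂ) := by
    rw [hρ1, hconst z₀ hz₀ hz₀1]
    ring
  have hρ1' : ρ 1 = d := by
    rw [hρ]
    exact hd
  have hρz : ρ z₀ = n := by
    rw [hρ]
    exact hn
  have hM0 : (Nat.card M : ℂ) ≠ 0 := by exact_mod_cast (Nat.card_pos (α := M)).ne'
  have hbe : b * e = m := by
    have h3 : ((d - n : ℤ) : ℂ) = (((Nat.card M : ℤ) * m : ℤ) : ℂ) := by rw [hm]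
    push_cast at h3
    have h4 : b * ((e : ℂ) * (Nat.card M : ℂ)) = (Nat.card M : ℂ) * m := by
      rw [← h3, ← hρ1', ← hρz, hdiff, he]
      push_cast
      ring
    have h5 : (Nat.card M : ℂ) * (b * e) = (Nat.card M : ℂ) * m := by linear_combination h4
    exact mul_left_cancel₀ hM0 h5
  refine ⟨m, ?_⟩
  rw [← hρ, hk2]
  have h6 : (k2 : ℂ) = b * (charDegree ξ : ℂ) := by
    rw [hb]
    field_simp
  rw [h6, ← hdξ, hξ1, ← hbe]
  push_cast
  ring

end SibDiv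

theorem sib_arith (t u B : ℤ) (ht : 0 < t)
    (h : (t * u) ^ 2 + (t * u - t) ^ 2 + B ^ 2 + (B + 1) ^ 2 ≤ t ^ 2 + 1) :
    (u = 0 ∨ u = 1) ∧ (B = -1 ∨ B = 0) ∧
      (t * u) ^ 2 + (t * u - t) ^ 2 + B ^ 2 + (B + 1) ^ 2 = t ^ 2 + 1 := by
  have hB : 0 ≤ B * (B + 1) := by
    rcases le_or_gt 0 B with h1 | h1
    · exact mul_nonneg h1 (by omega)
    · exact mul_nonneg_of_nonpos_of_nonpos (by omega) (by omega)
  have hu : 0 ≤ u * (u - 1) := by
    rcases le_or_gt 1 u with h1 | h1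
    · exact mul_nonneg (by omega) (by omega)
    · exact mul_nonneg_of_nonpos_of_nonpos (by omega) (by omega)
  have ht2 : 0 < t ^ 2 := by positivity
  have h1 : (t * u) ^ 2 + (t * u - t) ^ 2 = t ^ 2 + 2 * (t ^ 2 * (u * (u - 1))) := by ring
  have h2 : B ^ 2 + (B + 1) ^ 2 = 1 + 2 * (B * (B + 1)) := by ring
  have h3 : 0 ≤ t ^ 2 * (u * (u - 1)) := mul_nonneg ht2.le hu
  have hB0 : B * (B + 1) = 0 := by nlinarith
  have hu0 : t ^ 2 * (u * (u - 1)) = 0 := by nlinarith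
  have hu1 : u * (u - 1) = 0 := by
    rcases mul_eq_zero.mp hu0 with h4 | h4
    · exact absurd h4 ht2.ne'
    · exact h4
  refine ⟨?_, ?_, ?_⟩
  · rcases mul_eq_zero.mp hu1 with h4 | h4
    · exact Or.inl h4
    · exact Or.inr (by omega)
  · rcases mul_eq_zero.mp hB0 with h4 | h4
    · exact Or.inr h4
    · exact Or.inl (by omega)
  · nlinarith

section SibGlue

variable {G : Type*} [Group G] [Fintype G] (N : Subgroup G) [Fintype N]

/-- Sibley's gluing step: the coherent set `X_Z` and a coherent set `Y` of characters of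
degree `e` outside it have a coherent union -/
theorem sibley_glue (M Z : Subgroup N) [hZ : Z.Normal] (hZM : Z ≤ M) (e : ℕ)
    (he : Nat.card N = e * Nat.card M) (hZ1 : Z ≠ ⊥)
    (hα : IsLinearIsometryOn (zspanOn (ntSet M) {1}ᶜ) (fun θ => indFun N θ))
    (hα1 : ∀ θ ∈ zspanOn (ntSet M) {1}ᶜ, indFun N θ 1 = 0)
    (hdiv : ∀ ψ : G → ℂ, IsIrrCharacter G ψ →
      (∀ z z' : N, z ∈ Z → z' ∈ Z → z ≠ 1 → z' ≠ 1 → ψ z = ψ z') →
      ∀ z : N, z ∈ Z → z ≠ 1 → ∃ n d : ℤ, ψ z = n ∧ ψ 1 = d ∧ (Nat.card M : ℤ) ∣ d - n)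
    (Y : Set (N → ℂ)) (hYS : Y ⊆ ntSet M) (hXY : Disjoint (ntSet Z) Y)
    (hYdeg : ∀ η ∈ Y, η 1 = (e : ℂ)) (hY2 : ∃ a ∈ Y, ∃ b ∈ Y, a ≠ b)
    (hdegX : ∀ χ ∈ ntSet Z, ∃ t : ℕ, 0 < t ∧ χ 1 = ((e * t : ℕ) : ℂ))
    (hconjX : ∀ χ ∈ ntSet Z, conjFun χ ∈ ntSet Z ∧ conjFun χ ≠ χ)
    (ξ : N → ℂ) (hξ : ξ ∈ ntSet Z)
    (hXcoh : IsCoherent (ntSet Z) {1}ᶜ (fun θ => indFun N θ))
    (hYcoh : IsCoherent Y {1}ᶜ (fun θ => indFun N θ)) :
    IsCoherent (ntSet Z ∪ Y) {1}ᶜ (fun θ => indFun N θ) := by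
  classical
  obtain ⟨-, σ, hσ, hσα0⟩ := hXcoh
  obtain ⟨-, τ, hτ, hτα0⟩ := hYcoh
  have hσα : ∀ θ ∈ zspanOn (ntSet Z) {1}ᶜ, σ θ = indFun N θ := fun θ hθ => hσα0 θ hθ
  have hτα : ∀ θ ∈ zspanOn Y {1}ᶜ, τ θ = indFun N θ := fun θ hθ => hτα0 θ hθ
  have hXS : ntSet Z ⊆ ntSet M := ntSet_mono hZM
  have hirr : ∀ χ ∈ ntSet M, IsIrrCharacter N χ := fun χ h => h.1
  obtain ⟨ζ, hζ, ζ₂, hζ₂, hζne⟩ := hY2
  have hξc := hconjX ξ hξ
  have hX2 : ∃ a ∈ ntSet Z, ∃ b ∈ ntSet Z, a ≠ b := ⟨conjFun ξ, hξc.1, ξ, hξ, hξc.2⟩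
  have hY2' : ∃ a ∈ Y, ∃ b ∈ Y, a ≠ b := ⟨ζ, hζ, ζ₂, hζ₂, hζne⟩
  obtain ⟨t, ht0, hξ1⟩ := hdegX ξ hξ
  have he0 : (e : ℂ) ≠ 0 := by
    intro h
    have h1 := Helper83.irr_one_ne_zero hξ.1
    rw [hξ1] at h1
    apply h1
    push_cast
    rw [h, zero_mul]
  have ht0' : (t : ℂ) ≠ 0 := by exact_mod_cast ht0.ne'
  -- the final reduction
  have hfinal : ∀ σ' τ' : (N → ℂ) → (G → ℂ), IsLinearIsometryOn (zspan (ntSet Z)) σ' →
      (∀ θ ∈ zspanOn (ntSet Z) {1}ᶜ, σ' θ = indFun N θ) → IsLinearIsometryOn (zspan Y) τ' →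
      (∀ θ ∈ zspanOn Y {1}ᶜ, τ' θ = indFun N θ) →
      indFun N ((t : ℤ) • ζ - ξ) = (t : ℤ) • τ' ζ - σ' ξ →
      IsCoherent (ntSet Z ∪ Y) {1}ᶜ (fun θ => indFun N θ) := by
    intro σ' τ' hσ' hσα' hτ' hτα' hΘ
    refine (S1531.result N (ntSet M) (ntSet Z) Y hirr hXS hYS hXY hX2 hY2'
      (fun θ => indFun N θ) hα hα1 σ' τ' hσ' hσα' hτ' hτα').2 ⟨ξ, hξ, ζ, hζ, ?_⟩
    show indFun N (ξ 1 • ζ - ζ 1 • ξ) = ξ 1 • τ' ζ - ζ 1 • σ' ξ
    rw [hξ1, hYdeg ζ hζ]
    have h1 : ((e * t : ℕ) : ℂ) • ζ - (e : ℂ) • ξ = (e : ℂ) • ((t : ℤ) • ζ - ξ) := by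
      rw [Helper36.zsmul_eq_smul_cast]
      ext x
      simp only [Pi.sub_apply, Pi.smul_apply, smul_eq_mul]
      push_cast
      ring
    rw [h1, Helper35.indFun_smul, hΘ, Helper36.zsmul_eq_smul_cast]
    ext x
    simp only [Pi.sub_apply, Pi.smul_apply, smul_eq_mul]
    push_cast
    ring
  have hζS := hYS hζ
  have hζ₂S := hYS hζ₂
  have hξS := hXS hξ
  have hζξ : ζ ≠ ξ := fun h => Set.disjoint_left.mp hXY hξ (h ▸ hζ)
  have hYX : ∀ η ∈ Y, ∀ χ ∈ ntSet Z, χ ≠ η := fun η hη χ hχ h =>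
    Set.disjoint_left.mp hXY hχ (h ▸ hη)
  have ip : ∀ a ∈ ntSet M, ∀ b ∈ ntSet M, classInner a b = if a = b then 1 else 0 :=
    fun a ha b hb => Helper35.classInner_irr' ha.1 hb.1
  obtain ⟨β, hβdef⟩ : ∃ β : N → ℂ, β = (t : ℤ) • ζ - ξ := ⟨_, rfl⟩
  have hβ : β ∈ zspanOn (ntSet M) {1}ᶜ := by
    rw [hβdef, Helper36.mem_zspanOn_compl_one]
    refine ⟨Helper36.zspan_sub (Helper36.zspan_zsmul (Helper36.subset_zspan _ hζS) _)
      (Helper36.subset_zspan _ hξS), ?_⟩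
    rw [Pi.sub_apply, Pi.smul_apply, zsmul_eq_mul, hYdeg ζ hζ, hξ1]
    push_cast
    ring
  obtain ⟨Θ, hΘdef⟩ : ∃ Θ : G → ℂ, Θ = indFun N β := ⟨_, rfl⟩
  have hβip : ∀ χ ∈ ntSet M, classInner β χ =
      (t : ℂ) * (if ζ = χ then 1 else 0) - (if ξ = χ then 1 else 0) := by
    intro χ hχ
    rw [hβdef, Helper35.classInner_sub_left, Helper36.classInner_zsmul_left, ip ζ hζS χ hχ,
      ip ξ hξS χ hχ]
    push_cast
    ring
  have hΘΘ : classInner Θ Θ = ((t ^ 2 + 1 : ℤ) : ℂ) := by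
    have h1 : classInner β β = (t : ℂ) * classInner β ζ - classInner β ξ := by
      conv_lhs => rw [hβdef]
      rw [Helper35.classInner_sub_right, Helper36.classInner_zsmul_right, ← hβdef]
      push_cast
      ring
    have h2 : classInner (indFun N β) (indFun N β) = classInner β β := hα.2.2.1 β hβ β hβ
    rw [hΘdef, h2, h1, hβip ζ hζS, hβip ξ hξS, if_pos rfl, if_pos rfl, if_neg hζξ,
      if_neg (Ne.symm hζξ)]
    push_cast
    ring
  have hΘgen : IsGeneralizedCharacter G Θ := by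
    rw [hΘdef]
    exact hα.2.2.2 β hβ
  have hnegX : ∀ b ∈ zspan (ntSet Z), -b ∈ zspan (ntSet Z) := fun b hb => Helper36.zspan_neg hb
  have hnegY : ∀ b ∈ zspan Y, -b ∈ zspan Y := fun b hb => Helper36.zspan_neg hb
  -- (F3)
  have hF3 : ∀ η ∈ Y, η ≠ ζ → classInner Θ (τ η) = classInner Θ (τ ζ) - t := by
    intro η hη hne
    have hmem : η - ζ ∈ zspanOn Y {1}ᶜ := by
      rw [Helper36.mem_zspanOn_compl_one]
      refine ⟨Helper36.zspan_sub (Helper36.subset_zspan _ hη) (Helper36.subset_zspan _ hζ), ?_⟩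
      rw [Pi.sub_apply, hYdeg η hη, hYdeg ζ hζ, sub_self]
    have h1 : τ (η - ζ) = τ η - τ ζ :=
      Helper36.isoOn_sub hτ hnegY (Helper36.subset_zspan _ hη) (Helper36.subset_zspan _ hζ)
    have h2 : classInner (indFun N β) (indFun N (η - ζ)) = classInner β (η - ζ) :=
      hα.2.2.1 β hβ _ (Helper36.zspanOn_mono hYS _ hmem)
    rw [← hΘdef, ← hτα _ hmem, h1, Helper35.classInner_sub_right, Helper35.classInner_sub_right,
      hβip η (hYS hη), hβip ζ hζS, if_neg (Ne.symm hne), if_neg (hYX η hη ξ hξ), if_pos rfl,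
      if_neg (Ne.symm hζξ)] at h2
    linear_combination h2
  -- (F4)
  have hF4 : ∀ χ ∈ ntSet Z, χ ≠ ξ → ∀ s : ℕ, χ 1 = ((e * s : ℕ) : ℂ) →
      (t : ℂ) * classInner Θ (σ χ) - (s : ℂ) * classInner Θ (σ ξ) = s := by
    intro χ hχ hne s hs
    have hχz := Helper36.zspan_zsmul (Helper36.subset_zspan _ hχ) (t : ℤ)
    have hξz := Helper36.zspan_zsmul (Helper36.subset_zspan _ hξ) (s : ℤ)
    have hmem : (t : ℤ) • χ - (s : ℤ) • ξ ∈ zspanOn (ntSet Z) {1}ᶜ := by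
      rw [Helper36.mem_zspanOn_compl_one]
      refine ⟨Helper36.zspan_sub hχz hξz, ?_⟩
      rw [Pi.sub_apply, Pi.smul_apply, Pi.smul_apply, zsmul_eq_mul, zsmul_eq_mul, hs, hξ1]
      push_cast
      ring
    have h1 : σ ((t : ℤ) • χ - (s : ℤ) • ξ) = (t : ℤ) • σ χ - (s : ℤ) • σ ξ := by
      rw [Helper36.isoOn_sub hσ hnegX hχz hξz, hσ.2.1 χ (Helper36.subset_zspan _ hχ),
        hσ.2.1 ξ (Helper36.subset_zspan _ hξ)]
    have h2 : classInner (indFun N β) (indFun N ((t : ℤ) • χ - (s : ℤ) • ξ)) =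
        classInner β ((t : ℤ) • χ - (s : ℤ) • ξ) :=
      hα.2.2.1 β hβ _ (Helper36.zspanOn_mono hXS _ hmem)
    rw [← hΘdef, ← hσα _ hmem, h1, Helper35.classInner_sub_right, Helper35.classInner_sub_right,
      Helper36.classInner_zsmul_right, Helper36.classInner_zsmul_right,
      Helper36.classInner_zsmul_right, Helper36.classInner_zsmul_right,
      hβip χ (hXS hχ), hβip ξ hξS, if_neg (Ne.symm (hYX ζ hζ χ hχ)), if_neg (Ne.symm hne),
      if_neg hζξ, if_pos rfl] at h2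
    push_cast at h2
    linear_combination h2
  -- (F5)
  have h0 : ∀ f ∈ zspan Y, f 1 = 0 → τ f 1 = 0 := by
    intro f hf hf1
    have hmem : f ∈ zspanOn Y {1}ᶜ := Helper36.mem_zspanOn_compl_one.mpr ⟨hf, hf1⟩
    rw [hτα f hmem]
    exact hα1 f (Helper36.zspanOn_mono hYS _ hmem)
  obtain ⟨ε, hε, hεirr, -⟩ := S1529.result N Y (fun χ hχ => (hYS hχ).1) hY2' τ hτ h0
  have cross := (S1531.result N (ntSet M) (ntSet Z) Y hirr hXS hYS hXY hX2 hY2'
    (fun θ => indFun N θ) hα hα1 σ τ hσ hσα hτ hτα).1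
  have hεε : ε * ε = 1 := by
    rcases hε with rfl | rfl <;> norm_num
  have hεconj : conj ε = ε := by
    rcases hε with rfl | rfl <;> simp
  have hF5 : ∀ η ∈ Y, ∃ w : ℤ, classInner Θ (τ η) = (t : ℂ) * w := by
    intro η hη
    have horth : ∀ θ ∈ zspanOn (ntSet Z) {1}ᶜ, classInner (indFun N θ) (ε • τ η) = 0 := by
      intro θ hθ
      rw [← hσα θ hθ, Helper35.classInner_smul_right,
        Helper36.classInner_iso_orth hσ hτ cross hθ.1 (Helper36.subset_zspan _ hη), mul_zero]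
    obtain ⟨m, hm⟩ := sibley_div N M Z e he hZ1 hdiv (ε • τ η) (hεirr η hη) horth ξ hξ t hξ1
    have hψcf : IsClassFunction G (ε • τ η) := Helper4.isClassFunction_irr ⟨_, hεirr η hη⟩
    obtain ⟨k, hk⟩ := Helper35.classInner_char_nat (Helper35.isChar_of_irr hζS.1)
      (Helper35.isCharacter_res N (Helper35.isChar_of_irr (hεirr η hη)))
    have h1 : classInner Θ (ε • τ η) = (t : ℂ) * k - (t : ℂ) * m := by
      rw [hΘdef, Helper35.frobenius_reciprocity N β _ hψcf, hβdef, Helper35.classInner_sub_left,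
        Helper36.classInner_zsmul_left, hk, hm]
      push_cast
      ring
    rw [Helper35.classInner_smul_right, hεconj] at h1
    have h2 : classInner Θ (τ η) = ε * ((t : ℂ) * k - (t : ℂ) * m) := by
      rw [← h1, ← mul_assoc, hεε, one_mul]
    rcases hε with rfl | rfl
    · exact ⟨k - m, by rw [h2]; push_cast; ring⟩
    · exact ⟨m - k, by rw [h2]; push_cast; ring⟩
  -- orthonormality of the images
  have hττ : ∀ a ∈ Y, ∀ b ∈ Y, classInner (τ a) (τ b) = if a = b then 1 else 0 := by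
    intro a ha b hb
    rw [hτ.2.2.1 a (Helper36.subset_zspan _ ha) b (Helper36.subset_zspan _ hb)]
    exact ip a (hYS ha) b (hYS hb)
  have hσσ : ∀ a ∈ ntSet Z, ∀ b ∈ ntSet Z, classInner (σ a) (σ b) = if a = b then 1 else 0 := by
    intro a ha b hb
    rw [hσ.2.2.1 a (Helper36.subset_zspan _ ha) b (Helper36.subset_zspan _ hb)]
    exact ip a (hXS ha) b (hXS hb)
  have hτσ : ∀ η ∈ Y, ∀ χ ∈ ntSet Z, classInner (τ η) (σ χ) = 0 := by
    intro η hη χ hχ
    rw [Helper36.classInner_conj_symm (σ χ) (τ η), cross χ hχ η hη, map_zero]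
  -- the four coefficients
  obtain ⟨u, hu⟩ := hF5 ζ hζ
  have hA2 : classInner Θ (τ ζ₂) = (((t : ℤ) * u - t : ℤ) : ℂ) := by
    rw [hF3 ζ₂ hζ₂ (Ne.symm hζne), hu]
    push_cast
    ring
  obtain ⟨B, hB⟩ := Helper35.classInner_gen_int hΘgen (hσ.2.2.2 ξ (Helper36.subset_zspan _ hξ))
  have hξc1 : conjFun ξ 1 = ((e * t : ℕ) : ℂ) := by
    rw [Helper35.conjFun_one_irr hξ.1, hξ1]
  have hB2 : classInner Θ (σ (conjFun ξ)) = ((B + 1 : ℤ) : ℂ) := by
    have h1 := hF4 (conjFun ξ) hξc.1 hξc.2 t hξc1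
    rw [hB] at h1
    have h2 : (t : ℂ) * classInner Θ (σ (conjFun ξ)) = (t : ℂ) * ((B + 1 : ℤ) : ℂ) := by
      push_cast
      linear_combination h1
    exact mul_left_cancel₀ ht0' h2
  have hne1 : ζ₂ ≠ ζ := Ne.symm hζne
  have hne2 : ξ ≠ conjFun ξ := Ne.symm hξc.2
  obtain ⟨f, hf⟩ : ∃ f : Fin 4 → G → ℂ, f = ![τ ζ, τ ζ₂, σ ξ, σ (conjFun ξ)] := ⟨_, rfl⟩
  obtain ⟨c, hcdef⟩ : ∃ c : Fin 4 → ℤ, c = ![(t : ℤ) * u, (t : ℤ) * u - t, B, B + 1] := ⟨_, rfl⟩
  have horth : ∀ i j : Fin 4, classInner (f i) (f j) = if i = j then 1 else 0 := by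
    intro i j
    rw [hf]
    fin_cases i <;> fin_cases j <;>
      simp [hττ ζ hζ ζ hζ, hττ ζ hζ ζ₂ hζ₂, hττ ζ₂ hζ₂ ζ hζ, hττ ζ₂ hζ₂ ζ₂ hζ₂,
        hσσ ξ hξ ξ hξ, hσσ ξ hξ _ hξc.1, hσσ _ hξc.1 ξ hξ, hσσ _ hξc.1 _ hξc.1,
        hτσ ζ hζ ξ hξ, hτσ ζ hζ _ hξc.1, hτσ ζ₂ hζ₂ ξ hξ, hτσ ζ₂ hζ₂ _ hξc.1,
        cross ξ hξ ζ hζ, cross ξ hξ ζ₂ hζ₂, cross _ hξc.1 ζ hζ, cross _ hξc.1 ζ₂ hζ₂,
        hζne, hne1, hne2, hξc.2]
  have hc : ∀ i : Fin 4, classInner Θ (f i) = c i := by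
    intro i
    rw [hf, hcdef]
    fin_cases i
    · simpa using hu
    · simpa using hA2
    · simpa using hB
    · simpa using hB2
  obtain ⟨hle, heq⟩ := bessel_fin f horth Θ c hc (t ^ 2 + 1) hΘΘ
  have hsum4 : ∑ i, c i ^ 2 =
      ((t : ℤ) * u) ^ 2 + ((t : ℤ) * u - t) ^ 2 + B ^ 2 + (B + 1) ^ 2 := by
    rw [Fin.sum_univ_four, hcdef]
    simp
  rw [hsum4] at hle heq
  obtain ⟨hu01, hB01, hEQ⟩ := sib_arith (t : ℤ) u B (by exact_mod_cast ht0) hle
  have hΘeq := heq hEQ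
  rw [Fin.sum_univ_four, hf, hcdef] at hΘeq
  simp only [Matrix.cons_val_zero, Matrix.cons_val_one, Matrix.cons_val_two,
    Matrix.cons_val_three, Matrix.head_cons, Matrix.tail_cons] at hΘeq
  -- consequences of the decomposition
  have hYonly : u = 0 → ∀ η ∈ Y, η = ζ ∨ η = ζ₂ := by
    intro hu0 η hη
    by_contra hcon
    push Not at hcon
    have h1 := hF3 η hη hcon.1
    rw [hu, hu0] at h1
    have h2 : classInner Θ (τ η) = 0 := by
      rw [hΘeq]
      simp only [Helper35.classInner_add_left, Helper36.classInner_zsmul_left]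
      rw [hττ ζ hζ η hη, hττ ζ₂ hζ₂ η hη, cross ξ hξ η hη, cross _ hξc.1 η hη,
        if_neg (Ne.symm hcon.1), if_neg (Ne.symm hcon.2)]
      ring
    rw [h2] at h1
    apply ht0'
    push_cast at h1
    linear_combination h1
  have hXonly : B = 0 → ∀ χ ∈ ntSet Z, χ = ξ ∨ χ = conjFun ξ := by
    intro hB0 χ hχ
    by_contra hcon
    push Not at hcon
    obtain ⟨s, hs0, hs⟩ := hdegX χ hχ
    have h1 := hF4 χ hχ hcon.1 s hs
    have h2 : classInner Θ (σ χ) = 0 := by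
      rw [hΘeq]
      simp only [Helper35.classInner_add_left, Helper36.classInner_zsmul_left]
      rw [hτσ ζ hζ χ hχ, hτσ ζ₂ hζ₂ χ hχ, hσσ ξ hξ χ hχ, hσσ _ hξc.1 χ hχ,
        if_neg (Ne.symm hcon.1), if_neg (Ne.symm hcon.2)]
      ring
    rw [h2, hB, hB0] at h1
    have h3 : (s : ℂ) = 0 := by
      push_cast at h1
      linear_combination -h1
    exact hs0.ne' (by exact_mod_cast h3)
  -- normalisation of the two isometries
  obtain ⟨τ', hτ', hτα', hτζ⟩ : ∃ τ' : (N → ℂ) → (G → ℂ), IsLinearIsometryOn (zspan Y) τ' ∧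
      (∀ θ ∈ zspanOn Y {1}ᶜ, τ' θ = indFun N θ) ∧
      ((t : ℤ) * u) • τ ζ + ((t : ℤ) * u - t) • τ ζ₂ = (t : ℤ) • τ' ζ := by
    rcases hu01 with hu0 | hu1
    · obtain ⟨τ', h1, h2, h3, -⟩ := swap2 Y ζ ζ₂ hζ hζ₂ (hYonly hu0) hζS.1 hζ₂S.1 hζne
        (by rw [hYdeg ζ hζ, hYdeg ζ₂ hζ₂]) (fun θ => indFun N θ) τ hτ hτα
      refine ⟨τ', h1, fun θ hθ => h2 θ hθ, ?_⟩
      rw [h3, hu0]
      simp
    · refine ⟨τ, hτ, hτα, ?_⟩
      rw [hu1]
      simp
  obtain ⟨σ', hσ', hσα', hσξ⟩ : ∃ σ' : (N → ℂ) → (G → ℂ),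
      IsLinearIsometryOn (zspan (ntSet Z)) σ' ∧
      (∀ θ ∈ zspanOn (ntSet Z) {1}ᶜ, σ' θ = indFun N θ) ∧
      B • σ ξ + (B + 1) • σ (conjFun ξ) = -σ' ξ := by
    rcases hB01 with hB1 | hB0
    · refine ⟨σ, hσ, hσα, ?_⟩
      rw [hB1]
      simp
    · obtain ⟨σ', h1, h2, h3, -⟩ := swap2 (ntSet Z) ξ (conjFun ξ) hξ hξc.1 (hXonly hB0) hξ.1
        hξc.1.1 hne2 (by rw [hξc1, hξ1]) (fun θ => indFun N θ) σ hσ hσα
      refine ⟨σ', h1, fun θ hθ => h2 θ hθ, ?_⟩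
      rw [h3, hB0]
      simp
  apply hfinal σ' τ' hσ' hσα' hτ' hτα'
  rw [← hβdef, ← hΘdef, hΘeq, hτζ, add_assoc, hσξ, sub_eq_add_neg]

end SibGlue

section SibMain

variable {G : Type*} [Group G] [Fintype G] (N : Subgroup G) [Fintype N]

/-- Sibley's coherence theorem for a Frobenius group of odd order whose kernel `M` is a
non-abelian `p`-group, given the isometry property of induction and the divisibility property
(Peterfalvi (6.7)) for the centre of `M` -/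
theorem sibley_main (M : Subgroup N) [hM : M.Normal]
    (hfrob : ∀ y : N, y ∉ M → ∀ k ∈ M, k * y = y * k → k = 1)
    (hodd : Odd (Nat.card N)) (p : ℕ) (hp : p.Prime) (hpM : IsPGroup p M)
    (hMnc : ¬ ∀ a ∈ M, ∀ b ∈ M, a * b = b * a)
    (hα : IsLinearIsometryOn (zspanOn (ntSet M) {1}ᶜ) (fun θ => indFun N θ))
    (hα1 : ∀ θ ∈ zspanOn (ntSet M) {1}ᶜ, indFun N θ 1 = 0)
    (hdiv : ∀ ψ : G → ℂ, IsIrrCharacter G ψ →
      (∀ z z' : N, z ∈ M ⊓ Subgroup.centralizer (M : Set N) →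
        z' ∈ M ⊓ Subgroup.centralizer (M : Set N) → z ≠ 1 → z' ≠ 1 → ψ z = ψ z') →
      ∀ z : N, z ∈ M ⊓ Subgroup.centralizer (M : Set N) → z ≠ 1 →
        ∃ n d : ℤ, ψ z = n ∧ ψ 1 = d ∧ (Nat.card M : ℤ) ∣ d - n) :
    IsCoherent (ntSet M) {1}ᶜ (fun θ => indFun N θ) := by
  classical
  obtain ⟨Z, hZdef⟩ : ∃ Z : Subgroup N, Z = M ⊓ Subgroup.centralizer (M : Set N) := ⟨_, rfl⟩
  rw [← hZdef] at hdiv
  have hZM : Z ≤ M := by
    rw [hZdef]
    exact inf_le_left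
  have hZc : ∀ z ∈ Z, ∀ k ∈ M, z * k = k * z := by
    intro z hz k hk
    rw [hZdef] at hz
    exact ((Subgroup.mem_centralizer_iff.mp (Subgroup.mem_inf.mp hz).2) k hk).symm
  have hZn : Z.Normal := by
    refine ⟨fun z hz g => ?_⟩
    rw [hZdef] at hz ⊢
    refine Subgroup.mem_inf.mpr ⟨hM.conj_mem z (Subgroup.mem_inf.mp hz).1 g, ?_⟩
    rw [Subgroup.mem_centralizer_iff]
    intro k hk
    have h1 := (Subgroup.mem_centralizer_iff.mp (Subgroup.mem_inf.mp hz).2) (g⁻¹ * k * g) (by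
      have := hM.conj_mem k hk g⁻¹
      rwa [inv_inv] at this)
    calc k * (g * z * g⁻¹) = g * ((g⁻¹ * k * g) * z) * g⁻¹ := by group
      _ = g * (z * (g⁻¹ * k * g)) * g⁻¹ := by rw [h1]
      _ = g * z * g⁻¹ * k := by group
  have hMnt : Nontrivial M := by
    by_contra h
    rw [not_nontrivial_iff_subsingleton] at h
    apply hMnc
    intro a ha b hb
    have h1 : (⟨a, ha⟩ : M) = ⟨b, hb⟩ := Subsingleton.elim _ _
    have h2 : a = b := congrArg Subtype.val h1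
    rw [h2]
  have hZ1 : Z ≠ ⊥ := by
    have : Fact p.Prime := ⟨hp⟩
    have hc := hpM.center_nontrivial
    obtain ⟨z, hz⟩ := exists_ne (1 : Subgroup.center M)
    intro hbot
    apply hz
    have h1 : ((z : M) : N) ∈ Z := by
      rw [hZdef]
      refine Subgroup.mem_inf.mpr ⟨(z : M).2, ?_⟩
      rw [Subgroup.mem_centralizer_iff]
      intro k hk
      have h2 := (Subgroup.mem_center_iff.mp z.2) ⟨k, hk⟩
      exact congrArg Subtype.val h2
    rw [hbot, Subgroup.mem_bot] at h1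
    apply Subtype.ext
    apply Subtype.ext
    exact h1
  obtain ⟨n, m, hm0, hmn, hn, hm, hcop, hepos, hcardN, hAidx, hdeg, hsum⟩ :=
    frob_pgroup_arith N M Z hfrob p hp hpM hZM hZc hZ1
  obtain ⟨e, he⟩ : ∃ e : ℕ, e = M.index := ⟨_, rfl⟩
  rw [← he] at hcop hepos hcardN hAidx hdeg hsum
  have hp1 : 1 < p := hp.one_lt
  have hmlt : m < n := by
    rcases hmn.lt_or_eq with h | h
    · exact h
    · exfalso
      apply hMnc
      have h1 : Z = M := Subgroup.eq_of_le_of_card_ge hZM (by rw [hn, hm, h])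
      intro a ha b hb
      rw [← h1] at ha
      exact hZc a ha b hb
  have hoddN : Odd (e * p ^ n) := by
    rw [← hcardN]
    exact hodd
  have heodd : Odd e := (Nat.odd_mul.mp hoddN).1
  have hpodd : Odd p := by
    have h1 := (Nat.odd_mul.mp hoddN).2
    exact (Nat.odd_pow_iff (by omega)).mp h1
  have hp2 : p ≠ 2 := by
    rintro rfl
    exact absurd hpodd (by decide)
  have hXfin : ∀ χ ∈ ntFin Z, ∃ a : ℕ, charDegree χ = e * p ^ a ∧ m + 2 * a ≤ n :=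
    fun χ hχ => hdeg χ (ntSet_mono hZM (mem_ntFin.mp hχ))
  -- `2 e ≤ |Z| - 1`
  have h2e : 2 * e ≤ p ^ m - 1 := by
    have h1 : e ^ 2 ∣ ∑ χ ∈ ntFin Z, charDegree χ ^ 2 := by
      apply Finset.dvd_sum
      intro χ hχ
      obtain ⟨a, ha, -⟩ := hXfin χ hχ
      rw [ha]
      exact pow_dvd_pow_of_dvd (Dvd.intro _ rfl) 2
    rw [hsum, pow_two] at h1
    have h3 : e ∣ p ^ (n - m) * (p ^ m - 1) := Nat.dvd_of_mul_dvd_mul_left hepos h1
    have h4 : e ∣ p ^ m - 1 := (Nat.Coprime.pow_right _ hcop).dvd_of_dvd_mul_left h3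
    have h5 : 2 ∣ p ^ m - 1 := by
      have h6 : Odd (p ^ m) := hpodd.pow
      obtain ⟨k, hk⟩ := h6
      exact ⟨k, by omega⟩
    have h7 : Nat.Coprime 2 e := Nat.coprime_two_left.mpr heodd
    have h8 : 2 * e ∣ p ^ m - 1 := h7.mul_dvd_of_dvd_of_dvd h5 h4
    have h9 : 1 < p ^ m := Nat.one_lt_pow (by omega) hp1
    exact Nat.le_of_dvd (by omega) h8
  have hXS : ntSet Z ⊆ ntSet M := ntSet_mono hZM
  have hXcoh : IsCoherent (ntSet Z) {1}ᶜ (fun θ => indFun N θ) :=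
    xcoh N M Z hfrob hodd p hp hpM hZM hZc hZ1 _ (isoOn_mono (Helper36.zspanOn_mono hXS _) hα)
      (fun θ hθ => hα1 θ (Helper36.zspanOn_mono hXS _ hθ))
  have hXfinS : ntFin Z ⊆ ntFin M := fun χ hχ => mem_ntFin.mpr (hXS (mem_ntFin.mp hχ))
  -- the seed for the last extension
  obtain ⟨C₀, hC₀M, hZC₀, hC₀coh, ψ₀, hψ₀, hψ₀deg⟩ : ∃ C₀ : Finset (N → ℂ), C₀ ⊆ ntFin M ∧
      ntFin Z ⊆ C₀ ∧ IsCoherent (↑C₀ : Set (N → ℂ)) {1}ᶜ (fun θ => indFun N θ) ∧
      ∃ ψ₀ ∈ C₀, charDegree ψ₀ = e := by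
    by_cases hI : ∃ χ ∈ ntFin Z, charDegree χ = e
    · obtain ⟨χ, hχ, hχe⟩ := hI
      refine ⟨ntFin Z, hXfinS, Finset.Subset.refl _, ?_, χ, hχ, hχe⟩
      rw [coe_ntFin]
      exact hXcoh
    · push Not at hI
      obtain ⟨Yf, hYf⟩ : ∃ Yf : Finset (N → ℂ), Yf = (ntFin M).filter (fun χ => charDegree χ = e) :=
        ⟨_, rfl⟩
      have hYmem : ∀ χ, χ ∈ Yf ↔ χ ∈ ntSet M ∧ charDegree χ = e := by
        intro χ
        rw [hYf, Finset.mem_filter, mem_ntFin]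
      have hYS : (↑Yf : Set (N → ℂ)) ⊆ ntSet M := fun χ hχ => ((hYmem χ).mp hχ).1
      have hYne : Yf.Nonempty := by
        by_contra hempty
        rw [Finset.not_nonempty_iff_eq_empty] at hempty
        have h1 := sum_sq_ntFin M
        rw [hcardN, ← he] at h1
        have h2 : p ∣ ∑ f ∈ ntFin M, charDegree f ^ 2 := by
          apply Finset.dvd_sum
          intro χ hχ
          obtain ⟨a, ha, -⟩ := hdeg χ (mem_ntFin.mp hχ)
          have ha0 : a ≠ 0 := by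
            rintro rfl
            have h3 : χ ∈ Yf := (hYmem χ).mpr ⟨mem_ntFin.mp hχ, by rw [ha, pow_zero, mul_one]⟩
            rw [hempty] at h3
            exact absurd h3 (Finset.notMem_empty _)
          rw [ha]
          exact Dvd.dvd.pow (Dvd.dvd.mul_left (dvd_pow_self p ha0) e) (by norm_num)
        have h4 : p ∣ e * p ^ n := Dvd.dvd.mul_left (dvd_pow_self p (by omega)) e
        have h5 : p ∣ e := by
          have h6 : p ∣ ∑ f ∈ ntFin M, charDegree f ^ 2 + e := by rw [h1]; exact h4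
          exact (Nat.dvd_add_right h2).mp h6
        have h7 := Nat.Coprime.eq_one_of_dvd hcop.symm h5
        omega
      obtain ⟨ζ, hζ⟩ := hYne
      have hζS := ((hYmem ζ).mp hζ).1
      have hYconj : ∀ χ ∈ (↑Yf : Set (N → ℂ)), conjFun χ ∈ (↑Yf : Set (N → ℂ)) ∧ conjFun χ ≠ χ := by
        intro χ hχ
        have hχ' := (hYmem χ).mp hχ
        have h1 := ntSet_conj hodd hχ'.1
        exact ⟨(hYmem _).mpr ⟨h1.1, by rw [charDegree_conjFun hχ'.1.1]; exact hχ'.2⟩, h1.2⟩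
      have hYdeg : ∀ η ∈ (↑Yf : Set (N → ℂ)), η 1 = (e : ℂ) := by
        intro η hη
        have hη' := (hYmem η).mp hη
        rw [(Helper83.irr_degree hη'.1.1).2, hη'.2]
      have hYcoh : IsCoherent (↑Yf : Set (N → ℂ)) {1}ᶜ (fun θ => indFun N θ) :=
        uniform_coherent _ ⟨ζ, hζ⟩ (fun χ hχ => (hYS hχ).1) hYconj _
          (isoOn_mono (Helper36.zspanOn_mono hYS _) hα)
          (fun θ hθ => hα1 θ (Helper36.zspanOn_mono hYS _ hθ))
          (fun φ hφ ψ hψ => by rw [hYdeg φ hφ, hYdeg ψ hψ])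
      have hXY : Disjoint (ntSet Z) (↑Yf : Set (N → ℂ)) := by
        rw [Set.disjoint_left]
        intro χ hχ hχY
        exact hI χ (mem_ntFin.mpr hχ) ((hYmem χ).mp hχY).2
      have hXne : (ntFin Z).Nonempty := by
        rw [Finset.nonempty_iff_ne_empty]
        intro h
        rw [h, Finset.sum_empty] at hsum
        have h1 : 1 < p ^ m := Nat.one_lt_pow (by omega) hp1
        have h2 : 0 < e * (p ^ (n - m) * (p ^ m - 1)) := by
          apply Nat.mul_pos hepos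
          apply Nat.mul_pos (by positivity)
          omega
        omega
      obtain ⟨ξ, hξ⟩ := hXne
      have hglue := sibley_glue N M Z hZM e (by rw [hcardN, hn]) hZ1 hα hα1 hdiv (↑Yf) hYS hXY
        hYdeg ⟨ζ, hζ, conjFun ζ, (hYconj ζ hζ).1, (hYconj ζ hζ).2.symm⟩
        (fun χ hχ => by
          obtain ⟨a, ha, -⟩ := hdeg χ (hXS hχ)
          exact ⟨p ^ a, by positivity, by rw [(Helper83.irr_degree hχ.1).2, ha]⟩)
        (fun χ hχ => ntSet_conj hodd hχ) ξ (mem_ntFin.mp hξ) hXcoh hYcoh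
      refine ⟨ntFin Z ∪ Yf, ?_, Finset.subset_union_left, ?_, ζ, Finset.mem_union_right _ hζ,
        ((hYmem ζ).mp hζ).2⟩
      · apply Finset.union_subset hXfinS
        intro χ hχ
        exact mem_ntFin.mpr (hYS hχ)
      · rw [Finset.coe_union, coe_ntFin]
        exact hglue
  rw [← coe_ntFin] at hα hα1 ⊢
  refine extend_max N (ntFin M) C₀ hC₀M (fun ξ hξ => (mem_ntFin.mp hξ).1) _ hα hα1 hC₀coh ?_
  intro C hC₀C hCM hCne _
  have hne' : (ntFin M \ C).Nonempty := by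
    rw [Finset.nonempty_iff_ne_empty]
    intro h
    exact hCne (Finset.Subset.antisymm hCM (Finset.sdiff_eq_empty_iff_subset.mp h))
  obtain ⟨χ, hχ⟩ := hne'
  rw [Finset.mem_sdiff] at hχ
  obtain ⟨a, ha, hle⟩ := hdeg χ (mem_ntFin.mp hχ.1)
  refine ⟨χ, hχ.1, hχ.2, ψ₀, hC₀C hψ₀, ?_, ?_⟩
  · rw [hψ₀deg, ha]
    exact Dvd.intro _ rfl
  · have halt : a < n - m := by omega
    have h1 : p ^ a < p ^ (n - m) := Nat.pow_lt_pow_right hp1 halt
    have h2 : ∑ ξ ∈ ntFin Z, charDegree ξ ^ 2 ≤ ∑ ξ ∈ C, charDegree ξ ^ 2 :=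
      Finset.sum_le_sum_of_subset (hZC₀.trans hC₀C)
    rw [hsum] at h2
    rw [hψ₀deg, ha]
    calc 2 * e * (e * p ^ a) = e * (p ^ a * (2 * e)) := by ring
      _ < e * (p ^ (n - m) * (2 * e)) := by
          apply Nat.mul_lt_mul_of_pos_left _ hepos
          exact Nat.mul_lt_mul_of_pos_right h1 (by omega)
      _ ≤ e * (p ^ (n - m) * (p ^ m - 1)) :=
          Nat.mul_le_mul_left _ (Nat.mul_le_mul_left _ h2e)
      _ ≤ ∑ ξ ∈ C, charDegree ξ ^ 2 := h2

end SibMain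

section Family

variable {L : Type*} [Group L] [Fintype L] {G : Type*} [Group G] [Fintype G]

theorem isoOn_lin_sum {E : Set (L → ℂ)} {τ : (L → ℂ) → (G → ℂ)} (h : IsLinearIsometryOn E τ)
    (hE0 : (0 : L → ℂ) ∈ E) (hEadd : ∀ a ∈ E, ∀ b ∈ E, a + b ∈ E)
    (hEsmul : ∀ a ∈ E, ∀ n : ℤ, n • a ∈ E) {ι : Type*} (s : Finset ι) (c : ι → ℤ)
    (v : ι → L → ℂ) (hv : ∀ i ∈ s, v i ∈ E) :
    (∑ i ∈ s, c i • v i) ∈ E ∧ τ (∑ i ∈ s, c i • v i) = ∑ i ∈ s, c i • τ (v i) := by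
  classical
  induction s using Finset.induction_on with
  | empty =>
    simp only [Finset.sum_empty]
    exact ⟨hE0, Helper36.isoOn_zero h hE0⟩
  | insert a s ha ih =>
    have hv' : ∀ i ∈ s, v i ∈ E := fun i hi => hv i (Finset.mem_insert_of_mem hi)
    obtain ⟨h1, h2⟩ := ih hv'
    have h3 : c a • v a ∈ E := hEsmul _ (hv a (Finset.mem_insert_self a s)) _
    rw [Finset.sum_insert ha, Finset.sum_insert ha]
    refine ⟨hEadd _ h3 _ h1, ?_⟩
    rw [h.1 _ h3 _ h1, h.2.1 _ (hv a (Finset.mem_insert_self a s)), h2]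

theorem inner_sum_orth {ι : Type*} [DecidableEq ι] (s : Finset ι) (e : ι → G → ℂ)
    (horth : ∀ i ∈ s, ∀ j ∈ s, classInner (e i) (e j) = if i = j then 1 else 0) (c c' : ι → ℤ) :
    classInner (∑ i ∈ s, c i • e i) (∑ i ∈ s, c' i • e i) = ∑ i ∈ s, (c i : ℂ) * c' i := by
  rw [Helper35.classInner_sum_left]
  refine Finset.sum_congr rfl fun i hi => ?_
  rw [Helper35.classInner_sum_right, Finset.sum_eq_single i]
  · rw [Helper36.classInner_zsmul_left, Helper36.classInner_zsmul_right, horth i hi i hi,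
      if_pos rfl]
    ring
  · intro j hj hne
    rw [Helper36.classInner_zsmul_left, Helper36.classInner_zsmul_right, horth i hi j hj,
      if_neg (Ne.symm hne)]
    ring
  · intro h
    exact absurd hi h

/-- a finite set of irreducible characters of the same degree whose differences are sent to the
differences of the members of a signed orthonormal family of irreducible characters is
coherent -/
theorem coherent_of_family (Sf : Finset (L → ℂ)) (hirr : ∀ χ ∈ Sf, IsIrrCharacter L χ)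
    (hdeg : ∀ φ ∈ Sf, ∀ ψ ∈ Sf, φ 1 = ψ 1) (h2 : ∃ a ∈ Sf, ∃ b ∈ Sf, a ≠ b)
    (α : (L → ℂ) → (G → ℂ)) (hα : IsLinearIsometryOn (zspanOn (↑Sf : Set (L → ℂ)) {1}ᶜ) α)
    (ε : ℂ) (hε : ε = 1 ∨ ε = -1) (F : (L → ℂ) → (G → ℂ))
    (hF : ∀ χ ∈ Sf, IsIrrCharacter G (F χ)) (hFinj : ∀ χ ∈ Sf, ∀ ξ ∈ Sf, F χ = F ξ → χ = ξ)
    (hfam : ∀ χ ∈ Sf, ∀ ξ ∈ Sf, α (χ - ξ) = ε • (F χ - F ξ)) :
    IsCoherent (↑Sf : Set (L → ℂ)) {1}ᶜ α := by
  classical
  obtain ⟨a, ha, b, hb, hab⟩ := h2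
  have hexp : ∀ f ∈ zspan (↑Sf : Set (L → ℂ)), ∃ c : (L → ℂ) → ℤ, f = ∑ χ ∈ Sf, c χ • χ := by
    intro f hf
    obtain ⟨s, c, hs, rfl⟩ := Helper36.zspan_exists_decomp hf
    refine ⟨fun χ => if χ ∈ s then c χ else 0, ?_⟩
    rw [← Finset.sum_subset (Finset.coe_subset.mp hs)]
    · exact Finset.sum_congr rfl fun ψ hψ => by dsimp only; rw [if_pos hψ]
    · intro χ _ hχ
      dsimp only
      rw [if_neg hχ, zero_smul]
  have horthL : ∀ χ ∈ Sf, ∀ ξ ∈ Sf, classInner χ ξ = if χ = ξ then 1 else 0 :=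
    fun χ hχ ξ hξ => Helper35.classInner_irr' (hirr χ hχ) (hirr ξ hξ)
  have hcoef : ∀ (c : (L → ℂ) → ℤ), ∀ χ ∈ Sf, classInner (∑ ψ ∈ Sf, c ψ • ψ) χ = c χ := by
    intro c χ hχ
    rw [Helper35.classInner_sum_left, Finset.sum_eq_single χ]
    · rw [Helper36.classInner_zsmul_left, horthL χ hχ χ hχ, if_pos rfl, mul_one]
    · intro ψ hψ hne
      rw [Helper36.classInner_zsmul_left, horthL ψ hψ χ hχ, if_neg hne, mul_zero]
    · intro h
      exact absurd hχ h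
  have hεε : ε * (starRingEnd ℂ) ε = 1 := by
    rcases hε with rfl | rfl <;> simp
  have hFF : ∀ χ ∈ Sf, ∀ ξ ∈ Sf, classInner (ε • F χ) (ε • F ξ) = if χ = ξ then 1 else 0 := by
    intro χ hχ ξ hξ
    rw [Helper35.classInner_smul_left, Helper35.classInner_smul_right,
      Helper35.classInner_irr' (hF χ hχ) (hF ξ hξ)]
    by_cases h : χ = ξ
    · rw [if_pos h, if_pos (by rw [h])]
      linear_combination hεε
    · rw [if_neg h, if_neg (fun h' => h (hFinj χ hχ ξ hξ h'))]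
      ring
  have hval : ∀ (c : (L → ℂ) → ℤ), ∑ χ ∈ Sf, classInner (∑ ψ ∈ Sf, c ψ • ψ) χ • (ε • F χ) =
      ∑ χ ∈ Sf, c χ • (ε • F χ) := by
    intro c
    refine Finset.sum_congr rfl fun χ hχ => ?_
    rw [hcoef c χ hχ, ← Helper36.zsmul_eq_smul_cast]
  have hεF : ∀ χ ∈ Sf, IsGeneralizedCharacter G (ε • F χ) := by
    intro χ hχ
    rcases hε with rfl | rfl
    · rw [one_smul]
      exact Helper36.isGenChar_of_irr (hF χ hχ)
    · rw [neg_one_smul]
      exact Helper36.isGenChar_neg (Helper36.isGenChar_of_irr (hF χ hχ))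
  have ha1 : a 1 ≠ 0 := Helper83.irr_one_ne_zero (hirr a ha)
  refine ⟨⟨a - b, ?_, sub_ne_zero.mpr hab⟩,
    fun f => ∑ χ ∈ Sf, classInner f χ • (ε • F χ), ⟨?_, ?_, ?_, ?_⟩, ?_⟩
  · rw [Helper36.mem_zspanOn_compl_one]
    exact ⟨Helper36.zspan_sub (Helper36.subset_zspan _ ha) (Helper36.subset_zspan _ hb),
      by rw [Pi.sub_apply, hdeg a ha b hb, sub_self]⟩
  · intro f _ g _
    show ∑ χ ∈ Sf, classInner (f + g) χ • (ε • F χ) = _
    rw [← Finset.sum_add_distrib]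
    refine Finset.sum_congr rfl fun χ _ => ?_
    rw [Helper35.classInner_add_left, add_smul]
  · intro f _ k
    show ∑ χ ∈ Sf, classInner (k • f) χ • (ε • F χ) =
      k • ∑ χ ∈ Sf, classInner f χ • (ε • F χ)
    rw [Finset.smul_sum]
    refine Finset.sum_congr rfl fun χ _ => ?_
    rw [Helper36.classInner_zsmul_left, mul_smul, ← Helper36.zsmul_eq_smul_cast]
  · intro f hf g hg
    obtain ⟨c, rfl⟩ := hexp f hf
    obtain ⟨c', rfl⟩ := hexp g hg
    show classInner (∑ χ ∈ Sf, classInner (∑ ψ ∈ Sf, c ψ • ψ) χ • (ε • F χ))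
      (∑ χ ∈ Sf, classInner (∑ ψ ∈ Sf, c' ψ • ψ) χ • (ε • F χ)) = _
    rw [hval c, hval c', inner_sum_orth Sf (fun χ => ε • F χ) hFF c c',
      inner_sum_orth Sf (fun χ => χ) horthL c c']
  · intro f hf
    obtain ⟨c, rfl⟩ := hexp f hf
    show IsGeneralizedCharacter G (∑ χ ∈ Sf, classInner (∑ ψ ∈ Sf, c ψ • ψ) χ • (ε • F χ))
    rw [hval c]
    exact Helper36.isGenChar_sum _ _ (fun χ hχ => Helper36.isGenChar_zsmul (hεF χ hχ) _)
  · intro f hf
    obtain ⟨c, rfl⟩ := hexp f hf.1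
    show ∑ χ ∈ Sf, classInner (∑ ψ ∈ Sf, c ψ • ψ) χ • (ε • F χ) = α (∑ ψ ∈ Sf, c ψ • ψ)
    rw [hval c]
    have h0 := (Helper36.mem_zspanOn_compl_one.mp hf).2
    have hsum0 : ∑ ψ ∈ Sf, c ψ = 0 := by
      have h1 : ((∑ ψ ∈ Sf, c ψ : ℤ) : ℂ) * a 1 = 0 := by
        rw [← h0, Finset.sum_apply, Int.cast_sum, Finset.sum_mul]
        refine Finset.sum_congr rfl fun ψ hψ => ?_
        rw [Pi.smul_apply, zsmul_eq_mul, hdeg ψ hψ a ha]
      rcases mul_eq_zero.mp h1 with h | h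
      · exact_mod_cast h
      · exact absurd h ha1
    have hrew : ∑ ψ ∈ Sf, c ψ • ψ = ∑ ψ ∈ Sf, c ψ • (ψ - a) := by
      have h1 : ∑ ψ ∈ Sf, c ψ • (ψ - a) = ∑ ψ ∈ Sf, c ψ • ψ - (∑ ψ ∈ Sf, c ψ) • a := by
        rw [Finset.sum_smul, ← Finset.sum_sub_distrib]
        exact Finset.sum_congr rfl fun ψ _ => smul_sub _ _ _
      rw [h1, hsum0, zero_smul, sub_zero]
    have hmemE : ∀ ψ ∈ Sf, ψ - a ∈ zspanOn (↑Sf : Set (L → ℂ)) {1}ᶜ := by
      intro ψ hψ
      rw [Helper36.mem_zspanOn_compl_one]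
      exact ⟨Helper36.zspan_sub (Helper36.subset_zspan _ hψ) (Helper36.subset_zspan _ ha),
        by rw [Pi.sub_apply, hdeg ψ hψ a ha, sub_self]⟩
    have hlin := (isoOn_lin_sum hα
      (Helper36.mem_zspanOn_compl_one.mpr ⟨Helper36.zspan_zero _, rfl⟩)
      (fun x hx y hy => Helper36.zspanOn_add hx hy)
      (fun x hx n => Helper36.zspanOn_zsmul hx n) Sf c (fun ψ => ψ - a) hmemE).2
    rw [hrew, hlin]
    have h3 : ∑ ψ ∈ Sf, c ψ • α (ψ - a) = ∑ ψ ∈ Sf, c ψ • (ε • F ψ) - (∑ ψ ∈ Sf, c ψ) • (ε • F a) := by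
      rw [Finset.sum_smul, ← Finset.sum_sub_distrib]
      refine Finset.sum_congr rfl fun ψ hψ => ?_
      rw [hfam ψ hψ a ha, smul_sub, smul_sub]
    rw [h3, hsum0, zero_smul, sub_zero]

end Family

end Cfsg.Agent.Lib.Helper35
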