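import Cfsg.Agent.Lib.Helper35.CnLocal
import Cfsg.Agent.Lib.Helper35.CnPar
import Cfsg.Agent.Lib.Helper35.CnArith
import Cfsg.Agent.Lib.Helper35.Sibley
import Cfsg.Agent.S1527
import Mathlib

set_option autoImplicit false
open Cfsg

namespace Cfsg.Agent.Lib.Helper35

open Cfsg.Agent.Lib
open scoped ComplexConjugate

open Classical in
/-- the local data attached to a T.I. subgroup `K` with Frobenius normaliser -/
structure CnData {G : Type*} [Group G] [Fintype G] (K : Subgroup G) (e r : ℕ)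
    (X : Finset (G → ℂ)) (t : (G → ℂ) → ℕ) (ε : ℂ) (η β : G → ℂ) (d : ℤ) : Prop where
  he : 2 ≤ e
  hr : 2 ≤ r
  hcard : Nat.card K = e * r + 1
  hG : (Subgroup.normalizer (K : Set G)).index * e * Nat.card K = Nat.card G
  hε : ε = 1 ∨ ε = -1
  hirr : ∀ u ∈ X, IsIrrCharacter G (ε • u)
  hη : η ∈ X
  htη : t η = 1
  htpos : ∀ u ∈ X, 0 < t u
  hsum : ∑ u ∈ X, t u ^ 2 = r
  htwo : ∃ u ∈ X, u ≠ η
  hone : ∀ u ∈ X, classInner u (fun _ => 1) = 0
  hprop : ∀ u ∈ X, ∀ g : G, (∀ y : G, y * g * y⁻¹ ∈ K → g = 1) → u g = (t u : ℂ) * η g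
  hnorm : ∑ x : G, (if x ∈ K ∧ x ≠ 1 then η x * conj (η x) else 0) =
    (e : ℂ) * Nat.card K - (e : ℂ) ^ 2 - 2 * d * e + (d : ℂ) ^ 2 * (Nat.card K - 1)
  hβgen : IsGeneralizedCharacter G β
  hβnorm : classInner β β = (e : ℂ) + 1
  hβone : classInner β (fun _ => 1) = 1
  hβ1 : β 1 = 0
  hβη : ∀ x ∈ K, x ≠ 1 → β x + η x = (e : ℂ) + d
  hβvan : ∀ g : G, (∀ y : G, y * g * y⁻¹ ∈ K → g = 1) → β g = 0
  hβX : ∀ u ∈ X, classInner β u = (d : ℂ) * t u - if u = η then 1 else 0
  hβconst : ∀ (f : G → ℂ) (c : ℂ), IsClassFunction G f → (∀ x ∈ K, x ≠ 1 → f x = c) →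
    classInner β f = conj c
  hconst : ∀ f : G → ℂ, IsGeneralizedCharacter G f → (∀ u ∈ X, classInner f u = 0) →
    ∃ v : ℤ, ∀ x ∈ K, x ≠ 1 → f x = v

section CnSingle

variable {G : Type*} [Group G] [Fintype G]

theorem cn_local' (hodd : Odd (Nat.card G)) (K : Subgroup G)
    (hTI : IsTISubset (K : Set G))
    (hC : ∀ k ∈ K, k ≠ 1 → Subgroup.centralizer ({k} : Set G) ≤ K)
    (hlt : K < Subgroup.normalizer (K : Set G)) (hK1 : K ≠ ⊥) :
    ∃ (e r : ℕ) (X : Finset (G → ℂ)) (t : (G → ℂ) → ℕ) (ε : ℂ) (η β : G → ℂ) (d : ℤ),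
      CnData K e r X t ε η β d := by
  obtain ⟨e, r, X, t, ε, η, β, d, ⟨h1, h2, h3, h4⟩, ⟨h5, h6⟩, ⟨h7, h8, h9, h10, h11⟩, h12, h13,
    h14, ⟨h15, h16, h17, h18, h19, h20, h21, h22⟩, h23⟩ := cn_local hodd K hTI hC hlt hK1
  exact ⟨e, r, X, t, ε, η, β, d, ⟨h1, h2, h3, h4, h5, h6, h7, h8, h9, h10, h11, h12, h13, h14,
    h15, h16, h17, h18, h19, h20, h21, h22, h23⟩⟩

variable {K : Subgroup G} {e r : ℕ} {X : Finset (G → ℂ)} {t : (G → ℂ) → ℕ} {ε : ℂ}
  {η β : G → ℂ} {d : ℤ} (D : CnData K e r X t ε η β d)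

include D

theorem CnData.ε_ne : ε ≠ 0 := by
  rcases D.hε with h | h <;> rw [h] <;> norm_num

theorem CnData.ε_conj : conj ε = ε := by
  rcases D.hε with h | h <;> rw [h] <;> simp

theorem CnData.ε_sq : ε * ε = 1 := by
  rcases D.hε with h | h <;> rw [h] <;> norm_num

theorem CnData.smul_inj {u v : G → ℂ} (h : ε • u = ε • v) : u = v := by
  have h6 := congrArg (fun f => ε⁻¹ • f) h
  simpa [smul_smul, inv_mul_cancel₀ D.ε_ne] using h6

open Classical in
theorem CnData.inner_X {u v : G → ℂ} (hu : u ∈ X) (hv : v ∈ X) :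
    classInner u v = if u = v then 1 else 0 := by
  have h1 := classInner_irr' (D.hirr u hu) (D.hirr v hv)
  rw [classInner_smul_left, classInner_smul_right, D.ε_conj, ← mul_assoc, D.ε_sq, one_mul] at h1
  rw [h1]
  by_cases h : u = v
  · rw [if_pos h, if_pos (by rw [h])]
  · rw [if_neg h, if_neg (fun h' => h (D.smul_inj h'))]

theorem CnData.gen {u : G → ℂ} (hu : u ∈ X) : IsGeneralizedCharacter G u := by
  have h1 := D.hirr u hu
  rcases D.hε with h | h
  · rw [h, one_smul] at h1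
    exact isGenChar_of_char (isChar_of_irr h1)
  · rw [h] at h1
    have h2 : u = -((-1 : ℂ) • u) := by simp
    rw [h2]
    exact isGenChar_neg (isGenChar_of_char (isChar_of_irr h1))

theorem CnData.cf {u : G → ℂ} (hu : u ∈ X) : IsClassFunction G u :=
  isClassFunction_of_gen (D.gen hu)

theorem CnData.deg : ∃ w : ℤ, η 1 = w ∧ w ≠ 0 := by
  obtain ⟨n, hn0, hn⟩ := Helper4.irr_one_nat ⟨_, D.hirr η D.hη⟩
  simp only [Pi.smul_apply, smul_eq_mul] at hn
  rcases D.hε with h | h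
  · rw [h, one_mul] at hn
    exact ⟨n, by rw [hn]; simp, by omega⟩
  · rw [h] at hn
    refine ⟨-n, ?_, by omega⟩
    push_cast
    linear_combination -hn

end CnSingle

section CnMulti

variable {G : Type*} [Group G] [Fintype G] {ι : Type*} [Fintype ι] (H : ι → Subgroup G)
  (hcop : ∀ i j, i ≠ j → Nat.Coprime (Nat.card (H i)) (Nat.card (H j)))

include hcop in
omit [Fintype ι] [Fintype G] in
theorem cn_disj [Finite G] {i j : ι} (hij : i ≠ j) (g : G) (hg : ∃ y : G, y * g * y⁻¹ ∈ H i)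
    (y' : G) (hy' : y' * g * y'⁻¹ ∈ H j) : g = 1 := by
  obtain ⟨y, hy⟩ := hg
  have key : ∀ (k : ι) (z : G), z * g * z⁻¹ ∈ H k → orderOf g ∣ Nat.card (H k) := by
    intro k z hz
    have h2 : orderOf (z * g * z⁻¹) = orderOf g := by
      have := (MulAut.conj z).orderOf_eq g
      rwa [MulAut.conj_apply] at this
    rw [← h2, ← Subgroup.orderOf_mk _ hz]
    exact orderOf_dvd_natCard _
  have h4 : orderOf g ∣ 1 := by
    have := Nat.dvd_gcd (key i y hy) (key j y' hy')
    rwa [hcop i j hij] at this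
  exact orderOf_eq_one_iff.mp (Nat.dvd_one.mp h4)

include hcop in
open Classical in
/-- the class equation, weighted by a class function -/
theorem cn_sum (hTI : ∀ i, IsTISubset (H i : Set G))
    (hcover : ∀ g : G, g ≠ 1 → ∃ i, ∃ x : G, x * g * x⁻¹ ∈ H i) (F : G → ℂ)
    (hF : IsClassFunction G F) :
    ∑ g : G, F g = F 1 + ∑ i, ((Subgroup.normalizer (H i : Set G)).index : ℂ) *
      ∑ x : G, (if x ∈ H i ∧ x ≠ 1 then F x else 0) := by
  have hpt : ∀ g : G, F g = (if g = 1 then F 1 else 0) +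
      ∑ i, (if (∃ y : G, y * g * y⁻¹ ∈ H i) ∧ g ≠ 1 then F g else 0) := by
    intro g
    by_cases hg : g = 1
    · rw [if_pos hg, hg]
      simp
    · rw [if_neg hg, zero_add]
      obtain ⟨i₀, hi₀⟩ := hcover g hg
      rw [Finset.sum_eq_single i₀]
      · rw [if_pos ⟨hi₀, hg⟩]
      · intro j _ hj
        rw [if_neg]
        rintro ⟨⟨y, hy⟩, -⟩
        exact hg (cn_disj H hcop (Ne.symm hj) g hi₀ y hy)
      · intro h
        exact absurd (Finset.mem_univ _) h
  calc ∑ g : G, F g = ∑ g : G, ((if g = 1 then F 1 else 0) +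
        ∑ i, (if (∃ y : G, y * g * y⁻¹ ∈ H i) ∧ g ≠ 1 then F g else 0)) :=
        Finset.sum_congr rfl (fun g _ => hpt g)
    _ = F 1 + ∑ i, ∑ g : G, (if (∃ y : G, y * g * y⁻¹ ∈ H i) ∧ g ≠ 1 then F g else 0) := by
        rw [Finset.sum_add_distrib, Finset.sum_ite_eq' Finset.univ (1 : G) (fun _ => F 1),
          if_pos (Finset.mem_univ _), Finset.sum_comm]
    _ = _ := by
        congr 1
        exact Finset.sum_congr rfl fun i _ => ti_count (H i) (hTI i) F hF

variable {e r : ι → ℕ} {X : ι → Finset (G → ℂ)} {t : ι → (G → ℂ) → ℕ} {ε : ι → ℂ}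
  {η β : ι → G → ℂ} {d : ι → ℤ}
  (D : ∀ i, CnData (H i) (e i) (r i) (X i) (t i) (ε i) (η i) (β i) (d i))

include hcop D in
omit [Fintype ι] in
/-- the images of the coherent sets attached to different indices are orthogonal -/
theorem cn_cross {i j : ι} (hij : i ≠ j) {u v : G → ℂ} (hu : u ∈ X i) (hv : v ∈ X j) :
    classInner u v = 0 := by
  classical
  have hex : ∀ (k : ι) (w : G → ℂ), w ∈ X k → ∃ w₂ ∈ X k, w₂ ≠ w := by
    intro k w _
    obtain ⟨w', hw', hne⟩ := (D k).htwo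
    by_cases h : w = η k
    · exact ⟨w', hw', h ▸ hne⟩
    · exact ⟨η k, (D k).hη, fun h' => h h'.symm⟩
  obtain ⟨u₂, hu₂, hune⟩ := hex i u hu
  obtain ⟨v₂, hv₂, hvne⟩ := hex j v hv
  have hvan : ∀ (k : ι) (w w₂ : G → ℂ), w ∈ X k → w₂ ∈ X k → ∀ g : G,
      (∀ y : G, y * g * y⁻¹ ∈ H k → g = 1) →
      (((t k w₂ : ℂ) • w - (t k w : ℂ) • w₂) : G → ℂ) g = 0 := by
    intro k w w₂ hw hw₂ g hg
    simp only [Pi.sub_apply, Pi.smul_apply, smul_eq_mul]
    rw [(D k).hprop w hw g hg, (D k).hprop w₂ hw₂ g hg]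
    ring
  have hzero : classInner ((t i u₂ : ℂ) • u - (t i u : ℂ) • u₂)
      ((t j v₂ : ℂ) • v - (t j v : ℂ) • v₂) = 0 := by
    unfold classInner
    rw [Finset.sum_eq_zero, mul_zero]
    intro g _
    by_cases hg : ∃ y : G, y * g * y⁻¹ ∈ H i
    · rw [hvan j v v₂ hv hv₂ g (fun y' hy' => cn_disj H hcop hij g hg y' hy'), map_zero, mul_zero]
    · rw [hvan i u u₂ hu hu₂ g (fun y hy => absurd ⟨y, hy⟩ hg), zero_mul]
  have hxy : ∀ x ∈ X i, ∀ y ∈ X j, classInner x y =
      ε i * ε j * (if ε i • x = ε j • y then 1 else 0) := by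
    intro x hx y hy
    have h1 := classInner_irr' ((D i).hirr x hx) ((D j).hirr y hy)
    rw [classInner_smul_left, classInner_smul_right, (D j).ε_conj] at h1
    rw [← h1]
    have h2 := (D i).ε_sq
    have h3 := (D j).ε_sq
    linear_combination (-(ε j * ε j * classInner x y)) * h2 - classInner x y * h3
  simp only [classInner_sub_left, classInner_sub_right, classInner_smul_left,
    classInner_smul_right, map_natCast] at hzero
  rw [hxy u hu v hv, hxy u hu v₂ hv₂, hxy u₂ hu₂ v hv, hxy u₂ hu₂ v₂ hv₂] at hzero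
  rw [hxy u hu v hv]
  by_cases hc : ε i • u = ε j • v
  · exfalso
    have hc1 : ε i • u ≠ ε j • v₂ := by
      intro h
      exact hvne ((D j).smul_inj (h.symm.trans hc))
    have hc2 : ε i • u₂ ≠ ε j • v := by
      intro h
      exact hune ((D i).smul_inj (h.trans hc.symm))
    rw [if_pos hc, if_neg hc1, if_neg hc2] at hzero
    have hp1 := (D i).htpos u hu
    have hp2 := (D i).htpos u₂ hu₂
    have hp3 := (D j).htpos v hv
    have hp4 := (D j).htpos v₂ hv₂
    have h2 := (D i).ε_sq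
    have h3 := (D j).ε_sq
    by_cases hc3 : ε i • u₂ = ε j • v₂
    · rw [if_pos hc3] at hzero
      have h4 : ((t i u₂ * t j v₂ + t i u * t j v : ℕ) : ℂ) = 0 := by
        push_cast
        have h5 := congrArg (fun z => ε i * ε j * z) hzero
        simp only [mul_zero] at h5
        linear_combination h5 - ((t i u₂ : ℂ) * (t j v₂ : ℂ) + (t i u : ℂ) * (t j v : ℂ)) *
          (ε j * ε j * h2 + h3)
      have h6 : t i u₂ * t j v₂ + t i u * t j v = 0 := by exact_mod_cast h4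
      have h7 : 0 < t i u₂ * t j v₂ := Nat.mul_pos hp2 hp4
      omega
    · rw [if_neg hc3] at hzero
      have h4 : ((t i u₂ * t j v₂ : ℕ) : ℂ) = 0 := by
        push_cast
        have h5 := congrArg (fun z => ε i * ε j * z) hzero
        simp only [mul_zero] at h5
        linear_combination h5 - ((t i u₂ : ℂ) * (t j v₂ : ℂ)) * (ε j * ε j * h2 + h3)
      have h6 : t i u₂ * t j v₂ = 0 := by exact_mod_cast h4
      have h7 : 0 < t i u₂ * t j v₂ := Nat.mul_pos hp2 hp4
      omega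
  · rw [if_neg hc, mul_zero]

include hcop D in
omit [Fintype ι] in
/-- the values of `η i` on `H j \ {1}` for `j ≠ i` -/
theorem cn_vals : ∃ a : ι → ι → ℤ, ∀ i j, i ≠ j → ∀ x ∈ H j, x ≠ 1 → η i x = a i j := by
  classical
  have h : ∀ i j, ∃ a : ℤ, i ≠ j → ∀ x ∈ H j, x ≠ 1 → η i x = a := by
    intro i j
    by_cases hij : i = j
    · exact ⟨0, fun h => absurd hij h⟩
    · obtain ⟨v, hv⟩ := (D j).hconst (η i) ((D i).gen (D i).hη)
        (fun u hu => cn_cross H hcop D hij (D i).hη hu)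
      exact ⟨v, fun _ => hv⟩
  choose a ha using h
  exact ⟨a, ha⟩

omit [Fintype ι] in
open Classical in
theorem sum_K_const (K : Subgroup G) (c : ℂ) :
    ∑ x : G, (if x ∈ K ∧ x ≠ 1 then c else 0) = c * ((Nat.card K : ℂ) - 1) := by
  have hpt : ∀ x : G, (if x ∈ K ∧ x ≠ 1 then c else 0) =
      c * (if x ∈ K then (1 : ℂ) else 0) - (if x = 1 then c else 0) := by
    intro x
    by_cases hx : x ∈ K
    · by_cases hx1 : x = 1
      · rw [if_neg (fun hh => hh.2 hx1), if_pos hx, if_pos hx1]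
        ring
      · rw [if_pos ⟨hx, hx1⟩, if_pos hx, if_neg hx1]
        ring
    · rw [if_neg (fun hh => hx hh.1), if_neg hx, if_neg (fun h1 : x = 1 => hx (h1 ▸ one_mem K))]
      ring
  simp only [hpt]
  rw [Finset.sum_sub_distrib, ← Finset.mul_sum, sum_ite_mem_one,
    Finset.sum_ite_eq' Finset.univ (1 : G) (fun _ => c), if_pos (Finset.mem_univ _)]
  ring

variable {a : ι → ι → ℤ} (ha : ∀ i j, i ≠ j → ∀ x ∈ H j, x ≠ 1 → η i x = a i j)

include hcop D ha in
omit [Fintype ι] in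
theorem cn_val_X {i j : ι} (hij : i ≠ j) {u : G → ℂ} (hu : u ∈ X i) {x : G} (hx : x ∈ H j)
    (hx1 : x ≠ 1) : u x = (t i u : ℂ) * a i j := by
  rw [(D i).hprop u hu x (fun y hy => cn_disj H hcop (Ne.symm hij) x ⟨1, by simpa using hx⟩ y hy),
    ha i j hij x hx hx1]

include hcop D in
omit [Fintype ι] in
theorem cn_β_van {i j : ι} (hij : i ≠ j) {x : G} (hx : x ∈ H j) : β i x = 0 :=
  (D i).hβvan x (fun y hy => cn_disj H hcop (Ne.symm hij) x ⟨1, by simpa using hx⟩ y hy)

include hcop D ha in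
open Classical in
/-- equation (B): the norm of `η i₀` -/
theorem cn_B (hTI : ∀ i, IsTISubset (H i : Set G))
    (hcover : ∀ g : G, g ≠ 1 → ∃ i, ∃ x : G, x * g * x⁻¹ ∈ H i) (i₀ : ι) (w : ℤ)
    (hw : η i₀ 1 = w) :
    w ^ 2 + ∑ k ∈ Finset.univ.erase i₀,
        ((Subgroup.normalizer (H k : Set G)).index : ℤ) * e k * r k * a i₀ k ^ 2 =
      ((Subgroup.normalizer (H i₀ : Set G)).index : ℤ) * e i₀ *
        (e i₀ - d i₀ * (d i₀ * r i₀ - 2)) := by
  have hGc : (Nat.card G : ℂ) ≠ 0 := Nat.cast_ne_zero.mpr Nat.card_pos.ne'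
  have hnorm1 := (D i₀).inner_X (D i₀).hη (D i₀).hη
  rw [if_pos rfl, classInner] at hnorm1
  have hsumG : ∑ g : G, η i₀ g * conj (η i₀ g) = Nat.card G := by
    field_simp at hnorm1
    exact hnorm1
  have hcf : IsClassFunction G (fun g => η i₀ g * conj (η i₀ g)) := by
    intro g h
    simp only
    rw [(D i₀).cf (D i₀).hη g h]
  have hs := cn_sum H hcop hTI hcover (fun g => η i₀ g * conj (η i₀ g)) hcf
  beta_reduce at hs
  rw [hsumG, ← Finset.add_sum_erase Finset.univ _ (Finset.mem_univ i₀), (D i₀).hnorm, hw,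
    map_intCast] at hs
  have hrest : ∑ k ∈ Finset.univ.erase i₀, ((Subgroup.normalizer (H k : Set G)).index : ℂ) *
      ∑ x : G, (if x ∈ H k ∧ x ≠ 1 then η i₀ x * conj (η i₀ x) else 0) =
      ∑ k ∈ Finset.univ.erase i₀, ((Subgroup.normalizer (H k : Set G)).index : ℂ) *
        (((a i₀ k : ℂ)) ^ 2 * ((e k : ℂ) * r k)) := by
    refine Finset.sum_congr rfl fun k hk => ?_
    have hk' : i₀ ≠ k := fun h => (Finset.mem_erase.mp hk).1 h.symm
    have h1 : ∀ x : G, (if x ∈ H k ∧ x ≠ 1 then η i₀ x * conj (η i₀ x) else 0) =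
        (if x ∈ H k ∧ x ≠ 1 then ((a i₀ k : ℂ)) ^ 2 else 0) := by
      intro x
      by_cases hc : x ∈ H k ∧ x ≠ 1
      · rw [if_pos hc, if_pos hc, ha i₀ k hk' x hc.1 hc.2, map_intCast]
        ring
      · rw [if_neg hc, if_neg hc]
    simp only [h1]
    rw [sum_K_const, (D k).hcard]
    push_cast
    ring
  rw [hrest] at hs
  have hG := (D i₀).hG
  have hcard := (D i₀).hcard
  have hGc' : (Nat.card G : ℂ) = ((Subgroup.normalizer (H i₀ : Set G)).index : ℂ) * e i₀ *
      ((e i₀ : ℂ) * r i₀ + 1) := by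
    rw [← hG, hcard]
    push_cast
    ring
  rw [hGc', hcard] at hs
  have hfin : ((w ^ 2 + ∑ k ∈ Finset.univ.erase i₀,
        ((Subgroup.normalizer (H k : Set G)).index : ℤ) * e k * r k * a i₀ k ^ 2 : ℤ) : ℂ) =
      ((((Subgroup.normalizer (H i₀ : Set G)).index : ℤ) * e i₀ *
        (e i₀ - d i₀ * (d i₀ * r i₀ - 2)) : ℤ) : ℂ) := by
    push_cast
    have h2 : ∑ k ∈ Finset.univ.erase i₀, ((Subgroup.normalizer (H k : Set G)).index : ℂ) *
        (((a i₀ k : ℂ)) ^ 2 * ((e k : ℂ) * r k)) =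
        ∑ k ∈ Finset.univ.erase i₀, ((Subgroup.normalizer (H k : Set G)).index : ℂ) * e k * r k *
          (a i₀ k : ℂ) ^ 2 := Finset.sum_congr rfl fun k _ => by ring
    rw [h2] at hs
    push_cast at hs
    linear_combination -hs
  exact_mod_cast hfin

include hcop D ha in
open Classical in
/-- equation (C): the Bessel inequality for `β i₀` -/
theorem cn_C (i₀ : ι) :
    ∑ k ∈ Finset.univ.erase i₀, (r k : ℤ) * a k i₀ ^ 2 + d i₀ * (d i₀ * r i₀ - 2) ≤
      (e i₀ : ℤ) - 1 := by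
  obtain ⟨f, hfdef⟩ : ∃ f : Option (Σ k : ι, {u // u ∈ X k}) → G → ℂ,
      f = fun j => j.elim (fun _ => (1 : ℂ)) (fun p => (p.2 : G → ℂ)) := ⟨_, rfl⟩
  obtain ⟨cc, hccdef⟩ : ∃ cc : ι → (G → ℂ) → ℤ, cc = fun k u =>
      if k = i₀ then d i₀ * t i₀ u - (if u = η i₀ then 1 else 0) else t k u * a k i₀ := ⟨_, rfl⟩
  obtain ⟨c, hcdef⟩ : ∃ c : Option (Σ k : ι, {u // u ∈ X k}) → ℤ,
      c = fun j => j.elim 1 (fun p => cc p.1 p.2) := ⟨_, rfl⟩
  have horth : ∀ j j', classInner (f j) (f j') = if j = j' then 1 else 0 := by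
    intro j j'
    rw [hfdef]
    rcases j with _ | ⟨k, u, hu⟩ <;> rcases j' with _ | ⟨k', u', hu'⟩
    · rw [if_pos rfl]
      simp only [Option.elim]
      rw [classInner_irr' Helper4.isIrrCharacter_one Helper4.isIrrCharacter_one, if_pos rfl]
    · simp only [Option.elim]
      rw [if_neg (by simp), Helper36.classInner_conj_symm u' (fun _ => (1 : ℂ)),
        (D k').hone u' hu', map_zero]
    · simp only [Option.elim]
      rw [if_neg (by simp), (D k).hone u hu]
    · simp only [Option.elim]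
      by_cases hk : k = k'
      · subst hk
        rw [(D k).inner_X hu hu']
        by_cases huu : u = u'
        · subst huu
          rw [if_pos rfl, if_pos rfl]
        · rw [if_neg huu, if_neg]
          intro h
          apply huu
          simpa using h
      · rw [cn_cross H hcop D hk hu hu', if_neg]
        intro h
        exact hk (congrArg Sigma.fst (Option.some.inj h))
  have hc : ∀ j, classInner (β i₀) (f j) = c j := by
    intro j
    rw [hfdef, hcdef]
    rcases j with _ | ⟨k, u, hu⟩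
    · simp only [Option.elim]
      rw [(D i₀).hβone]
      simp
    · simp only [Option.elim]
      rw [hccdef]
      beta_reduce
      by_cases hk : k = i₀
      · have hu' : u ∈ X i₀ := hk ▸ hu
        rw [if_pos hk, (D i₀).hβX u hu']
        by_cases hη : u = η i₀
        · rw [if_pos hη, if_pos hη]
          push_cast
          ring
        · rw [if_neg hη, if_neg hη]
          push_cast
          ring
      · rw [if_neg hk, (D i₀).hβconst u ((t k u : ℂ) * a k i₀) ((D k).cf hu)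
          (fun x hx hx1 => cn_val_X H hcop D ha hk hu hx hx1)]
        simp
  have hm : classInner (β i₀) (β i₀) = (((e i₀ : ℤ) + 1 : ℤ) : ℂ) := by
    rw [(D i₀).hβnorm]
    push_cast
    ring
  obtain ⟨hb, -⟩ := bessel_fin f horth (β i₀) c hc ((e i₀ : ℤ) + 1) hm
  have hsum : ∑ j, c j ^ 2 = 1 + ∑ k, ∑ u ∈ X k, cc k u ^ 2 := by
    rw [Fintype.sum_option, Fintype.sum_sigma, hcdef]
    simp only [Option.elim, one_pow]
    rw [add_right_inj]
    refine Finset.sum_congr rfl fun k _ => ?_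
    exact Finset.sum_attach (X k) (fun u => cc k u ^ 2)
  have h0 : ∑ u ∈ X i₀, cc i₀ u ^ 2 = d i₀ ^ 2 * r i₀ - 2 * d i₀ + 1 := by
    have hpt : ∀ u ∈ X i₀, cc i₀ u ^ 2 = d i₀ ^ 2 * (t i₀ u : ℤ) ^ 2 -
        (if u = η i₀ then 2 * d i₀ * t i₀ u - 1 else 0) := by
      intro u _
      rw [hccdef]
      beta_reduce
      rw [if_pos rfl]
      by_cases hη : u = η i₀
      · rw [if_pos hη, if_pos hη]
        ring
      · rw [if_neg hη, if_neg hη]
        ring
    rw [Finset.sum_congr rfl hpt, Finset.sum_sub_distrib, ← Finset.mul_sum,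
      Finset.sum_ite_eq' (X i₀) (η i₀) (fun u => 2 * d i₀ * (t i₀ u : ℤ) - 1),
      if_pos (D i₀).hη, (D i₀).htη]
    have h1 : ∑ u ∈ X i₀, (t i₀ u : ℤ) ^ 2 = (r i₀ : ℤ) := by exact_mod_cast (D i₀).hsum
    rw [h1]
    push_cast
    ring
  have hk : ∀ k ∈ Finset.univ.erase i₀, ∑ u ∈ X k, cc k u ^ 2 = (r k : ℤ) * a k i₀ ^ 2 := by
    intro k hk
    have hk' : k ≠ i₀ := (Finset.mem_erase.mp hk).1
    have hpt : ∀ u ∈ X k, cc k u ^ 2 = a k i₀ ^ 2 * (t k u : ℤ) ^ 2 := by
      intro u _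
      rw [hccdef]
      beta_reduce
      rw [if_neg hk']
      ring
    rw [Finset.sum_congr rfl hpt, ← Finset.mul_sum]
    have h1 : ∑ u ∈ X k, (t k u : ℤ) ^ 2 = (r k : ℤ) := by exact_mod_cast (D k).hsum
    rw [h1]
    ring
  rw [hsum, ← Finset.add_sum_erase Finset.univ _ (Finset.mem_univ i₀), h0,
    Finset.sum_congr rfl hk] at hb
  linarith

include hcop D ha in
omit [Fintype ι] in
theorem cn_theta_int (hcover : ∀ g : G, g ≠ 1 → ∃ i, ∃ x : G, x * g * x⁻¹ ∈ H i) (i : ι)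
    (g : G) : ∃ z : ℤ, β i g - 1 + η i g = z := by
  by_cases hg : g = 1
  · obtain ⟨w, hw, -⟩ := (D i).deg
    rw [hg, (D i).hβ1, hw]
    exact ⟨w - 1, by push_cast; ring⟩
  · obtain ⟨j, y, hy⟩ := hcover g hg
    have hx1 : y * g * y⁻¹ ≠ 1 := fun h => hg (conj_eq_one_iff.mp h)
    have hβcf := isClassFunction_of_gen (D i).hβgen
    have hηcf := (D i).cf (D i).hη
    rw [← hβcf g y, ← hηcf g y]
    by_cases hij : i = j
    · subst hij
      have h1 := (D i).hβη _ hy hx1
      exact ⟨e i + d i - 1, by push_cast; linear_combination h1⟩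
    · rw [cn_β_van H hcop D hij hy, ha i j hij _ hy hx1]
      exact ⟨a i j - 1, by push_cast; ring⟩

include hcop D ha in
omit [Fintype ι] in
/-- relation (D): a parity coming from the real-valued generalized characters `β - 1 + η` -/
theorem cn_D (hodd : Odd (Nat.card G))
    (hcover : ∀ g : G, g ≠ 1 → ∃ i, ∃ x : G, x * g * x⁻¹ ∈ H i) {i₀ k : ι} (hk : k ≠ i₀) :
    Odd (a i₀ k + a k i₀) := by
  obtain ⟨Θ, hΘdef⟩ : ∃ Θ : ι → G → ℂ, Θ = fun i => β i - (fun _ => (1 : ℂ)) + η i := ⟨_, rfl⟩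
  have hgen : ∀ i, IsGeneralizedCharacter G (Θ i) := by
    intro i
    rw [hΘdef]
    exact isGenChar_add (isGenChar_sub (D i).hβgen (isGenChar_of_char isCharacter_one))
      ((D i).gen (D i).hη)
  have hreal : ∀ i g, conj (Θ i g) = Θ i g := by
    intro i g
    obtain ⟨z, hz⟩ := cn_theta_int H hcop D ha hcover i g
    rw [hΘdef]
    simp only [Pi.add_apply, Pi.sub_apply]
    rw [hz, map_intCast]
  have p5 : classInner (fun _ : G => (1 : ℂ)) (fun _ : G => (1 : ℂ)) = 1 := by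
    rw [classInner_irr' Helper4.isIrrCharacter_one Helper4.isIrrCharacter_one, if_pos rfl]
  have hone : classInner (Θ i₀) (fun _ => 1) = 0 := by
    rw [hΘdef]
    simp only
    rw [classInner_add_left, classInner_sub_left, (D i₀).hβone, p5, (D i₀).hone _ (D i₀).hη]
    ring
  obtain ⟨z, hz⟩ := real_gen_parity hodd (hgen i₀) (hgen k) (hreal i₀) (hreal k) hone
  have p1 : classInner (β i₀) (β k) = 0 := by
    have := (D i₀).hβconst (β k) 0 (isClassFunction_of_gen (D k).hβgen)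
      (fun x hx _ => cn_β_van H hcop D hk hx)
    rwa [map_zero] at this
  have p2 := (D i₀).hβone
  have p3 : classInner (β i₀) (η k) = a k i₀ := by
    have := (D i₀).hβconst (η k) (a k i₀) ((D k).cf (D k).hη)
      (fun x hx hx1 => ha k i₀ hk x hx hx1)
    rwa [map_intCast] at this
  have p4 : classInner (fun _ : G => (1 : ℂ)) (β k) = 1 := by
    rw [Helper36.classInner_conj_symm (β k) (fun _ => (1 : ℂ)), (D k).hβone, map_one]
  have p6 : classInner (fun _ : G => (1 : ℂ)) (η k) = 0 := by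
    rw [Helper36.classInner_conj_symm (η k) (fun _ => (1 : ℂ)), (D k).hone _ (D k).hη, map_zero]
  have p7 : classInner (η i₀) (β k) = a i₀ k := by
    rw [Helper36.classInner_conj_symm (β k) (η i₀),
      (D k).hβconst (η i₀) (a i₀ k) ((D i₀).cf (D i₀).hη)
        (fun x hx hx1 => ha i₀ k (Ne.symm hk) x hx hx1), map_intCast, map_intCast]
  have p8 := (D i₀).hone _ (D i₀).hη
  have p9 : classInner (η i₀) (η k) = 0 := cn_cross H hcop D (Ne.symm hk) (D i₀).hη (D k).hη
  have hexp : classInner (Θ i₀) (Θ k) = (a k i₀ : ℂ) + a i₀ k - 1 := by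
    rw [hΘdef]
    simp only [classInner_add_left, classInner_sub_left, classInner_add_right,
      classInner_sub_right]
    rw [p1, p2, p3, p4, p5, p6, p7, p8, p9]
    ring
  rw [hexp] at hz
  have hz' : a k i₀ + a i₀ k - 1 = 2 * z := by exact_mod_cast hz
  exact ⟨z, by omega⟩

omit [Fintype ι] in
/-- a generalized character vanishing on `K \ {1}` has degree divisible by `|K|` -/
theorem gen_vanish_dvd (K : Subgroup G) {f : G → ℂ} (hf : IsGeneralizedCharacter G f)
    (hvan : ∀ x ∈ K, x ≠ 1 → f x = 0) : ∃ z : ℤ, f 1 = (Nat.card K : ℂ) * z := by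
  classical
  let _ : Fintype K := Fintype.ofFinite _
  obtain ⟨z, hz⟩ := classInner_gen_int (isGenChar_res K hf)
    (isGenChar_of_char (isCharacter_one (G := K)))
  refine ⟨z, ?_⟩
  rw [classInner] at hz
  have hsum : ∑ x : K, res K f x * conj ((1 : K → ℂ) x) = f 1 := by
    rw [Finset.sum_eq_single (1 : K)]
    · simp [res]
    · intro x _ hx1
      rw [res_apply, hvan x x.2 (fun h => hx1 (Subtype.ext h)), zero_mul]
    · intro h
      exact absurd (Finset.mem_univ _) h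
  rw [hsum] at hz
  have hK : (Nat.card K : ℂ) ≠ 0 := Nat.cast_ne_zero.mpr Nat.card_pos.ne'
  field_simp at hz
  linear_combination hz

include D ha in
omit [Fintype ι] in
/-- relation (E): if `η i₀` has degree `± 1` then it does not vanish on any `H k \ {1}` -/
theorem cn_E (i₀ : ι) (w : ℤ) (hw : η i₀ 1 = w) (hw1 : w ^ 2 = 1) (k : ι) (hk : k ≠ i₀) :
    a i₀ k ≠ 0 := by
  intro h0
  have hvan : ∀ x ∈ H k, x ≠ 1 → η i₀ x = 0 := by
    intro x hx hx1
    rw [ha i₀ k (Ne.symm hk) x hx hx1, h0]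
    simp
  obtain ⟨z, hz⟩ := gen_vanish_dvd (H k) ((D i₀).gen (D i₀).hη) hvan
  rw [hw] at hz
  have hz' : w = (Nat.card (H k) : ℤ) * z := by exact_mod_cast hz
  have hcard := (D k).hcard
  have he := (D k).he
  have hr := (D k).hr
  have h5 : (Nat.card (H k) : ℤ) ∣ 1 := by
    refine ⟨z * w, ?_⟩
    rw [← mul_assoc, ← hz', ← sq, hw1]
  have h6 := Int.le_of_dvd one_pos h5
  have h7 : 5 ≤ Nat.card (H k) := by
    rw [hcard]
    nlinarith
  omega

include hcop D in
/-- the final contradiction -/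
theorem cn_final [Nonempty ι] (hodd : Odd (Nat.card G)) (hTI : ∀ i, IsTISubset (H i : Set G))
    (hcover : ∀ g : G, g ≠ 1 → ∃ i, ∃ x : G, x * g * x⁻¹ ∈ H i) : False := by
  classical
  obtain ⟨a, ha⟩ := cn_vals H hcop D
  obtain ⟨i₀, -, hmin⟩ := Finset.exists_min_image Finset.univ e Finset.univ_nonempty
  obtain ⟨w, hw, hw0⟩ := (D i₀).deg
  have hA := S1527.result H hcop hTI hcover
  apply cn_arith i₀ (fun k => (e k : ℤ)) (fun k => (r k : ℤ)) (fun k => (Nat.card (H k) : ℤ))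
    (fun k => ((Subgroup.normalizer (H k : Set G)).index : ℤ)) (Nat.card G : ℤ)
    (fun k => a i₀ k) (fun k => a k i₀) (d i₀) w
  · exact_mod_cast (D i₀).he
  · intro k
    exact_mod_cast hmin k (Finset.mem_univ k)
  · intro k
    exact_mod_cast (D k).hr
  · intro k
    have : 0 < (Subgroup.normalizer (H k : Set G)).index :=
      Nat.pos_of_ne_zero Subgroup.index_ne_zero_of_finite
    exact_mod_cast this
  · intro k
    exact_mod_cast (D k).hcard
  · intro k
    exact_mod_cast (D k).hG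
  · have h1 : ∀ k, (Subgroup.normalizer (H k : Set G)).index * (Nat.card (H k) - 1) =
        (Subgroup.normalizer (H k : Set G)).index * e k * r k := by
      intro k
      rw [(D k).hcard, Nat.add_sub_cancel, mul_assoc]
    rw [Finset.sum_congr rfl (fun k _ => h1 k)] at hA
    have hpos : 0 < Nat.card G := Nat.card_pos
    have h2 : (Nat.card G : ℤ) - 1 = ((Nat.card G - 1 : ℕ) : ℤ) := by
      rw [Nat.cast_sub hpos]
      simp
    rw [h2, hA]
    push_cast
    rfl
  · exact cn_B H hcop D ha hTI hcover i₀ w hw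
  · exact cn_C H hcop D ha i₀
  · intro k hk
    exact cn_D H hcop D ha hodd hcover hk
  · exact hw0
  · intro hw1 k hk
    exact cn_E H D ha i₀ w hw hw1 k hk

end CnMulti

end Cfsg.Agent.Lib.Helper35
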