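import Cfsg.Agent.Lib.Helper15.BG13CDefs
import Cfsg.Agent.Lib.Helper32.BG12XFrob
import Cfsg.Agent.S0022
import Cfsg.Agent.Lib.Helper12.Ward2

/-!
# B&G Corollary 13.3(b) (row S1428), piece C-FQ (helper35): Frobenius fixed points in an abelian
section `T / Z₁`
-/

set_option autoImplicit false

open Cfsg Cfsg.Agent.Lib.Helper32 Cfsg.Agent.Lib.Helper32.BG10 Cfsg.Agent.Lib.Helper3.BG12

namespace Cfsg.Agent.Lib.Helper15.BG13C

open Cfsg.Agent.Lib.Helper12.Ward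

universe u

variable {G : Type u} [Group G]

/-- the quotient map `N(Z₁) → N(Z₁)/Z₁` -/
noncomputable def fq_pi (Z₁ : Subgroup G) : ↥(Subgroup.normalizer (Z₁ : Set G)) →*
    ↥(Subgroup.normalizer (Z₁ : Set G)) ⧸ Z₁.subgroupOf (Subgroup.normalizer (Z₁ : Set G)) :=
  QuotientGroup.mk' _

/-- the image of a subgroup in `N(Z₁)/Z₁` -/
noncomputable def fq_img (Z₁ X : Subgroup G) : Subgroup
    (↥(Subgroup.normalizer (Z₁ : Set G)) ⧸ Z₁.subgroupOf (Subgroup.normalizer (Z₁ : Set G))) :=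
  (X.subgroupOf (Subgroup.normalizer (Z₁ : Set G))).map (fq_pi Z₁)

theorem fq_pi_eq_one (Z₁ : Subgroup G) (x : ↥(Subgroup.normalizer (Z₁ : Set G))) :
    fq_pi Z₁ x = 1 ↔ (x : G) ∈ Z₁ := by
  unfold fq_pi
  rw [QuotientGroup.mk'_apply, QuotientGroup.eq_one_iff, Subgroup.mem_subgroupOf]

theorem fq_pi_eq_iff (Z₁ : Subgroup G) (x y : ↥(Subgroup.normalizer (Z₁ : Set G))) :
    fq_pi Z₁ x = fq_pi Z₁ y ↔ (x : G) * (y : G)⁻¹ ∈ Z₁ := by
  unfold fq_pi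
  rw [QuotientGroup.mk'_apply, QuotientGroup.mk'_apply, QuotientGroup.eq_iff_div_mem,
    Subgroup.mem_subgroupOf, div_eq_mul_inv]
  rfl

theorem fq_mem_img (Z₁ X : Subgroup G)
    (y : ↥(Subgroup.normalizer (Z₁ : Set G)) ⧸ Z₁.subgroupOf (Subgroup.normalizer (Z₁ : Set G))) :
    y ∈ fq_img Z₁ X ↔ ∃ x : ↥(Subgroup.normalizer (Z₁ : Set G)), (x : G) ∈ X ∧ fq_pi Z₁ x = y := by
  unfold fq_img
  rw [Subgroup.mem_map]
  constructor
  · rintro ⟨x, hx, rfl⟩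
    exact ⟨x, Subgroup.mem_subgroupOf.mp hx, rfl⟩
  · rintro ⟨x, hx, rfl⟩
    exact ⟨x, Subgroup.mem_subgroupOf.mpr hx, rfl⟩

theorem fq_nz_img (Z₁ X : Subgroup G) (g : ↥(Subgroup.normalizer (Z₁ : Set G)))
    (hg : (g : G) ∈ Subgroup.normalizer (X : Set G)) :
    fq_pi Z₁ g ∈ Subgroup.normalizer ((fq_img Z₁ X : Subgroup _) : Set _) := by
  apply nz_of_conj_mem
  · intro y hy
    obtain ⟨x, hx, rfl⟩ := (fq_mem_img Z₁ X y).mp hy
    rw [fq_mem_img]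
    refine ⟨g * x * g⁻¹, ?_, by rw [map_mul, map_mul, map_inv]⟩
    exact conj_mem_of_nz hg hx
  · intro y hy
    obtain ⟨x, hx, rfl⟩ := (fq_mem_img Z₁ X y).mp hy
    rw [fq_mem_img]
    refine ⟨g⁻¹ * x * g, ?_, by rw [map_mul, map_mul, map_inv]⟩
    exact conj_mem_of_nz' hg hx

theorem fq_card_img_dvd [Finite G] (Z₁ X : Subgroup G)
    (hX : X ≤ Subgroup.normalizer (Z₁ : Set G)) : Nat.card (fq_img Z₁ X) ∣ Nat.card X := by
  unfold fq_img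
  have h1 := Subgroup.card_map_dvd (H := X.subgroupOf (Subgroup.normalizer (Z₁ : Set G)))
    (fq_pi Z₁)
  have h2 : Nat.card (X.subgroupOf (Subgroup.normalizer (Z₁ : Set G))) = Nat.card X :=
    Nat.card_congr (Subgroup.subgroupOfEquivOfLe hX).toEquiv
  rwa [h2] at h1

variable [Finite G]

/-- FQ: Frobenius fixed points in an abelian section `T / Z₁` -/
theorem fq : FQStmt G := by
  intro q _ A T Z₁ z hA hZT hTN hTT hTZ hAT hAZ hzT hzZ hzA hzq hfree hcop hqcop hCA hcontra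
  have hq : q.Prime := Fact.out
  -- `A ∩ Z₁ = 1`
  have hAZ1 : ∀ a ∈ A, a ∈ Z₁ → a = 1 := by
    intro a ha haZ
    have h1 : orderOf a ∣ Nat.card A := Subgroup.orderOf_dvd_natCard A ha
    have h2 : orderOf a ∣ Nat.card T := Subgroup.orderOf_dvd_natCard T (hZT haZ)
    exact orderOf_eq_one_iff.mp (Nat.eq_one_of_dvd_coprimes hcop h1 h2)
  have hAsolv : Group.IsSolvable ↥A := Group.isSolvable_of_comm (fun a b => hA.is_comm.comm a b)
  -- the images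
  have hAb : IsMulCommutative ↥(fq_img Z₁ A) := by
    refine ⟨⟨?_⟩⟩
    rintro ⟨x, hx⟩ ⟨y, hy⟩
    apply Subtype.ext
    obtain ⟨a, ha, rfl⟩ := (fq_mem_img Z₁ A x).mp hx
    obtain ⟨b, hb, rfl⟩ := (fq_mem_img Z₁ A y).mp hy
    show fq_pi Z₁ a * fq_pi Z₁ b = fq_pi Z₁ b * fq_pi Z₁ a
    rw [← map_mul, ← map_mul]
    congr 1
    apply Subtype.ext
    have h := hA.is_comm.comm ⟨(a : G), ha⟩ ⟨(b : G), hb⟩
    have h' : (a : G) * (b : G) = (b : G) * (a : G) := congrArg Subtype.val h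
    exact h'
  have hVb : IsMulCommutative ↥(fq_img Z₁ T) := by
    refine ⟨⟨?_⟩⟩
    rintro ⟨x, hx⟩ ⟨y, hy⟩
    apply Subtype.ext
    obtain ⟨a, ha, rfl⟩ := (fq_mem_img Z₁ T x).mp hx
    obtain ⟨b, hb, rfl⟩ := (fq_mem_img Z₁ T y).mp hy
    show fq_pi Z₁ a * fq_pi Z₁ b = fq_pi Z₁ b * fq_pi Z₁ a
    rw [← map_mul, ← map_mul, fq_pi_eq_iff]
    have h1 : ((a * b : ↥(Subgroup.normalizer (Z₁ : Set G))) : G) *
        ((b * a : ↥(Subgroup.normalizer (Z₁ : Set G))) : G)⁻¹ =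
        (a : G) * (b : G) * (a : G)⁻¹ * (b : G)⁻¹ := by
      show (a : G) * (b : G) * ((b : G) * (a : G))⁻¹ = _
      group
    rw [h1]
    have h2 := hTT (Subgroup.commutator_mem_commutator ha hb)
    rw [commutatorElement_def] at h2
    exact h2
  have hVb1 : fq_img Z₁ T ≠ ⊥ := by
    intro hbot
    apply hTZ
    intro t ht
    have h1 : fq_pi Z₁ ⟨t, hTN ht⟩ ∈ fq_img Z₁ T := (fq_mem_img Z₁ T _).mpr ⟨_, ht, rfl⟩
    rw [hbot, Subgroup.mem_bot, fq_pi_eq_one] at h1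
    exact h1
  have hAV : fq_img Z₁ A ≤ Subgroup.normalizer ((fq_img Z₁ T : Subgroup _) : Set _) := by
    intro y hy
    obtain ⟨a, ha, rfl⟩ := (fq_mem_img Z₁ A y).mp hy
    exact fq_nz_img Z₁ T a (hAT ha)
  have hzVb := fq_nz_img Z₁ T ⟨z, hzZ⟩ hzT
  have hzAb := fq_nz_img Z₁ A ⟨z, hzZ⟩ hzA
  have hzb1 : fq_pi Z₁ ⟨z, hzZ⟩ ≠ 1 := by
    intro h1
    rw [fq_pi_eq_one] at h1
    have h2 : orderOf z ∣ Nat.card T := Subgroup.orderOf_dvd_natCard T (hZT h1)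
    rw [hzq] at h2
    exact hq.one_lt.ne' (Nat.Coprime.eq_one_of_dvd hqcop h2)
  have hzqb : orderOf (fq_pi Z₁ ⟨z, hzZ⟩) = q := by
    apply orderOf_eq_prime _ hzb1
    rw [← map_pow]
    have h1 : (⟨z, hzZ⟩ : ↥(Subgroup.normalizer (Z₁ : Set G))) ^ q = 1 := by
      apply Subtype.ext
      show z ^ q = 1
      rw [← hzq]; exact pow_orderOf_eq_one z
    rw [h1, map_one]
  have hfreeb : ∀ y ∈ fq_img Z₁ A, fq_pi Z₁ ⟨z, hzZ⟩ * y = y * fq_pi Z₁ ⟨z, hzZ⟩ → y = 1 := by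
    intro y hy hc
    obtain ⟨a, ha, rfl⟩ := (fq_mem_img Z₁ A y).mp hy
    rw [← map_mul, ← map_mul, fq_pi_eq_iff] at hc
    have h1 : ((⟨z, hzZ⟩ * a : ↥(Subgroup.normalizer (Z₁ : Set G))) : G) *
        ((a * ⟨z, hzZ⟩ : ↥(Subgroup.normalizer (Z₁ : Set G))) : G)⁻¹ =
        z * (a : G) * z⁻¹ * (a : G)⁻¹ := by
      show z * (a : G) * ((a : G) * z)⁻¹ = _
      group
    rw [h1] at hc
    have h2 : z * (a : G) * z⁻¹ * (a : G)⁻¹ ∈ A :=
      A.mul_mem (conj_mem_of_nz hzA ha) (A.inv_mem ha)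
    have h3 := hAZ1 _ h2 hc
    have h4 : z * (a : G) = (a : G) * z := by
      have : z * (a : G) = (z * (a : G) * z⁻¹ * (a : G)⁻¹) * ((a : G) * z) := by group
      rw [this, h3, one_mul]
    have h5 : (a : G) = 1 := hfree _ ha h4
    rw [fq_pi_eq_one, h5]
    exact Z₁.one_mem
  have hcopb : (Nat.card ↥(fq_img Z₁ A)).Coprime (Nat.card ↥(fq_img Z₁ T)) :=
    Nat.Coprime.coprime_dvd_left (fq_card_img_dvd Z₁ A hAZ)
      (Nat.Coprime.coprime_dvd_right (fq_card_img_dvd Z₁ T hTN) hcop)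
  have hCAb : fq_img Z₁ T ⊓ Subgroup.centralizer ((fq_img Z₁ A : Subgroup _) : Set _) = ⊥ := by
    rw [eq_bot_iff]
    rintro y ⟨hyT, hyC⟩
    obtain ⟨t, ht, rfl⟩ := (fq_mem_img Z₁ T y).mp hyT
    rw [Subgroup.mem_bot, fq_pi_eq_one]
    have hfix : ∀ a ∈ A, a * (t : G) * a⁻¹ * (t : G)⁻¹ ∈ Z₁ := by
      intro a ha
      have h1 := (Subgroup.mem_centralizer_iff.mp hyC) (fq_pi Z₁ ⟨a, hAZ ha⟩)
        ((fq_mem_img Z₁ A _).mpr ⟨_, ha, rfl⟩)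
      rw [← map_mul, ← map_mul, fq_pi_eq_iff] at h1
      have h2 : ((⟨a, hAZ ha⟩ * t : ↥(Subgroup.normalizer (Z₁ : Set G))) : G) *
          ((t * ⟨a, hAZ ha⟩ : ↥(Subgroup.normalizer (Z₁ : Set G))) : G)⁻¹ =
          a * (t : G) * a⁻¹ * (t : G)⁻¹ := by
        show a * (t : G) * ((t : G) * a)⁻¹ = _
        group
      rw [h2] at h1
      exact h1
    obtain ⟨c, hc, hcZ⟩ := Cfsg.Agent.S0022.result A T hAT hcop (Or.inl hAsolv) Z₁ hZT hTN hAZ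
      (t : G) ht hfix
    have hcZ1 : c ∈ Z₁ := hCA hc
    have h3 : (t : G) = c * ((t : G)⁻¹ * c)⁻¹ := by group
    rw [h3]
    exact Z₁.mul_mem hcZ1 (Z₁.inv_mem hcZ)
  have hne := Cfsg.Agent.Lib.Helper32.BG12X.frobenius_fixed_point hAb hVb hVb1 hAV hzVb hzAb hzqb
    hfreeb hcopb hCAb
  apply hne
  rw [eq_bot_iff]
  rintro y ⟨hyT, hyC⟩
  obtain ⟨t, ht, rfl⟩ := (fq_mem_img Z₁ T y).mp hyT
  rw [Subgroup.mem_bot, fq_pi_eq_one]
  have hzy : fq_pi Z₁ ⟨z, hzZ⟩ * fq_pi Z₁ t = fq_pi Z₁ t * fq_pi Z₁ ⟨z, hzZ⟩ :=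
    (Subgroup.mem_centralizer_iff.mp hyC) _ rfl
  have hle : Subgroup.zpowers z ≤ ((Subgroup.centralizer
      ({fq_pi Z₁ t} : Set (↥(Subgroup.normalizer (Z₁ : Set G)) ⧸
        Z₁.subgroupOf (Subgroup.normalizer (Z₁ : Set G))))).comap (fq_pi Z₁)).map
      (Subgroup.normalizer (Z₁ : Set G)).subtype := by
    rw [Subgroup.zpowers_le]
    refine ⟨⟨z, hzZ⟩, ?_, rfl⟩
    show fq_pi Z₁ ⟨z, hzZ⟩ ∈ Subgroup.centralizer _
    rw [Subgroup.mem_centralizer_iff]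
    intro h hh
    rw [Set.mem_singleton_iff] at hh
    rw [hh]
    exact hzy.symm
  have hfix : ∀ a ∈ Subgroup.zpowers z, a * (t : G) * a⁻¹ * (t : G)⁻¹ ∈ Z₁ := by
    intro a ha
    obtain ⟨x, hx, rfl⟩ := hle ha
    have hx' : fq_pi Z₁ x ∈ Subgroup.centralizer
        ({fq_pi Z₁ t} : Set (↥(Subgroup.normalizer (Z₁ : Set G)) ⧸
          Z₁.subgroupOf (Subgroup.normalizer (Z₁ : Set G)))) := hx
    have h1 := (Subgroup.mem_centralizer_iff.mp hx') _ rfl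
    -- h1 : π t * π x = π x * π t
    rw [← map_mul, ← map_mul, fq_pi_eq_iff] at h1
    have h2 : ((x * t : ↥(Subgroup.normalizer (Z₁ : Set G))) : G) *
        ((t * x : ↥(Subgroup.normalizer (Z₁ : Set G))) : G)⁻¹ =
        (x : G) * (t : G) * (x : G)⁻¹ * (t : G)⁻¹ := by
      show (x : G) * (t : G) * ((t : G) * (x : G))⁻¹ = _
      group
    have h1' := Z₁.inv_mem h1
    have h3 : (((t * x : ↥(Subgroup.normalizer (Z₁ : Set G))) : G) *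
        ((x * t : ↥(Subgroup.normalizer (Z₁ : Set G))) : G)⁻¹)⁻¹ =
        (x : G) * (t : G) * (x : G)⁻¹ * (t : G)⁻¹ := by
      show ((t : G) * (x : G) * ((x : G) * (t : G))⁻¹)⁻¹ = _
      group
    rw [h3] at h1'
    exact h1'
  have hzsolv : Group.IsSolvable ↥(Subgroup.zpowers z) := Group.isSolvable_of_comm (fun a b => by
    obtain ⟨i, hi⟩ := Subgroup.mem_zpowers_iff.mp a.2
    obtain ⟨j, hj⟩ := Subgroup.mem_zpowers_iff.mp b.2
    apply Subtype.ext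
    show (a : G) * (b : G) = (b : G) * (a : G)
    rw [← hi, ← hj, ← zpow_add, ← zpow_add, add_comm])
  have hzcop : (Nat.card ↥(Subgroup.zpowers z)).Coprime (Nat.card T) := by
    rw [Nat.card_zpowers, hzq]; exact hqcop
  obtain ⟨c, hc, hcZ⟩ := Cfsg.Agent.S0022.result (Subgroup.zpowers z) T
    (Subgroup.zpowers_le.mpr hzT) hzcop (Or.inl hzsolv) Z₁ hZT hTN (Subgroup.zpowers_le.mpr hzZ)
    (t : G) ht hfix
  have hcz : c ∈ T ⊓ Subgroup.centralizer ({z} : Set G) :=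
    ⟨hc.1, Subgroup.centralizer_le (Set.singleton_subset_iff.mpr (Subgroup.mem_zpowers z)) hc.2⟩
  have hcZ1 : c ∈ Z₁ := hcontra hcz
  have h3 : (t : G) = c * ((t : G)⁻¹ * c)⁻¹ := by group
  rw [h3]
  exact Z₁.mul_mem hcZ1 (Z₁.inv_mem hcZ)

end Cfsg.Agent.Lib.Helper15.BG13C
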