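import Mathlib
import Cfsg.Agent.Lib.Helper10.BR0
import Cfsg.Agent.Lib.Helper35.Ind

/-!
# Brauer–Reynolds (S0999), piece BR-I2 (helper35): configuration (I) is impossible.
-/

set_option autoImplicit false

namespace Cfsg.Agent.Lib.Helper10.BR

open Cfsg
open Cfsg.Agent.Lib.Helper83 (trivIrr)
open scoped ComplexConjugate

namespace BRI2aux

/-- the arithmetic core -/
theorem arith (p e t a b y d : ℕ) (he : 2 ≤ e) (ht : 3 ≤ t) (het : e * t = p - 1) (hp5 : 5 ≤ p)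
    (h1 : e * p = p + a * (t * p) + p * d)
    (h2 : e * e = 1 + a * (t * (p - e)) + b * (p - 1) + y * e + p * d) : False := by
  have hp1 : 1 ≤ p := by omega
  have hpe : e ≤ p := by
    have : e * 1 ≤ e * t := Nat.mul_le_mul_left e (by omega)
    omega
  have hppos : 0 < p := by omega
  have h1' : e = 1 + a * t + d := by
    have : e * p = (1 + a * t + d) * p := by rw [h1]; ring
    exact Nat.eq_of_mul_eq_mul_right hppos this
  zify [hp1, hpe] at h2 het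
  have h1z : (e : ℤ) = 1 + a * t + d := by exact_mod_cast h1'
  have hez : (2 : ℤ) ≤ e := by exact_mod_cast he
  have htz : (3 : ℤ) ≤ t := by exact_mod_cast ht
  have ha0 : (0 : ℤ) ≤ a := Int.natCast_nonneg a
  have hb0 : (0 : ℤ) ≤ b := Int.natCast_nonneg b
  have hy0 : (0 : ℤ) ≤ y := Int.natCast_nonneg y
  have hd0 : (0 : ℤ) ≤ d := Int.natCast_nonneg d
  have hpz : (p : ℤ) = e * t + 1 := by linarith
  -- substitute d
  have hd : (d : ℤ) = e - 1 - a * t := by linarith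
  have hat : (a : ℤ) * t ≤ e - 1 := by linarith
  have hbb : (0 : ℤ) ≤ b * ((p : ℤ) - 1) := mul_nonneg hb0 (by linarith [mul_nonneg (by linarith : (0:ℤ) ≤ e) (by linarith : (0:ℤ) ≤ t)])
  have hyy : (0 : ℤ) ≤ y * e := mul_nonneg hy0 (by linarith)
  -- e² - 1 - p (e - 1) + a t e = b (p-1) + y e ≥ 0
  have key : (e : ℤ) * e - 1 - p * (e - 1) + a * t * e = b * ((p : ℤ) - 1) + y * e := by
    rw [hd] at h2
    linarith [h2]
  have k2 : (0 : ℤ) ≤ (e : ℤ) * e - 1 - p * (e - 1) + (e - 1) * e := by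
    have : (a : ℤ) * t * e ≤ (e - 1) * e := mul_le_mul_of_nonneg_right hat (by linarith)
    linarith
  -- (e - 1) (2 e + 1 - p) ≥ 0
  have k3 : (0 : ℤ) ≤ (e - 1) * (2 * e + 1 - p) := by nlinarith
  have k4 : (0 : ℤ) ≤ 2 * e + 1 - p := by
    by_contra hneg
    rw [not_le] at hneg
    have : ((e : ℤ) - 1) * (2 * e + 1 - p) < 0 := mul_neg_of_pos_of_neg (by linarith) hneg
    linarith
  nlinarith

end BRI2aux

section T

variable {G : Type*} [Group G] [Fintype G] {p e t : ℕ} {P : Subgroup G} {ε : ℤ} {x₀ : ℕ}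
  {A B Y D : Finset (IrrCharacter G)}

/-- BR-I2 -/
theorem config_I_false_of (h : Tab G p e t P ε x₀ A B Y D) (hε : ε = 1) (hx : x₀ = e)
    (hlinA : ∀ χ ∈ A, psum P (χ : G → ℂ) 1 = ((t * p : ℕ) : ℂ))
    (hlinB : ∀ χ ∈ B, psum P (χ : G → ℂ) 1 = 0)
    (hlinD : ∀ ψ ∈ D, psum P (ψ : G → ℂ) 1 = (ψ : G → ℂ) 1)
    (hY : ∀ θ ∈ Y, psum P (θ : G → ℂ) 1 = 0 ∧
      psum P (fun g => (θ : G → ℂ) g * conj ((θ : G → ℂ) g)) 1 = ((e * p : ℕ) : ℂ)) :
    False := by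
  classical
  have := Cfsg.Agent.Lib.Helper4.irr_finite (G := G)
  let _ : Fintype (IrrCharacter G) := Fintype.ofFinite _
  let _ : Fintype P := Fintype.ofFinite _
  -- fix θ ∈ Y
  have hYne : Y.Nonempty := by
    rw [← Finset.card_pos, h.cardY]
    have := h.ht
    omega
  obtain ⟨θ, hθ⟩ := hYne
  set φ : G → ℂ := fun g => (θ : G → ℂ) g * conj ((θ : G → ℂ) g) with hφ
  have hθc : IsCharacter G (θ : G → ℂ) := Cfsg.Agent.Lib.Helper35.isChar_of_irr θ.2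
  have hφc : IsCharacter G φ :=
    Cfsg.Agent.Lib.Helper35.isCharacter_mul hθc (Cfsg.Agent.Lib.Helper4.isCharacter_conj _ hθc)
  obtain ⟨c, hc⟩ := Cfsg.Agent.Lib.Helper4.exists_decomp_of_isCharacter φ hφc
  -- c triv = 1
  have hc1 : c (trivIrr G) = 1 := by
    have e1 : classInner φ (trivIrr G : G → ℂ) = (c (trivIrr G) : ℂ) := by
      rw [hc]
      exact Cfsg.Agent.Lib.Helper4.classInner_sum_irr (fun χ => (c χ : ℂ)) (trivIrr G)
    have e2 : classInner φ (trivIrr G : G → ℂ) = classInner (θ : G → ℂ) (θ : G → ℂ) := by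
      unfold classInner
      congr 1
      refine Finset.sum_congr rfl fun g _ => ?_
      rw [Cfsg.Agent.Lib.Helper83.trivIrr_apply, map_one, mul_one]
    rw [e2, Cfsg.Agent.Lib.Helper4.classInner_irr, if_pos rfl] at e1
    exact_mod_cast e1.symm
  -- pointwise decomposition
  have hval : ∀ g : G, φ g = ∑ χ : IrrCharacter G, (c χ : ℂ) * (χ : G → ℂ) g := by
    intro g
    have := congrFun hc g
    rw [this, Finset.sum_apply]
    rfl
  -- psum of the trivial character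
  have hpt : psum P (trivIrr G : G → ℂ) 1 = (p : ℂ) := by
    rw [psum_eq_sum]
    simp only [Cfsg.Agent.Lib.Helper83.trivIrr_apply, Finset.sum_const, Finset.card_univ,
      nsmul_eq_mul, mul_one]
    rw [← Nat.card_eq_fintype_card, h.cardP]
  -- psum is additive
  have hps : psum P φ 1 = ∑ χ : IrrCharacter G, (c χ : ℂ) * psum P (χ : G → ℂ) 1 := by
    rw [psum_eq_sum]
    simp only [hval]
    rw [Finset.sum_comm]
    refine Finset.sum_congr rfl fun χ _ => ?_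
    rw [psum_eq_sum, Finset.mul_sum]
  obtain ⟨k, hk⟩ : ∃ k : IrrCharacter G → ℕ, ∀ ψ ∈ D, (ψ : G → ℂ) 1 = ((p * k ψ : ℕ) : ℂ) := by
    have := h.degD
    choose! k hk using this
    exact ⟨k, hk⟩
  -- equation (1)
  have eq1 : e * p = p + (∑ χ ∈ A, c χ) * (t * p) + p * ∑ ψ ∈ D, c ψ * k ψ := by
    have e1 : ((e * p : ℕ) : ℂ) = ∑ χ : IrrCharacter G, (c χ : ℂ) * psum P (χ : G → ℂ) 1 := by
      rw [← hps]; exact ((hY θ hθ).2).symm
    rw [h.sum_split, hc1, hpt] at e1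
    have sA : ∑ χ ∈ A, (c χ : ℂ) * psum P (χ : G → ℂ) 1
        = ((∑ χ ∈ A, c χ : ℕ) : ℂ) * ((t * p : ℕ) : ℂ) := by
      rw [Nat.cast_sum, Finset.sum_mul]
      exact Finset.sum_congr rfl fun χ hχ => by rw [hlinA χ hχ]
    have sB : ∑ χ ∈ B, (c χ : ℂ) * psum P (χ : G → ℂ) 1 = 0 :=
      Finset.sum_eq_zero fun χ hχ => by rw [hlinB χ hχ, mul_zero]
    have sY : ∑ χ ∈ Y, (c χ : ℂ) * psum P (χ : G → ℂ) 1 = 0 :=
      Finset.sum_eq_zero fun χ hχ => by rw [(hY χ hχ).1, mul_zero]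
    have sD : ∑ ψ ∈ D, (c ψ : ℂ) * psum P (ψ : G → ℂ) 1
        = (p : ℂ) * ∑ ψ ∈ D, ((c ψ : ℂ) * (k ψ : ℂ)) := by
      rw [Finset.mul_sum]
      refine Finset.sum_congr rfl fun ψ hψ => ?_
      rw [hlinD ψ hψ, hk ψ hψ]; push_cast; ring
    rw [sA, sB, sY, sD] at e1
    have e1' : ((e * p : ℕ) : ℂ)
        = ((p + (∑ χ ∈ A, c χ) * (t * p) + p * ∑ ψ ∈ D, c ψ * k ψ : ℕ) : ℂ) := by
      rw [e1]; push_cast; ring
    exact_mod_cast e1'
  -- equation (2)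
  have eq2 : e * e = 1 + (∑ χ ∈ A, c χ) * (t * (p - e)) + (∑ χ ∈ B, c χ) * (p - 1)
      + (∑ χ ∈ Y, c χ) * e + p * ∑ ψ ∈ D, c ψ * k ψ := by
    have e2 : φ 1 = ((e * e : ℕ) : ℂ) := by
      rw [hφ]
      simp only
      rw [h.degY θ hθ, hx]
      simp
    rw [hval 1, h.sum_split, hc1] at e2
    have sA : ∑ χ ∈ A, (c χ : ℂ) * (χ : G → ℂ) 1
        = ((∑ χ ∈ A, c χ : ℕ) : ℂ) * ((t * (p - e) : ℕ) : ℂ) := by
      rw [Nat.cast_sum, Finset.sum_mul]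
      exact Finset.sum_congr rfl fun χ hχ => by rw [h.degA χ hχ]
    have sB : ∑ χ ∈ B, (c χ : ℂ) * (χ : G → ℂ) 1
        = ((∑ χ ∈ B, c χ : ℕ) : ℂ) * ((p - 1 : ℕ) : ℂ) := by
      rw [Nat.cast_sum, Finset.sum_mul]
      exact Finset.sum_congr rfl fun χ hχ => by rw [h.degB χ hχ]
    have sY : ∑ χ ∈ Y, (c χ : ℂ) * (χ : G → ℂ) 1
        = ((∑ χ ∈ Y, c χ : ℕ) : ℂ) * (e : ℂ) := by
      rw [Nat.cast_sum, Finset.sum_mul]
      exact Finset.sum_congr rfl fun χ hχ => by rw [h.degY χ hχ, hx]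
    have sD : ∑ ψ ∈ D, (c ψ : ℂ) * (ψ : G → ℂ) 1
        = (p : ℂ) * ∑ ψ ∈ D, ((c ψ : ℂ) * (k ψ : ℂ)) := by
      rw [Finset.mul_sum]
      refine Finset.sum_congr rfl fun ψ hψ => ?_
      rw [hk ψ hψ]; push_cast; ring
    rw [sA, sB, sY, sD, Cfsg.Agent.Lib.Helper83.trivIrr_apply] at e2
    have e2' : ((e * e : ℕ) : ℂ) = ((1 + (∑ χ ∈ A, c χ) * (t * (p - e))
        + (∑ χ ∈ B, c χ) * (p - 1) + (∑ χ ∈ Y, c χ) * e + p * ∑ ψ ∈ D, c ψ * k ψ : ℕ) : ℂ) := by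
      rw [← e2]; push_cast; ring
    exact_mod_cast e2'
  exact BRI2aux.arith p e t _ _ _ _ h.he h.ht h.het h.hp5 eq1 eq2

end T

end Cfsg.Agent.Lib.Helper10.BR
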