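import Cfsg.Agent.Lib.Helper27.ChevIso

/-!
# Exceptional isogenies (helper27's S2121 project), piece XE (helper35)

Entries of `x_r(t)` as explicit integer polynomials and the characteristic-`p` comparison lemmas.
-/

set_option autoImplicit false

namespace Cfsg.Agent.Lib.Helper35.ChevIsoP

open Cfsg.Lie Cfsg.Agent.Lib.Helper27.ChevDyn Cfsg.Agent.Lib.Helper27.ChevIso

/-- XE1 (Prelude only): the entries of `x_r(t)` -/
theorem xMat_entry (D : ChevalleyDatum) {F : Type*} [Field F] (r : Fin D.nroots) (t : F)
    (row col : D.Idx) :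
    D.xMat F r t row col = evalP (entryP D r.val (idxN D row) (idxN D col)) t := by
  unfold ChevalleyDatum.xMat
  simp only [Matrix.of_apply]
  rcases col with i | s
  · rcases row with i' | u
    · simp only [entryP, idxN, Sum.map_inl, Fin.val_inj]
      by_cases h : i' = i
      · simp [h, evalP]
      · simp [h, evalP]
    · simp only [entryP, idxN, Sum.map_inl, Sum.map_inr, Fin.val_inj]
      by_cases h : u = r
      · simp [h, evalP]
      · simp [h, evalP]
  · rcases row with i' | u
    · simp only [entryP, idxN, Sum.map_inl, Sum.map_inr, Fin.val_inj]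
      by_cases h : s = r
      · simp [h, evalP]
      · simp only [if_neg h]
        by_cases h' : s.val = D.negIdx.getD r.val 0
        · simp only [if_pos h']
          simp [evalP]
        · simp only [if_neg h']
          simp [evalP]
    · simp only [entryP, idxN, Sum.map_inr, Fin.val_inj]
      by_cases h : s = r
      · simp only [if_pos h]
        by_cases h2 : u = r
        · simp [h2, evalP]
        · simp [h2, evalP]
      · simp only [if_neg h]
        by_cases h' : s.val = D.negIdx.getD r.val 0
        · simp only [if_pos h']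
          by_cases h2 : u = s
          · simp [h2, evalP]
          · simp only [if_neg h2]
            by_cases h3 : u = r
            · simp [h3, evalP]
            · simp [h3, evalP]
        · simp only [if_neg h']
          by_cases h2 : u = s
          · simp [h2, evalP]
          · simp [h2, evalP]

/-- XE2: a polynomial with coefficients divisible by the characteristic vanishes -/
theorem evalP_eq_zero {F : Type*} [Field F] (p : ℕ) [CharP F p] (f : PL) (t : F)
    (h : ∀ q ∈ f, q.2 % (p : ℤ) = 0) : evalP f t = 0 := by
  unfold evalP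
  apply List.sum_eq_zero
  intro x hx
  obtain ⟨q, hq, rfl⟩ := List.mem_map.1 hx
  have : ((q.2 : ℤ) : F) = 0 :=
    (CharP.intCast_eq_zero_iff F p q.2).2 (Int.dvd_of_emod_eq_zero (h q hq))
  rw [this, zero_mul]

/-- the coefficient of degree `k` -/
def coefXE (f : PL) (k : ℕ) : ℤ := ((f.filter (fun q => q.1 = k)).map (·.2)).sum

theorem coefXE_cons (q : ℕ × ℤ) (f : PL) (k : ℕ) :
    coefXE (q :: f) k = (if q.1 = k then q.2 else 0) + coefXE f k := by
  unfold coefXE
  by_cases h : q.1 = k
  · simp [h]
  · simp [h]

theorem evalP_cons {F : Type*} [Field F] (q : ℕ × ℤ) (f : PL) (t : F) :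
    evalP (q :: f) t = ((q.2 : ℤ) : F) * t ^ q.1 + evalP f t := by
  simp [evalP]

theorem evalP_eq_sum {F : Type*} [Field F] (f : PL) (t : F) (hf : ∀ q ∈ f, q.1 < 10) :
    evalP f t = ∑ k ∈ Finset.range 10, ((coefXE f k : ℤ) : F) * t ^ k := by
  induction f with
  | nil => simp [evalP, coefXE]
  | cons q f ih =>
    rw [evalP_cons, ih (fun q' hq' => hf q' (List.mem_cons_of_mem _ hq'))]
    have hq : q.1 < 10 := hf q List.mem_cons_self
    simp only [coefXE_cons, Int.cast_add, add_mul, Finset.sum_add_distrib]
    congr 1
    have : ∀ k ∈ Finset.range 10, (((if q.1 = k then q.2 else 0 : ℤ) : ℤ) : F) * t ^ k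
        = if q.1 = k then ((q.2 : ℤ) : F) * t ^ q.1 else 0 := by
      intro k _
      by_cases h : q.1 = k
      · simp [h]
      · simp [h]
    rw [Finset.sum_congr rfl this, Finset.sum_ite_eq, if_pos (Finset.mem_range.2 hq)]

theorem evalP_subst {F : Type*} [Field F] (f : PL) (lam : ℕ) (t : F) :
    evalP f (t ^ lam) = evalP (substP lam f) t := by
  induction f with
  | nil => simp [evalP, substP]
  | cons q f ih =>
    have e : substP lam (q :: f) = (q.1 * lam, q.2) :: substP lam f := by simp [substP]
    rw [e, evalP_cons, evalP_cons, ih, ← pow_mul, mul_comm lam q.1]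

/-- XE3: two polynomials with the same coefficients modulo the characteristic -/
theorem evalP_twist {F : Type*} [Field F] (p : ℕ) [CharP F p] (f g : PL) (lam : ℕ) (t : F)
    (h : nrmP p (substP lam f) = nrmP p g) (hf : ∀ q ∈ substP lam f, q.1 < 10)
    (hg : ∀ q ∈ g, q.1 < 10) : evalP f (t ^ lam) = evalP g t := by
  rw [evalP_subst, evalP_eq_sum _ t hf, evalP_eq_sum _ t hg]
  refine Finset.sum_congr rfl fun k hk => ?_
  have hk' : k ∈ List.range 10 := List.mem_range.2 (Finset.mem_range.1 hk)
  have h1 : coefXE (substP lam f) k % (p : ℤ) = coefXE g k % (p : ℤ) := by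
    unfold nrmP at h
    exact (List.map_inj_left.1 h) k hk'
  have h2 : ((coefXE (substP lam f) k : ℤ) : F) = ((coefXE g k : ℤ) : F) :=
    (CharP.intCast_eq_intCast F p).2 h1
  rw [h2]

end Cfsg.Agent.Lib.Helper35.ChevIsoP
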