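import Cfsg.Agent.Lib.Helper35.FrobS
import Cfsg.Agent.Lib.Helper20.NormalInd
import Cfsg.Agent.Lib.Helper36.CharBasic
import Mathlib

set_option autoImplicit false
open Cfsg

namespace Cfsg.Agent.Lib.Helper35

open Cfsg.Agent.Lib
open scoped ComplexConjugate

section CnFrob

variable {H : Type*} [Group H] [Fintype H] (M : Subgroup H) [hM : M.Normal]

/-- the regular character of `H ⧸ M`, as a function on `H` -/
noncomputable def regQ : H → ℂ := indFun M (fun _ => 1)

open Classical in
theorem regQ_apply (x : H) : regQ M x = if x ∈ M then (M.index : ℂ) else 0 := by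
  by_cases hx : x ∈ M
  · rw [if_pos hx]
    have := Helper20.indFun_normal_of_invariant M (fun _ => (1 : ℂ)) (fun _ _ => rfl) ⟨x, hx⟩
    simpa [regQ] using this
  · rw [if_neg hx]
    exact Helper20.indFun_normal_of_not_mem M _ x hx

omit hM in
theorem isCharacter_regQ : IsCharacter H (regQ M) := isCharacter_indFun M isCharacter_one

omit hM in
open Classical in
theorem sum_ite_mem_eq [Fintype M] (f : H → ℂ) :
    ∑ x : H, (if x ∈ M then f x else 0) = ∑ k : M, f k := by
  rw [← Finset.sum_filter]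
  exact Finset.sum_subtype (Finset.univ.filter (· ∈ M)) (by simp) f

omit hM in
open Classical in
theorem sum_ite_mem_one : ∑ x : H, (if x ∈ M then (1 : ℂ) else 0) = Nat.card M := by
  let _ : Fintype M := Fintype.ofFinite _
  rw [sum_ite_mem_eq M (fun _ => (1 : ℂ))]
  simp [Nat.card_eq_fintype_card]

omit hM in
theorem card_eq_mul_index_cast : (Nat.card H : ℂ) = (Nat.card M : ℂ) * (M.index : ℂ) := by
  rw [← Nat.cast_mul, Subgroup.card_mul_index]

open Classical in
theorem regQ_inner (f : H → ℂ) :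
    classInner (regQ M) f = (Nat.card M : ℂ)⁻¹ * ∑ x : H, (if x ∈ M then conj (f x) else 0) := by
  have hMc : (Nat.card M : ℂ) ≠ 0 := Nat.cast_ne_zero.mpr Nat.card_pos.ne'
  have hI : (M.index : ℂ) ≠ 0 := Nat.cast_ne_zero.mpr (Subgroup.index_ne_zero_of_finite)
  have h1 : ∑ x : H, regQ M x * conj (f x) =
      (M.index : ℂ) * ∑ x : H, (if x ∈ M then conj (f x) else 0) := by
    rw [Finset.mul_sum]
    refine Finset.sum_congr rfl fun x _ => ?_
    rw [regQ_apply]
    by_cases hx : x ∈ M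
    · rw [if_pos hx, if_pos hx]
    · rw [if_neg hx, if_neg hx, zero_mul, mul_zero]
  rw [classInner, h1, card_eq_mul_index_cast M]
  field_simp

theorem regQ_inner_one : classInner (regQ M) (fun _ => 1) = 1 := by
  classical
  have hMc : (Nat.card M : ℂ) ≠ 0 := Nat.cast_ne_zero.mpr Nat.card_pos.ne'
  rw [regQ_inner]
  simp only [map_one]
  rw [sum_ite_mem_one]
  field_simp

theorem regQ_inner_self : classInner (regQ M) (regQ M) = M.index := by
  classical
  have hMc : (Nat.card M : ℂ) ≠ 0 := Nat.cast_ne_zero.mpr Nat.card_pos.ne'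
  rw [regQ_inner]
  have h1 : ∑ x : H, (if x ∈ M then conj (regQ M x) else 0) =
      (M.index : ℂ) * ∑ x : H, (if x ∈ M then (1 : ℂ) else 0) := by
    rw [Finset.mul_sum]
    refine Finset.sum_congr rfl fun x _ => ?_
    by_cases hx : x ∈ M
    · rw [if_pos hx, if_pos hx, regQ_apply, if_pos hx, map_natCast, mul_one]
    · rw [if_neg hx, if_neg hx, mul_zero]
  rw [h1, sum_ite_mem_one]
  field_simp

theorem regQ_inner_nt {ξ : H → ℂ} (hξ : ξ ∈ ntSet M) : classInner (regQ M) ξ = 0 := by
  classical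
  let _ : Fintype M := Fintype.ofFinite _
  rw [regQ_inner, sum_ite_mem_eq M (fun x => conj (ξ x)), ← map_sum,
    Helper20.irr_sum_normal M ⟨ξ, hξ.1⟩ hξ.2, map_zero, mul_zero]

omit [Fintype H] hM in
theorem nt_ne_one {ξ : H → ℂ} (hξ : ξ ∈ ntSet M) : ξ ≠ fun _ => 1 := by
  intro h
  apply hξ.2
  intro a _
  rw [h]

omit hM in
theorem nt_inner_one {ξ : H → ℂ} (hξ : ξ ∈ ntSet M) : classInner ξ (fun _ => 1) = 0 := by
  rw [classInner_irr' hξ.1 Helper4.isIrrCharacter_one, if_neg (nt_ne_one M hξ)]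

variable {ζ : H → ℂ} (hζ : ζ ∈ ntSet M) (hvan : ∀ x, x ∉ M → ζ x = 0) (hdeg : ζ 1 = M.index)

include hvan hdeg in
theorem cnf_vanish (x : H) (hx : x ∉ M) : (regQ M - ζ) x = 0 := by
  classical
  rw [Pi.sub_apply, regQ_apply, if_neg hx, hvan x hx, sub_zero]

include hdeg in
theorem cnf_one : (regQ M - ζ) 1 = 0 := by
  classical
  rw [Pi.sub_apply, regQ_apply, if_pos (one_mem M), hdeg, sub_self]

include hζ in
omit hM in
theorem cnf_gen : IsGeneralizedCharacter H (regQ M - ζ) :=
  isGenChar_sub (isGenChar_of_char (isCharacter_regQ M)) (isGenChar_of_char (isChar_of_irr hζ.1))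

include hζ in
omit hM in
theorem cnf_class : IsClassFunction H (regQ M - ζ) := by
  intro g h
  rw [Pi.sub_apply, Pi.sub_apply, isClassFunction_of_isCharacter (isCharacter_regQ M) g h,
    isClassFunction_of_isCharacter (isChar_of_irr hζ.1) g h]

include hζ in
theorem cnf_inner_one : classInner (regQ M - ζ) (fun _ => 1) = 1 := by
  rw [classInner_sub_left, regQ_inner_one, nt_inner_one M hζ, sub_zero]

include hζ in
open Classical in
theorem cnf_inner_nt {ξ : H → ℂ} (hξ : ξ ∈ ntSet M) :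
    classInner (regQ M - ζ) ξ = -(if ξ = ζ then 1 else 0) := by
  rw [classInner_sub_left, regQ_inner_nt M hξ, classInner_irr' hζ.1 hξ.1, zero_sub]
  by_cases h : ξ = ζ
  · rw [if_pos h, if_pos h.symm]
  · rw [if_neg h, if_neg (fun h' => h h'.symm)]

include hζ in
theorem cnf_norm : classInner (regQ M - ζ) (regQ M - ζ) = (M.index : ℂ) + 1 := by
  have h1 : classInner ζ (regQ M) = 0 := by
    rw [Helper36.classInner_conj_symm (regQ M) ζ, regQ_inner_nt M hζ, map_zero]
  rw [classInner_sub_left, classInner_sub_right, classInner_sub_right, regQ_inner_self,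
    regQ_inner_nt M hζ, h1, classInner_irr' hζ.1 hζ.1, if_pos rfl]
  ring

include hvan hdeg in
theorem cnf_supp (f' f'' : H → ℂ) (h : ∀ x ∈ M, x ≠ 1 → f' x = f'' x) :
    classInner (regQ M - ζ) f' = classInner (regQ M - ζ) f'' := by
  unfold classInner
  congr 1
  refine Finset.sum_congr rfl fun x _ => ?_
  by_cases hx : x ∈ M
  · by_cases hx1 : x = 1
    · rw [hx1, cnf_one M hdeg, zero_mul, zero_mul]
    · rw [h x hx hx1]
  · rw [cnf_vanish M hvan hdeg x hx, zero_mul, zero_mul]

include hζ hvan hdeg in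
open Classical in
theorem cnf_eta_sum (m : ℤ) :
    ∑ x : H, (if x ∈ M ∧ x ≠ 1 then (ζ x + m) * conj (ζ x + m) else 0) =
      (Nat.card H : ℂ) - (M.index : ℂ) ^ 2 - 2 * m * M.index + (m : ℂ) ^ 2 * (Nat.card M - 1) := by
  have hHc : (Nat.card H : ℂ) ≠ 0 := Nat.cast_ne_zero.mpr Nat.card_pos.ne'
  have hpt : ∀ x : H, (if x ∈ M ∧ x ≠ 1 then (ζ x + m) * conj (ζ x + m) else 0) =
      ζ x * conj (ζ x) + m * ζ x + m * conj (ζ x) + (m : ℂ) ^ 2 * (if x ∈ M then 1 else 0) -
        (if x = 1 then ((M.index : ℂ) + m) ^ 2 else 0) := by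
    intro x
    by_cases hx : x ∈ M
    · by_cases hx1 : x = 1
      · rw [if_neg (fun hh => hh.2 hx1), if_pos hx, if_pos hx1, hx1, hdeg, map_natCast]
        ring
      · rw [if_pos ⟨hx, hx1⟩, if_pos hx, if_neg hx1, map_add, map_intCast]
        ring
    · rw [if_neg (fun hh => hx hh.1), if_neg hx, if_neg (fun h1 : x = 1 => hx (h1 ▸ one_mem M)),
        hvan x hx]
      simp
  have hs1 : ∑ x : H, ζ x * conj (ζ x) = Nat.card H := by
    have h1 := classInner_irr' hζ.1 hζ.1
    rw [if_pos rfl, classInner] at h1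
    field_simp at h1
    exact h1
  have hs2 : ∑ x : H, ζ x = 0 := by
    have h1 := nt_inner_one M hζ
    rw [classInner] at h1
    simp only [map_one, mul_one] at h1
    rcases mul_eq_zero.mp h1 with h2 | h2
    · exact absurd (inv_eq_zero.mp h2) hHc
    · exact h2
  have hs3 : ∑ x : H, conj (ζ x) = 0 := by
    rw [← map_sum, hs2, map_zero]
  simp only [hpt]
  rw [Finset.sum_sub_distrib, Finset.sum_add_distrib, Finset.sum_add_distrib,
    Finset.sum_add_distrib, hs1, ← Finset.mul_sum, ← Finset.mul_sum, ← Finset.mul_sum, hs2, hs3,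
    sum_ite_mem_one, Finset.sum_ite_eq' Finset.univ (1 : H), if_pos (Finset.mem_univ _)]
  ring

end CnFrob

end Cfsg.Agent.Lib.Helper35
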