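import Cfsg.Agent.Lib.Helper35.CnTi
import Cfsg.Agent.Lib.Helper35.CnFrob
import Cfsg.Agent.Lib.Helper20.Tifn
import Cfsg.Agent.S0853
import Cfsg.Agent.S1529
import Cfsg.Agent.S1519
import Mathlib

set_option autoImplicit false
open Cfsg

namespace Cfsg.Agent.Lib.Helper35

open Cfsg.Agent.Lib
open scoped ComplexConjugate

section CnTifn

variable {G : Type*} [Group G] [Fintype G] {K N : Subgroup G} [Fintype N]
  {S : Set (N → ℂ)} {star : (N → ℂ) → (G → ℂ)} (T : Helper20.Tifn K N S star)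

omit [Fintype G] in
theorem isClassFunction_of_gen {f : G → ℂ} (hf : IsGeneralizedCharacter G f) :
    IsClassFunction G f := by
  obtain ⟨a, b, ha, hb, hab⟩ := hf
  intro g h
  rw [hab, Pi.sub_apply, Pi.sub_apply, isClassFunction_of_isCharacter ha g h,
    isClassFunction_of_isCharacter hb g h]

include T in
/-- a generalized character of `G` orthogonal to all `star χ` is constant, with an integer value,
on `K \ {1}` -/
theorem tifn_const_gen (f : G → ℂ) (hf : IsGeneralizedCharacter G f)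
    (horth : ∀ χ ∈ S, classInner f (star χ) = 0) (k₀ : N) (hk₀ : (k₀ : G) ∈ K) (hk₀1 : k₀ ≠ 1) :
    ∃ v : ℤ, ∀ k : N, (k : G) ∈ K → k ≠ 1 → f (k : G) = v := by
  classical
  have := Helper4.irr_finite (G := N)
  let _ : Fintype (IrrCharacter N) := Fintype.ofFinite _
  have := T.hMn
  have hcfG : IsClassFunction G f := isClassFunction_of_gen hf
  have hfN : IsGeneralizedCharacter N (res N f) := isGenChar_res N hf
  obtain ⟨v, hv⟩ := Helper20.const_on_normal_int (K.subgroupOf N) (res N f) hfN (by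
    intro χ ξ hχ hξ
    obtain ⟨dχ, -, h1⟩ := Helper4.irr_one_nat χ
    obtain ⟨dξ, -, h2⟩ := Helper4.irr_one_nat ξ
    have hχS := T.mem_of χ hχ
    have hξS := T.mem_of ξ hξ
    have e1 : classInner (res N f)
        ((dξ : ℤ) • (χ : N → ℂ) - (dχ : ℤ) • (ξ : N → ℂ)) = 0 := by
      rw [T.inner_alpha f hcfG _ _ hχS hξS dχ dξ h1 h2, T.star_alpha _ _ hχS hξS,
        Helper35.classInner_sub_right, Helper36.classInner_zsmul_right,
        Helper36.classInner_zsmul_right, horth _ hχS, horth _ hξS]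
      simp
    rw [Helper35.classInner_sub_right, Helper36.classInner_zsmul_right,
      Helper36.classInner_zsmul_right] at e1
    push_cast at e1
    rw [h1, h2]
    linear_combination e1) k₀ (Subgroup.mem_subgroupOf.mpr hk₀) hk₀1
  refine ⟨v, fun k hk hk1 => ?_⟩
  exact hv k (Subgroup.mem_subgroupOf.mpr hk) hk1

include T in
/-- off the conjugates of `K \ {1}` the values of the `star χ` are proportional to the degrees -/
theorem tifn_star_supp (χ ξ : N → ℂ) (hχ : χ ∈ S) (hξ : ξ ∈ S) (dχ dξ : ℕ) (h1 : χ 1 = dχ)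
    (h2 : ξ 1 = dξ) (g : G) (hg : ∀ y : G, y * g * y⁻¹ ∈ K → g = 1) :
    (dξ : ℂ) * star χ g = (dχ : ℂ) * star ξ g := by
  have e1 := congrFun (T.star_alpha χ ξ hχ hξ dχ dξ) g
  rw [T.hext _ (T.alpha_mem χ ξ hχ hξ dχ dξ h1 h2)] at e1
  have e2 : indFun N ((dξ : ℤ) • χ - (dχ : ℤ) • ξ) g = 0 := by
    apply ind_supp K N _ _ _ g hg
    · intro x hx
      simp only [Pi.sub_apply, Pi.smul_apply]
      rw [T.vanish χ hχ x hx, T.vanish ξ hξ x hx]
      simp
    · simp only [Pi.sub_apply, Pi.smul_apply]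
      rw [h1, h2]
      simp only [zsmul_eq_mul]
      push_cast
      ring
  rw [e2] at e1
  simp only [Pi.sub_apply, Pi.smul_apply] at e1
  simp only [zsmul_eq_mul] at e1
  push_cast at e1
  linear_combination -e1

end CnTifn

section CnLocal

variable {G : Type*} [Group G] [Fintype G]

omit [Fintype G] in
open Classical in
theorem sum_K_eq_sum_N [Fintype G] (K N : Subgroup G) [Fintype N] (hKN : K ≤ N) (F : G → ℂ) :
    ∑ x : G, (if x ∈ K ∧ x ≠ 1 then F x else 0) =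
      ∑ x : N, (if x ∈ K.subgroupOf N ∧ x ≠ 1 then F (x : G) else 0) := by
  have h2 := Helper4.sum_extendByZero_mul N
    (fun x : N => if x ∈ K.subgroupOf N ∧ x ≠ 1 then F (x : G) else 0) (fun _ => (1 : ℂ))
  simp only [mul_one] at h2
  rw [← h2]
  refine Finset.sum_congr rfl fun x _ => ?_
  by_cases hx : x ∈ N
  · rw [ext_mem _ _ _ hx]
    simp only
    by_cases hc : x ∈ K ∧ x ≠ 1
    · rw [if_pos hc, if_pos ⟨Subgroup.mem_subgroupOf.mpr hc.1,
        fun h => hc.2 (congrArg Subtype.val h)⟩]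
    · rw [if_neg hc, if_neg (fun hh => hc ⟨Subgroup.mem_subgroupOf.mp hh.1,
        fun h => hh.2 (Subtype.ext h)⟩)]
  · rw [ext_not_mem _ _ _ hx, if_neg (fun hh => hx (hKN hh.1))]

open Classical in
theorem cn_local_aux (K N : Subgroup G) [Fintype N] (hKN : K ≤ N) (hlt : K < N) (hK1 : K ≠ ⊥)
    (hodd : Odd (Nat.card N)) (hnil : Group.IsNilpotent K)
    (τ : (N → ℂ) → (G → ℂ)) (T : Helper20.Tifn K N (ntSet (K.subgroupOf N)) τ)
    (h53 : (∃ χ ∈ ntSet (K.subgroupOf N), ∃ ξ ∈ ntSet (K.subgroupOf N), χ ≠ ξ) →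
      ∃ m : ℤ, ∀ χ ∈ ntSet (K.subgroupOf N), ∀ k : N, (k : G) ∈ K → k ≠ 1 →
        τ χ k - χ k = (m : ℂ) * χ 1 / ((K.subgroupOf N).index : ℂ)) :
    ∃ (e r : ℕ) (X : Finset (G → ℂ)) (t : (G → ℂ) → ℕ) (ε : ℂ) (η β : G → ℂ) (d : ℤ),
      (2 ≤ e ∧ 2 ≤ r ∧ Nat.card K = e * r + 1 ∧ N.index * e * Nat.card K = Nat.card G) ∧
      ((ε = 1 ∨ ε = -1) ∧ ∀ u ∈ X, IsIrrCharacter G (ε • u)) ∧
      (η ∈ X ∧ t η = 1 ∧ (∀ u ∈ X, 0 < t u) ∧ ∑ u ∈ X, t u ^ 2 = r ∧ ∃ u ∈ X, u ≠ η) ∧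
      (∀ u ∈ X, classInner u (fun _ => 1) = 0) ∧
      (∀ u ∈ X, ∀ g : G, (∀ y : G, y * g * y⁻¹ ∈ K → g = 1) → u g = (t u : ℂ) * η g) ∧
      (∑ x : G, (if x ∈ K ∧ x ≠ 1 then η x * conj (η x) else 0) =
        (e : ℂ) * Nat.card K - (e : ℂ) ^ 2 - 2 * d * e + (d : ℂ) ^ 2 * (Nat.card K - 1)) ∧
      (IsGeneralizedCharacter G β ∧ classInner β β = (e : ℂ) + 1 ∧
        classInner β (fun _ => 1) = 1 ∧
        β 1 = 0 ∧ (∀ x ∈ K, x ≠ 1 → β x + η x = (e : ℂ) + d) ∧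
        (∀ g : G, (∀ y : G, y * g * y⁻¹ ∈ K → g = 1) → β g = 0) ∧
        (∀ u ∈ X, classInner β u = (d : ℂ) * t u - if u = η then 1 else 0) ∧
        (∀ (f : G → ℂ) (c : ℂ), IsClassFunction G f → (∀ x ∈ K, x ≠ 1 → f x = c) →
          classInner β f = conj c)) ∧
      (∀ f : G → ℂ, IsGeneralizedCharacter G f → (∀ u ∈ X, classInner f u = 0) →
        ∃ v : ℤ, ∀ x ∈ K, x ≠ 1 → f x = v) := by
  have hMn := T.hMn
  have hfrob := ti_frob K N T.hC
  obtain ⟨M, hMdef⟩ : ∃ M, M = K.subgroupOf N := ⟨_, rfl⟩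
  rw [← hMdef] at hMn hfrob h53 T
  have hmemM : ∀ x : N, x ∈ M ↔ (x : G) ∈ K := by
    intro x
    rw [hMdef]
    exact Subgroup.mem_subgroupOf
  have hcardM : Nat.card M = Nat.card K := by
    rw [hMdef]
    exact Nat.card_congr (Subgroup.subgroupOfEquivOfLe hKN).toEquiv
  have hidx := frob_index_dvd M hfrob
  have hidx1 : M.index ≠ 1 := by
    intro h
    rw [Subgroup.index_eq_one, hMdef, Subgroup.subgroupOf_eq_top] at h
    exact (lt_irrefl _ (lt_of_lt_of_le hlt h))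
  have hidx0 : M.index ≠ 0 := Subgroup.index_ne_zero_of_finite
  obtain ⟨e, hedef⟩ : ∃ e, e = M.index := ⟨_, rfl⟩
  rw [← hedef] at hidx hidx1 hidx0
  obtain ⟨r, hr⟩ := hidx
  have hKpos : 0 < Nat.card K := Nat.card_pos
  have hKcard1 : Nat.card K ≠ 1 := fun h => hK1 (Subgroup.card_eq_one.mp h)
  have hKcard : Nat.card K = e * r + 1 := by
    rw [hcardM] at hr
    omega
  have hNcard : Nat.card N = Nat.card K * e := by
    rw [← hcardM, hedef, Subgroup.card_mul_index]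
  have he2 : 2 ≤ e := by omega
  have hodde : Odd e := by
    apply Odd.of_dvd_nat hodd
    rw [hNcard]
    exact dvd_mul_left _ _
  have hoddK : Odd (Nat.card K) := by
    apply Odd.of_dvd_nat hodd
    rw [hNcard]
    exact dvd_mul_right _ _
  have hr2 : 2 ≤ r := by
    have h1 : Even (e * r) := by
      rw [hKcard] at hoddK
      rcases Nat.even_or_odd (e * r) with h | h
      · exact h
      · exact absurd (h.add_one) (Nat.not_even_iff_odd.mpr hoddK)
    have h2 : Even r := by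
      rcases Nat.even_mul.mp h1 with h | h
      · exact absurd h (Nat.not_even_iff_odd.mpr hodde)
      · exact h
    have h3 : r ≠ 0 := by
      rintro rfl
      rw [mul_zero] at hKcard
      exact hKcard1 hKcard
    obtain ⟨c, hc⟩ := h2
    omega
  have hGcard : N.index * e * Nat.card K = Nat.card G := by
    rw [← Subgroup.card_mul_index N, hNcard]
    ring
  have he0 : (e : ℂ) ≠ 0 := Nat.cast_ne_zero.mpr (by omega)
  -- degrees
  obtain ⟨tN, htNdef⟩ : ∃ tN : (N → ℂ) → ℕ, tN = fun ξ => charDegree ξ / e := ⟨_, rfl⟩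
  have htN : ∀ ξ ∈ ntSet M, 0 < tN ξ ∧ charDegree ξ = e * tN ξ ∧ ξ 1 = ((e * tN ξ : ℕ) : ℂ) := by
    intro ξ hξ
    let _ : Fintype M := Fintype.ofFinite _
    obtain ⟨t, ht0, hdeg, -, -⟩ := frob_irr_deg M hfrob hξ.1 hξ.2 ⊥ bot_le (by
      intro z hz k _
      rw [Subgroup.mem_bot] at hz
      rw [hz, one_mul, mul_one])
    rw [← hedef] at hdeg
    have h1 : tN ξ = t := by
      rw [htNdef]
      simp only
      rw [hdeg, Nat.mul_div_cancel_left _ (by omega)]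
    rw [h1]
    refine ⟨ht0, hdeg, ?_⟩
    rw [← hdeg]
    exact (Helper83.irr_degree hξ.1).2
  have hsumt : ∑ f ∈ ntFin M, tN f ^ 2 = r := by
    have hsq := sum_sq_ntFin M
    rw [← hedef, hNcard, hKcard] at hsq
    have h1 : ∑ f ∈ ntFin M, charDegree f ^ 2 = e ^ 2 * ∑ f ∈ ntFin M, tN f ^ 2 := by
      rw [Finset.mul_sum]
      refine Finset.sum_congr rfl fun f hf => ?_
      rw [(htN f (mem_ntFin.mp hf)).2.1]
      ring
    rw [h1] at hsq
    have h2 : e ^ 2 * ∑ f ∈ ntFin M, tN f ^ 2 = e ^ 2 * r := by nlinarith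
    exact Nat.eq_of_mul_eq_mul_left (by positivity) h2
  -- the character ζ of degree e
  have hnilM : Group.IsNilpotent M := by
    rw [hMdef]
    exact Group.nilpotent_of_mulEquiv (Subgroup.subgroupOfEquivOfLe hKN).symm
  have hsolv : Group.IsSolvable M := inferInstance
  have hMbot : (⊥ : Subgroup N) < M := by
    rw [bot_lt_iff_ne_bot]
    intro h
    apply hKcard1
    rw [← hcardM, h, Subgroup.card_bot]
  obtain ⟨θ, hθ, hθ1, -, hθdeg⟩ := S1519.exists_linear M hsolv ⊥ hMbot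
  obtain ⟨ζ, hζdef⟩ : ∃ ζ, ζ = indFun M θ := ⟨_, rfl⟩
  have hζS : ζ ∈ ntSet M := by
    rw [← induced_eq_ntSet M hfrob, hζdef]
    refine ⟨θ, hθ, hθ1, ?_, rfl⟩
    intro a ha
    rw [Subgroup.mem_bot] at ha
    have : a = 1 := Subtype.ext ha
    rw [this]
  have hζ1 : ζ 1 = (M.index : ℂ) := by
    rw [hζdef, indFun_one_eq, hθdeg, mul_one]
  have hζ1' : ζ 1 = ((e : ℕ) : ℂ) := by rw [hζ1, hedef]
  have htζ : tN ζ = 1 := by
    have h1 := (htN ζ hζS).2.2
    rw [hζ1'] at h1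
    have h2 : e = e * tN ζ := by exact_mod_cast h1
    have h3 : e * 1 = e * tN ζ := by rw [mul_one]; exact h2
    exact (Nat.eq_of_mul_eq_mul_left (by omega) h3).symm
  have hvan : ∀ x : N, x ∉ M → ζ x = 0 := by
    intro x hx
    exact T.vanish ζ hζS x (fun h => hx ((hmemM x).mpr h))
  have hcζ := ntSet_conj hodd hζS
  have htwo : ∃ χ ∈ ntSet M, ∃ ξ ∈ ntSet M, χ ≠ ξ := ⟨_, hcζ.1, ζ, hζS, hcζ.2⟩
  obtain ⟨m, hm⟩ := h53 htwo
  rw [← hedef] at hm
  have hval : ∀ ξ ∈ ntSet M, ∀ k : N, k ∈ M → k ≠ 1 → τ ξ (k : G) = ξ k + (m : ℂ) * tN ξ := by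
    intro ξ hξ k hk hk1
    have h1 := hm ξ hξ k ((hmemM k).mp hk) hk1
    rw [(htN ξ hξ).2.2] at h1
    push_cast at h1
    have h2 : (m : ℂ) * ((e : ℂ) * (tN ξ : ℂ)) / (e : ℂ) = (m : ℂ) * tN ξ := by
      field_simp
    rw [h2] at h1
    linear_combination h1
  have h0 : ∀ α ∈ zspan (ntSet M), α 1 = 0 → τ α 1 = 0 := by
    intro α hα hα1
    rw [T.hext α (Helper36.mem_zspanOn_compl_one.mpr ⟨hα, hα1⟩), indFun_one_eq, hα1, mul_zero]
  obtain ⟨ε, hε, hεirr, hinj⟩ := S1529.result N (ntSet M) (fun χ h => h.1) htwo τ T.hstar h0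
  have hε0 : ε ≠ 0 := by
    rcases hε with h | h <;> rw [h] <;> norm_num
  have hεc : conj ε = ε := by
    rcases hε with h | h <;> rw [h] <;> simp
  -- the data on G
  obtain ⟨X, hXdef⟩ : ∃ X : Finset (G → ℂ), X = (ntFin M).image τ := ⟨_, rfl⟩
  have hXmem : ∀ u, u ∈ X ↔ ∃ ξ ∈ ntSet M, τ ξ = u := by
    intro u
    rw [hXdef, Finset.mem_image]
    constructor
    · rintro ⟨ξ, hξ, h⟩
      exact ⟨ξ, mem_ntFin.mp hξ, h⟩
    · rintro ⟨ξ, hξ, h⟩
      exact ⟨ξ, mem_ntFin.mpr hξ, h⟩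
  obtain ⟨tG, htGdef⟩ : ∃ tG : (G → ℂ) → ℕ, tG = fun u =>
      if h : ∃ ξ ∈ ntSet M, τ ξ = u then tN (Classical.choose h) else 0 := ⟨_, rfl⟩
  have htG : ∀ ξ ∈ ntSet M, tG (τ ξ) = tN ξ := by
    intro ξ hξ
    have hex : ∃ ξ' ∈ ntSet M, τ ξ' = τ ξ := ⟨ξ, hξ, rfl⟩
    rw [htGdef]
    simp only
    rw [dif_pos hex]
    have h1 := Classical.choose_spec hex
    rw [hinj _ h1.1 ξ hξ h1.2]
  obtain ⟨ϑ, hϑdef⟩ : ∃ ϑ, ϑ = regQ M - ζ := ⟨_, rfl⟩
  have hϑvan : ∀ x : N, (x : G) ∉ K → ϑ x = 0 := by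
    intro x hx
    rw [hϑdef]
    exact cnf_vanish M hvan hζ1 x (fun h => hx ((hmemM x).mp h))
  have hϑ1 : ϑ 1 = 0 := by
    rw [hϑdef]
    exact cnf_one M hζ1
  have hϑcf : IsClassFunction N ϑ := by
    rw [hϑdef]
    exact cnf_class M hζS
  have hres : ∀ x : N, indFun N ϑ (x : G) = ϑ x := T.hind ϑ hϑcf hϑvan hϑ1
  have hβf : ∀ f : G → ℂ, IsClassFunction G f →
      classInner (indFun N ϑ) f = classInner ϑ (res N f) :=
    fun f hf => frobenius_reciprocity N ϑ f hf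
  obtain ⟨k₀, hk₀K, hk₀1⟩ : ∃ k₀ : G, k₀ ∈ K ∧ k₀ ≠ 1 := by
    by_contra hcon
    push Not at hcon
    apply hK1
    rw [eq_bot_iff]
    intro k hk
    exact hcon k hk
  refine ⟨e, r, X, tG, ε, τ ζ, indFun N ϑ, m, ⟨he2, hr2, hKcard, hGcard⟩, ⟨hε, ?_⟩,
    ⟨?_, ?_, ?_, ?_, ?_⟩, ?_, ?_, ?_, ⟨?_, ?_, ?_, ?_, ?_, ?_, ?_, ?_⟩, ?_⟩
  · -- irreducibility
    intro u hu
    obtain ⟨ξ, hξ, rfl⟩ := (hXmem u).mp hu
    exact hεirr ξ hξ
  · exact (hXmem _).mpr ⟨ζ, hζS, rfl⟩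
  · rw [htG ζ hζS, htζ]
  · intro u hu
    obtain ⟨ξ, hξ, rfl⟩ := (hXmem u).mp hu
    rw [htG ξ hξ]
    exact (htN ξ hξ).1
  · rw [hXdef, Finset.sum_image (fun a ha b hb h => hinj a (mem_ntFin.mp ha) b (mem_ntFin.mp hb) h),
      ← hsumt]
    refine Finset.sum_congr rfl fun f hf => ?_
    rw [htG f (mem_ntFin.mp hf)]
  · refine ⟨τ (conjFun ζ), (hXmem _).mpr ⟨_, hcζ.1, rfl⟩, ?_⟩
    intro h
    exact hcζ.2 (hinj _ hcζ.1 ζ hζS h)
  · -- orthogonality to the principal character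
    intro u hu
    obtain ⟨ξ, hξ, rfl⟩ := (hXmem u).mp hu
    obtain ⟨ξ₂, hξ₂, hne⟩ : ∃ ξ₂ ∈ ntSet M, ξ₂ ≠ ξ := by
      by_cases h : ξ = ζ
      · exact ⟨conjFun ζ, hcζ.1, h ▸ hcζ.2⟩
      · exact ⟨ζ, hζS, fun h' => h h'.symm⟩
    have h1 := (htN ξ hξ).2.2
    have h2 := (htN ξ₂ hξ₂).2.2
    have e1 := T.inner_alpha (fun _ => (1 : ℂ)) (fun _ _ => rfl) ξ ξ₂ hξ hξ₂ _ _ h1 h2
    have hone : ∀ χ ∈ ntSet M, classInner (res N (fun _ : G => (1 : ℂ))) χ = 0 := by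
      intro χ hχ
      have h3 := nt_inner_one M hχ
      have h4 : res N (fun _ : G => (1 : ℂ)) = fun _ : N => (1 : ℂ) := rfl
      rw [h4, Helper36.classInner_conj_symm χ (fun _ => (1 : ℂ)), h3, map_zero]
    rw [classInner_sub_right, Helper36.classInner_zsmul_right, Helper36.classInner_zsmul_right,
      hone ξ hξ, hone ξ₂ hξ₂, T.star_alpha ξ ξ₂ hξ hξ₂, classInner_sub_right,
      Helper36.classInner_zsmul_right, Helper36.classInner_zsmul_right] at e1
    have hA : ∀ χ ∈ ntSet M, classInner (fun _ : G => (1 : ℂ)) (τ χ) =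
        ε * (if (fun _ : G => (1 : ℂ)) = ε • τ χ then 1 else 0) := by
      intro χ hχ
      have h3 := classInner_irr' Helper4.isIrrCharacter_one (hεirr χ hχ)
      rw [classInner_smul_right, hεc] at h3
      rw [← h3, ← mul_assoc]
      rcases hε with h | h <;> rw [h] <;> ring
    rw [hA ξ hξ, hA ξ₂ hξ₂] at e1
    have hcl : classInner (τ ξ) (fun _ : G => (1 : ℂ)) = 0 := by
      rw [Helper36.classInner_conj_symm (fun _ : G => (1 : ℂ)) (τ ξ), hA ξ hξ]
      by_cases hc : (fun _ : G => (1 : ℂ)) = ε • τ ξ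
      · exfalso
        have hc2 : (fun _ : G => (1 : ℂ)) ≠ ε • τ ξ₂ := by
          intro hc2
          apply hne
          apply hinj ξ₂ hξ₂ ξ hξ
          have h5 : ε • τ ξ₂ = ε • τ ξ := hc2.symm.trans hc
          have h6 := congrArg (fun f => ε⁻¹ • f) h5
          simpa [smul_smul, inv_mul_cancel₀ hε0] using h6
        rw [if_pos hc, if_neg hc2] at e1
        have hpos := (htN ξ₂ hξ₂).1
        have h7 : ((e * tN ξ₂ : ℕ) : ℂ) ≠ 0 := by
          apply Nat.cast_ne_zero.mpr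
          have : 0 < e * tN ξ₂ := Nat.mul_pos (by omega) hpos
          omega
        apply h7
        have h8 : ((e * tN ξ₂ : ℕ) : ℂ) * ε = 0 := by
          push_cast at e1 ⊢
          linear_combination -e1
        rcases mul_eq_zero.mp h8 with h9 | h9
        · exact h9
        · exact absurd h9 hε0
      · rw [if_neg hc, mul_zero, map_zero]
    exact hcl
  · -- proportionality off the conjugates of K
    intro u hu g hg
    obtain ⟨ξ, hξ, rfl⟩ := (hXmem u).mp hu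
    have h1 := tifn_star_supp T ξ ζ hξ hζS _ _ (htN ξ hξ).2.2 hζ1' g hg
    rw [htG ξ hξ]
    push_cast at h1
    have h2 : (e : ℂ) * (τ ξ g - (tN ξ : ℂ) * τ ζ g) = 0 := by linear_combination h1
    rcases mul_eq_zero.mp h2 with h3 | h3
    · exact absurd h3 he0
    · linear_combination h3
  · -- the norm sum
    rw [sum_K_eq_sum_N K N hKN, ← hMdef]
    have h1 : ∀ x : N, (if x ∈ M ∧ x ≠ 1 then τ ζ (x : G) * conj (τ ζ (x : G)) else 0) =
        (if x ∈ M ∧ x ≠ 1 then (ζ x + m) * conj (ζ x + m) else 0) := by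
      intro x
      by_cases hc : x ∈ M ∧ x ≠ 1
      · rw [if_pos hc, if_pos hc, hval ζ hζS x hc.1 hc.2, htζ]
        simp
      · rw [if_neg hc, if_neg hc]
    simp only [h1]
    have h3 := cnf_eta_sum M hζS hvan hζ1 m
    rw [hNcard, ← hedef, hcardM] at h3
    refine Eq.trans (Finset.sum_congr rfl fun x _ => ?_) (h3.trans ?_)
    · by_cases hc : x ∈ M ∧ x ≠ 1
      · rw [if_pos hc, if_pos hc]
      · rw [if_neg hc, if_neg hc]
    · push_cast
      ring
  · rw [hϑdef]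
    exact isGenChar_indFun N (cnf_gen M hζS)
  · rw [hβf _ (isClassFunction_indFun N ϑ)]
    have h1 : res N (indFun N ϑ) = ϑ := by
      funext x
      exact hres x
    rw [h1, hϑdef, cnf_norm M hζS, hedef]
  · rw [hβf _ (fun _ _ => rfl), hϑdef]
    exact cnf_inner_one M hζS
  · have := hres 1
    rw [hϑ1] at this
    exact this
  · intro x hx hx1
    have hxN : x ∈ N := hKN hx
    have hxM : (⟨x, hxN⟩ : N) ∈ M := (hmemM _).mpr hx
    have hx1' : (⟨x, hxN⟩ : N) ≠ 1 := fun h => hx1 (congrArg Subtype.val h)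
    have h1 := hres ⟨x, hxN⟩
    have h2 := hval ζ hζS ⟨x, hxN⟩ hxM hx1'
    simp only at h1 h2
    rw [h1, h2, hϑdef, Pi.sub_apply, regQ_apply, if_pos hxM, htζ, ← hedef]
    push_cast
    ring
  · intro g hg
    exact ind_supp K N ϑ hϑvan hϑ1 g hg
  · -- inner products with the τ ξ
    intro u hu
    obtain ⟨ξ, hξ, rfl⟩ := (hXmem u).mp hu
    have hcf : IsClassFunction G (τ ξ) :=
      isClassFunction_of_gen (T.hstar.2.2.2 ξ (Helper36.subset_zspan _ hξ))
    rw [hβf _ hcf, hϑdef]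
    have h1 : classInner (regQ M - ζ) (res N (τ ξ)) =
        classInner (regQ M - ζ) (ξ + ((m : ℂ) * tN ξ) • (fun _ : N => (1 : ℂ))) := by
      apply cnf_supp M hvan hζ1
      intro x hx hx1
      rw [res_apply, hval ξ hξ x hx hx1]
      simp
    rw [h1, classInner_add_right, classInner_smul_right, cnf_inner_one M hζS,
      cnf_inner_nt M hζS hξ, htG ξ hξ]
    have h2 : (ξ = ζ) ↔ (τ ξ = τ ζ) := ⟨fun h => by rw [h], fun h => hinj ξ hξ ζ hζS h⟩
    by_cases hc : ξ = ζ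
    · rw [if_pos hc, if_pos (h2.mp hc)]
      simp
      ring
    · rw [if_neg hc, if_neg (fun h => hc (h2.mpr h))]
      simp
  · -- inner products with functions constant on K \ {1}
    intro f c hf hfc
    rw [hβf _ hf, hϑdef]
    have h1 : classInner (regQ M - ζ) (res N f) =
        classInner (regQ M - ζ) (c • (fun _ : N => (1 : ℂ))) := by
      apply cnf_supp M hvan hζ1
      intro x hx hx1
      rw [res_apply, hfc (x : G) ((hmemM x).mp hx) (fun h => hx1 (Subtype.ext h))]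
      simp
    rw [h1, classInner_smul_right, cnf_inner_one M hζS, mul_one]
  · -- generalized characters orthogonal to X
    intro f hf horth
    obtain ⟨v, hv⟩ := tifn_const_gen T f hf
      (fun χ hχ => horth (τ χ) ((hXmem _).mpr ⟨χ, hχ, rfl⟩)) ⟨k₀, hKN hk₀K⟩ hk₀K
      (fun h => hk₀1 (congrArg Subtype.val h))
    refine ⟨v, fun x hx hx1 => ?_⟩
    exact hv ⟨x, hKN hx⟩ hx (fun h => hx1 (congrArg Subtype.val h))

open Classical in
/-- the local data attached to a T.I. subgroup `K` with Frobenius normaliser in a group of odd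
order: the coherent set of characters, its image in `G`, and the generalized character `β` -/
theorem cn_local (hodd : Odd (Nat.card G)) (K : Subgroup G)
    (hTI : IsTISubset (K : Set G))
    (hC : ∀ k ∈ K, k ≠ 1 → Subgroup.centralizer ({k} : Set G) ≤ K)
    (hlt : K < Subgroup.normalizer (K : Set G)) (hK1 : K ≠ ⊥) :
    ∃ (e r : ℕ) (X : Finset (G → ℂ)) (t : (G → ℂ) → ℕ) (ε : ℂ) (η β : G → ℂ) (d : ℤ),
      (2 ≤ e ∧ 2 ≤ r ∧ Nat.card K = e * r + 1 ∧
        (Subgroup.normalizer (K : Set G)).index * e * Nat.card K = Nat.card G) ∧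
      ((ε = 1 ∨ ε = -1) ∧ ∀ u ∈ X, IsIrrCharacter G (ε • u)) ∧
      (η ∈ X ∧ t η = 1 ∧ (∀ u ∈ X, 0 < t u) ∧ ∑ u ∈ X, t u ^ 2 = r ∧ ∃ u ∈ X, u ≠ η) ∧
      (∀ u ∈ X, classInner u (fun _ => 1) = 0) ∧
      (∀ u ∈ X, ∀ g : G, (∀ y : G, y * g * y⁻¹ ∈ K → g = 1) → u g = (t u : ℂ) * η g) ∧
      (∑ x : G, (if x ∈ K ∧ x ≠ 1 then η x * conj (η x) else 0) =
        (e : ℂ) * Nat.card K - (e : ℂ) ^ 2 - 2 * d * e + (d : ℂ) ^ 2 * (Nat.card K - 1)) ∧
      (IsGeneralizedCharacter G β ∧ classInner β β = (e : ℂ) + 1 ∧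
        classInner β (fun _ => 1) = 1 ∧
        β 1 = 0 ∧ (∀ x ∈ K, x ≠ 1 → β x + η x = (e : ℂ) + d) ∧
        (∀ g : G, (∀ y : G, y * g * y⁻¹ ∈ K → g = 1) → β g = 0) ∧
        (∀ u ∈ X, classInner β u = (d : ℂ) * t u - if u = η then 1 else 0) ∧
        (∀ (f : G → ℂ) (c : ℂ), IsClassFunction G f → (∀ x ∈ K, x ≠ 1 → f x = c) →
          classInner β f = conj c)) ∧
      (∀ f : G → ℂ, IsGeneralizedCharacter G f → (∀ u ∈ X, classInner f u = 0) →
        ∃ v : ℤ, ∀ x ∈ K, x ≠ 1 → f x = v) := by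
  let _ : Fintype ↥(Subgroup.normalizer (K : Set G)) := Fintype.ofFinite _
  have hKN : K ≤ Subgroup.normalizer (K : Set G) := Subgroup.le_normalizer
  have hnil := ti_frob_nilpotent K hC hlt hK1
  have hoddN : Odd (Nat.card ↥(Subgroup.normalizer (K : Set G))) :=
    hodd.of_dvd_nat (Subgroup.card_subgroup_dvd_card _)
  obtain ⟨-, τ, hτ, hext⟩ := ti_nil_coherent K hTI hC hnil hK1 hoddN
  have hS : ntSet (K.subgroupOf (Subgroup.normalizer (K : Set G))) =
      {χ : ↥(Subgroup.normalizer (K : Set G)) → ℂ |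
        IsIrrCharacter ↥(Subgroup.normalizer (K : Set G)) χ ∧
          ∃ k : ↥(Subgroup.normalizer (K : Set G)), (k : G) ∈ K ∧ χ k ≠ χ 1} := by
    ext χ
    exact (Helper20.tifn_mem_iff K _ χ).symm
  have T : Helper20.Tifn K (Subgroup.normalizer (K : Set G))
      (ntSet (K.subgroupOf (Subgroup.normalizer (K : Set G)))) τ :=
    { hMn := Subgroup.normal_in_normalizer
      hC := hC
      hind := (S0850.result K hTI hlt hC).2
      hS := hS
      hstar := hτ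
      hext := fun α hα => hext α hα }
  exact cn_local_aux K _ hKN hlt hK1 hoddN hnil τ T
    (fun htwo => S0853.result K hTI hlt hC _ hS htwo τ hτ (fun α hα => hext α hα))

end CnLocal

end Cfsg.Agent.Lib.Helper35
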