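import Cfsg.Agent.Lib.Helper70.D11Defs

set_option autoImplicit false

/-!
# S0679, piece RED (for helper70): reduction to involutions fixing the point `0`
-/

namespace Cfsg.Agent.Lib.Helper35.D11

open Equiv Cfsg.Agent.Lib.Helper70.D11

theorem c0_pow_eleven : c0 ^ 11 = 1 := by
  ext y
  revert y
  decide

theorem exists_pow_zero : ∀ x0 : Fin 11, ∃ k : ℕ, k < 11 ∧ (c0 ^ k) x0 = 0 := by
  decide

theorem conj_pow_mem (I : Set P11) (hI : ∀ s ∈ I, c0 * s * c0⁻¹ ∈ I) (j : ℕ) :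
    ∀ s ∈ I, c0 ^ j * s * (c0 ^ j)⁻¹ ∈ I := by
  induction j with
  | zero => intro s hs; simpa using hs
  | succ n ih =>
    intro s hs
    have h1 := hI _ (ih s hs)
    have e : c0 ^ (n + 1) * s * (c0 ^ (n + 1))⁻¹ = c0 * (c0 ^ n * s * (c0 ^ n)⁻¹) * c0⁻¹ := by
      rw [pow_succ']
      group
    rw [e]
    exact h1

theorem red_fix0 (I1 I2 : Set P11)
    (hI1 : ∀ s ∈ I1, c0 * s * c0⁻¹ ∈ I1) (hI2 : ∀ s ∈ I2, c0 * s * c0⁻¹ ∈ I2)
    (h : ∀ t : P11, t * t = 1 → Perm.sign t = 1 → t 0 = 0 →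
      t = 1 ∨ (∃ g ∈ Subgroup.closure ({c0, m3, t} : Set P11), JW g) ∨ t ∈ I1 ∨ t ∈ I2)
    (t : P11) (ht : t * t = 1) (hs : Perm.sign t = 1) :
    t = 1 ∨ (∃ g ∈ Subgroup.closure ({c0, m3, t} : Set P11), JW g) ∨ t ∈ I1 ∨ t ∈ I2 := by
  -- a fixed point of `t`
  have : Fact (Nat.Prime 2) := ⟨Nat.prime_two⟩
  obtain ⟨x0, hx0⟩ : ∃ a : Fin 11, t a = a := by
    apply Equiv.Perm.exists_fixed_point_of_prime (p := 2) (n := 1)
    · simp
    · rw [pow_one, pow_two]; exact ht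
  obtain ⟨k, -, hkx⟩ := exists_pow_zero x0
  have hkinv : (c0 ^ k)⁻¹ 0 = x0 := by
    rw [Perm.inv_eq_iff_eq]
    exact hkx.symm
  set s : P11 := c0 ^ k * t * (c0 ^ k)⁻¹ with hsdef
  have hs0 : s 0 = 0 := by
    rw [hsdef, Perm.mul_apply, Perm.mul_apply, hkinv, hx0, hkx]
  have hss : s * s = 1 := by
    rw [hsdef]
    have : c0 ^ k * t * (c0 ^ k)⁻¹ * (c0 ^ k * t * (c0 ^ k)⁻¹) = c0 ^ k * (t * t) * (c0 ^ k)⁻¹ := by
      group
    rw [this, ht]
    group
  have hsign : Perm.sign s = 1 := by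
    rw [hsdef]
    simp [Perm.sign_mul, hs]
  have hts : t = c0 ^ (10 * k) * s * (c0 ^ (10 * k))⁻¹ := by
    have e1 : c0 ^ (10 * k) * c0 ^ k = 1 := by
      rw [← pow_add]
      have : 10 * k + k = 11 * k := by ring
      rw [this, pow_mul, c0_pow_eleven, one_pow]
    have e2 : c0 ^ (10 * k) = (c0 ^ k)⁻¹ := eq_inv_of_mul_eq_one_left e1
    rw [e2, hsdef]
    group
  have hc0 : c0 ∈ Subgroup.closure ({c0, m3, t} : Set P11) :=
    Subgroup.subset_closure (by simp)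
  have hm3 : m3 ∈ Subgroup.closure ({c0, m3, t} : Set P11) :=
    Subgroup.subset_closure (by simp)
  have htm : t ∈ Subgroup.closure ({c0, m3, t} : Set P11) :=
    Subgroup.subset_closure (by simp)
  have hsm : s ∈ Subgroup.closure ({c0, m3, t} : Set P11) := by
    rw [hsdef]
    exact Subgroup.mul_mem _ (Subgroup.mul_mem _ (Subgroup.pow_mem _ hc0 _) htm)
      (Subgroup.inv_mem _ (Subgroup.pow_mem _ hc0 _))
  rcases h s hss hsign hs0 with h1 | ⟨g, hg, hJ⟩ | h1 | h1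
  · left
    rw [hts, h1]
    group
  · right; left
    refine ⟨g, ?_, hJ⟩
    have hle : Subgroup.closure ({c0, m3, s} : Set P11) ≤ Subgroup.closure ({c0, m3, t} : Set P11) := by
      rw [Subgroup.closure_le]
      intro x hx
      simp only [Set.mem_insert_iff, Set.mem_singleton_iff] at hx
      rcases hx with rfl | rfl | rfl
      · exact hc0
      · exact hm3
      · exact hsm
    exact hle hg
  · right; right; left
    rw [hts]
    exact conj_pow_mem I1 hI1 _ s h1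
  · right; right; right
    rw [hts]
    exact conj_pow_mem I2 hI2 _ s h1

end Cfsg.Agent.Lib.Helper35.D11
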