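import Mathlib
import Cfsg.Agent.Lib.Helper92.FT12Defs
import Cfsg.Agent.Lib.Helper3.BG12f

/-!
# S1421 (B&G Theorem 12.12), piece TAU (helper35)
-/

set_option autoImplicit false

namespace Cfsg.Agent.Lib.Helper35.FT12

universe u

open Cfsg Cfsg.Agent.Lib.Helper92.FT

/-- TAU: the primes of `E`; the subgroups `A_p`; fixed-point elements are `τ₂`-elements. -/
theorem tau : TauStmt.{u} := by
  intro G _ _ hG M E hM hE
  have hcard : Nat.card M = Nat.card E * Nat.card (sigmaCore M) :=
    Cfsg.Agent.Lib.Helper8.BG10.q12c_card_of_complIn hE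
  have h1 : ∀ r : ℕ, r.Prime → r ∣ Nat.card E → r ∈ tau1 M ∪ tau3 M ∨ r ∈ tau2 M := by
    intro r hr hrE
    have hns : r ∉ sigma M :=
      Cfsg.Agent.Lib.Helper3.BG12T.not_mem_sigma_of_dvd_compl hG hM hE hr hrE
    have hrM : r ∣ Nat.card M := by rw [hcard]; exact Dvd.dvd.mul_right hrE _
    have h2 : PRankLE r 2 M := by
      by_contra h
      exact hns (Cfsg.Agent.Lib.Helper32.BG10.alpha_sub_sigma hG
        (Cfsg.Agent.Lib.Helper32.BG10.ut_of hG) hM ⟨hr, h⟩)
    by_cases h1 : PRankLE r 1 M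
    · left
      by_cases hd : r ∣ Nat.card ↥⁅M, M⁆
      · right; exact ⟨hr, hns, hd, h1⟩
      · left; exact ⟨hr, hns, hrM, hd, h1⟩
    · right; exact ⟨hr, hns, h2, h1⟩
  refine ⟨h1, ?_, ?_⟩
  · intro p hp
    have : Fact p.Prime := ⟨hp.1⟩
    obtain ⟨A, hAE, hA, hA2⟩ := Cfsg.Agent.Lib.Helper3.BG12T.exists_tau2_elemAb hG hM hE hp
    exact ⟨A, ⟨hp, hAE, hA, hA2⟩⟩
  · intro h e heE hfix r hr hre
    by_contra hr2
    have hepos : 0 < orderOf e := orderOf_pos e
    have hord : orderOf (e ^ (orderOf e / r)) = r := orderOf_pow_orderOf_div hepos.ne' hre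
    have he'E : e ^ (orderOf e / r) ∈ E := E.pow_mem heE _
    have he'1 : e ^ (orderOf e / r) ≠ 1 := by
      intro h1'
      rw [h1', orderOf_one] at hord
      exact hr.one_lt.ne hord
    have hcent : Subgroup.centralizer ({e} : Set G) ≤
        Subgroup.centralizer ({e ^ (orderOf e / r)} : Set G) := by
      intro x hx
      rw [Subgroup.mem_centralizer_iff] at hx ⊢
      intro y hy
      rw [Set.mem_singleton_iff] at hy
      rw [hy]
      have h2 : Commute e x := hx e rfl
      exact h2.pow_left _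
    have hrE : r ∣ Nat.card E := hre.trans (Subgroup.orderOf_dvd_natCard E heE)
    have hbot := h _ he'E he'1 (fun p hp hpe => by
      rw [hord] at hpe
      have hpr : p = r := (Nat.prime_dvd_prime_iff_eq hp hr).mp hpe
      rw [hpr]
      rcases h1 r hr hrE with h3 | h3
      · exact h3
      · exact absurd h3 hr2)
    apply hfix
    rw [eq_bot_iff] at hbot ⊢
    exact (inf_le_inf_left _ hcent).trans hbot

end Cfsg.Agent.Lib.Helper35.FT12
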