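import Cfsg.Agent.Lib.Helper35.FrobS
import Cfsg.Agent.S1514
import Cfsg.Agent.S1517
import Cfsg.Agent.S1529
import Cfsg.Agent.S1530
import Cfsg.Agent.S1531
import Mathlib

set_option autoImplicit false
open Cfsg

namespace Cfsg.Agent.Lib.Helper35

open Cfsg.Agent.Lib
open scoped ComplexConjugate

section Coh

variable {L : Type*} [Group L] [Fintype L] {G : Type*} [Group G] [Fintype G]

theorem isoOn_mono {E F : Set (L → ℂ)} {τ : (L → ℂ) → (G → ℂ)} (h : E ⊆ F)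
    (hF : IsLinearIsometryOn F τ) : IsLinearIsometryOn E τ :=
  ⟨fun a ha b hb => hF.1 a (h ha) b (h hb), fun a ha n => hF.2.1 a (h ha) n,
    fun a ha b hb => hF.2.2.1 a (h ha) b (h hb), fun a ha => hF.2.2.2 a (h ha)⟩

/-- a set of irreducible characters of the same degree, closed under conjugation and without
real members, is coherent -/
theorem uniform_coherent (T : Set (L → ℂ)) (hT : T.Nonempty)
    (hirr : ∀ χ ∈ T, IsIrrCharacter L χ)
    (hconj : ∀ χ ∈ T, conjFun χ ∈ T ∧ conjFun χ ≠ χ) (τ : (L → ℂ) → (G → ℂ))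
    (hτ : IsLinearIsometryOn (zspanOn T {1}ᶜ) τ) (hτ1 : ∀ α ∈ zspanOn T {1}ᶜ, τ α 1 = 0)
    (hdeg : ∀ φ ∈ T, ∀ ψ ∈ T, φ 1 = ψ 1) : IsCoherent T {1}ᶜ τ := by
  obtain ⟨R, hR⟩ := S1514.result T hT hirr hconj τ hτ hτ1
  exact S1517.result T τ R hR hdeg

end Coh

section Ext

variable {G : Type*} [Group G] [Fintype G] (N : Subgroup G) [Fintype N]

/-- the extension principle: a coherent subset can be enlarged to the whole set as long as
Feit's criterion applies at each stage -/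
theorem extend_max (X C₀ : Finset (N → ℂ)) (hC₀X : C₀ ⊆ X)
    (hirr : ∀ ξ ∈ X, IsIrrCharacter N ξ) (τ : (N → ℂ) → (G → ℂ))
    (hτ : IsLinearIsometryOn (zspanOn (↑X : Set (N → ℂ)) {1}ᶜ) τ)
    (hτ1 : ∀ α ∈ zspanOn (↑X : Set (N → ℂ)) {1}ᶜ, τ α 1 = 0)
    (hC₀ : IsCoherent (↑C₀ : Set (N → ℂ)) {1}ᶜ τ)
    (hstep : ∀ C : Finset (N → ℂ), C₀ ⊆ C → C ⊆ X → C ≠ X →
      IsCoherent (↑C : Set (N → ℂ)) {1}ᶜ τ →
      ∃ χ ∈ X, χ ∉ C ∧ ∃ ψ ∈ C, charDegree ψ ∣ charDegree χ ∧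
        2 * charDegree ψ * charDegree χ < ∑ ξ ∈ C, charDegree ξ ^ 2) :
    IsCoherent (↑X : Set (N → ℂ)) {1}ᶜ τ := by
  classical
  obtain ⟨C, hC, hmax⟩ := Finset.exists_max_image
    (X.powerset.filter (fun C => C₀ ⊆ C ∧ IsCoherent (↑C : Set (N → ℂ)) {1}ᶜ τ))
    Finset.card ⟨C₀, by
      rw [Finset.mem_filter, Finset.mem_powerset]
      exact ⟨hC₀X, Finset.Subset.refl _, hC₀⟩⟩
  rw [Finset.mem_filter, Finset.mem_powerset] at hC
  obtain ⟨hCX, hC₀C, hCcoh⟩ := hC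
  by_cases hCeq : C = X
  · rw [← hCeq]
    exact hCcoh
  exfalso
  obtain ⟨χ, hχX, hχC, ψ, hψC, hdvd, hlt⟩ := hstep C hC₀C hCX hCeq hCcoh
  have hins : insert χ C ⊆ X := Finset.insert_subset hχX hCX
  have hsub : (↑(insert χ C) : Set (N → ℂ)) ⊆ ↑X := Finset.coe_subset.mpr hins
  have hcoh' := S1530.result N C χ (fun ξ hξ => hirr ξ (hCX hξ)) (hirr χ hχX) hχC charDegree
    (fun ξ hξ => (Helper83.irr_degree (hirr ξ (hins hξ))).2) τ
    (isoOn_mono (Helper36.zspanOn_mono hsub _) hτ)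
    (fun α hα => hτ1 α (Helper36.zspanOn_mono hsub _ hα)) hCcoh ψ hψC hdvd hlt
  have h1 := hmax (insert χ C) (by
    rw [Finset.mem_filter, Finset.mem_powerset]
    exact ⟨hins, hC₀C.trans (Finset.subset_insert _ _), hcoh'⟩)
  rw [Finset.card_insert_of_notMem hχC] at h1
  omega

end Ext

theorem even_sum_of_conj {ι : Type*} [DecidableEq ι] (F : Finset ι) (c : ι → ι) (f : ι → ℕ)
    (hc : ∀ x ∈ F, c x ∈ F ∧ c x ≠ x ∧ c (c x) = x ∧ f (c x) = f x) : 2 ∣ ∑ x ∈ F, f x := by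
  rw [← ZMod.natCast_eq_zero_iff, Nat.cast_sum]
  refine Finset.sum_involution (fun x _ => c x) ?_ ?_ ?_ ?_
  · intro x hx
    rw [(hc x hx).2.2.2]
    exact CharTwo.add_self_eq_zero _
  · intro x hx _
    exact (hc x hx).2.1
  · intro x hx
    exact (hc x hx).1
  · intro x hx
    exact (hc x hx).2.2.1

section XCoh

variable {G : Type*} [Group G] [Fintype G] (N : Subgroup G) [Fintype N]

/-- the arithmetic core of the coherence of the characters of a Frobenius group with kernel a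
`p`-group that are non-trivial on a central subgroup -/
theorem xcoh_arith (X : Finset (N → ℂ)) (hne : X.Nonempty) (hirr : ∀ ξ ∈ X, IsIrrCharacter N ξ)
    (hconj : ∀ χ ∈ X, conjFun χ ∈ X ∧ conjFun χ ≠ χ)
    (τ : (N → ℂ) → (G → ℂ))
    (hτ : IsLinearIsometryOn (zspanOn (↑X : Set (N → ℂ)) {1}ᶜ) τ)
    (hτ1 : ∀ α ∈ zspanOn (↑X : Set (N → ℂ)) {1}ᶜ, τ α 1 = 0)
    (p e q r : ℕ) (hp : p.Prime) (hp2 : p ≠ 2) (he : 0 < e) (hep : Nat.Coprime e p)
    (hdeg : ∀ χ ∈ X, ∃ a : ℕ, charDegree χ = e * p ^ a ∧ (p ^ a) ^ 2 ∣ q)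
    (hsum : ∑ χ ∈ X, charDegree χ ^ 2 = e * (q * r)) :
    IsCoherent (↑X : Set (N → ℂ)) {1}ᶜ τ := by
  classical
  choose! a ha using hdeg
  obtain ⟨χ₁, hχ₁, hmin⟩ := Finset.exists_min_image X a hne
  have hp1 : 1 < p := hp.one_lt
  have hainj : ∀ χ ∈ X, ∀ ψ ∈ X, charDegree χ = charDegree ψ → a χ = a ψ := by
    intro χ hχ ψ hψ h
    rw [(ha χ hχ).1, (ha ψ hψ).1] at h
    exact Nat.pow_right_injective hp.two_le (Nat.eq_of_mul_eq_mul_left he h)
  have haconj : ∀ χ ∈ X, a (conjFun χ) = a χ := fun χ hχ =>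
    hainj _ (hconj χ hχ).1 _ hχ (charDegree_conjFun (hirr χ hχ))
  -- the seed
  have hC₀ : IsCoherent (↑(X.filter (fun χ => a χ = a χ₁)) : Set (N → ℂ)) {1}ᶜ τ := by
    have hsub : (↑(X.filter (fun χ => a χ = a χ₁)) : Set (N → ℂ)) ⊆ ↑X :=
      Finset.coe_subset.mpr (Finset.filter_subset _ _)
    refine uniform_coherent _ ⟨χ₁, by simp [hχ₁]⟩ (fun χ hχ => hirr χ (hsub hχ)) ?_ τ
      (isoOn_mono (Helper36.zspanOn_mono hsub _) hτ)
      (fun α hα => hτ1 α (Helper36.zspanOn_mono hsub _ hα)) ?_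
    · intro χ hχ
      rw [Finset.mem_coe, Finset.mem_filter] at hχ ⊢
      exact ⟨⟨(hconj χ hχ.1).1, by rw [haconj χ hχ.1]; exact hχ.2⟩, (hconj χ hχ.1).2⟩
    · intro φ hφ ψ hψ
      rw [Finset.mem_coe, Finset.mem_filter] at hφ hψ
      rw [(Helper83.irr_degree (hirr φ hφ.1)).2, (Helper83.irr_degree (hirr ψ hψ.1)).2,
        (ha φ hφ.1).1, (ha ψ hψ.1).1, hφ.2, hψ.2]
  refine extend_max N X _ (Finset.filter_subset _ _) hirr τ hτ hτ1 hC₀ ?_
  intro C hC₀C hCX hCne hCcoh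
  -- a member of `X \ C` of smallest degree
  have hne' : (X \ C).Nonempty := by
    rw [Finset.nonempty_iff_ne_empty]
    intro h
    exact hCne (Finset.Subset.antisymm hCX (Finset.sdiff_eq_empty_iff_subset.mp h))
  obtain ⟨χ, hχ, hχmin⟩ := Finset.exists_min_image (X \ C) a hne'
  rw [Finset.mem_sdiff] at hχ
  have hχ₁C : χ₁ ∈ C := hC₀C (by simp [hχ₁])
  refine ⟨χ, hχ.1, hχ.2, χ₁, hχ₁C, ?_, ?_⟩
  · rw [(ha χ₁ hχ₁).1, (ha χ hχ.1).1]
    exact Nat.mul_dvd_mul_left e (pow_dvd_pow p (hmin χ hχ.1))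
  · -- the inequality
    have hlt : a χ₁ < a χ := by
      rcases (hmin χ hχ.1).lt_or_eq with h | h
      · exact h
      · exfalso
        exact hχ.2 (hC₀C (by simp [hχ.1, h]))
    obtain ⟨T, hT⟩ : ∃ T : ℕ, T = p ^ a χ := ⟨_, rfl⟩
    obtain ⟨F, hF⟩ : ∃ F : Finset (N → ℂ), F = X.filter (fun ξ => a ξ < a χ) := ⟨_, rfl⟩
    have hFC : F ⊆ C := by
      intro ξ hξ
      rw [hF, Finset.mem_filter] at hξ
      by_contra hξC
      have := hχmin ξ (Finset.mem_sdiff.mpr ⟨hξ.1, hξC⟩)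
      omega
    have hsumF : ∑ ξ ∈ F, charDegree ξ ^ 2 = e ^ 2 * ∑ ξ ∈ F, (p ^ a ξ) ^ 2 := by
      rw [Finset.mul_sum]
      refine Finset.sum_congr rfl fun ξ hξ => ?_
      rw [hF, Finset.mem_filter] at hξ
      rw [(ha ξ hξ.1).1]
      ring
    have hsumX : e * ∑ ξ ∈ X, (p ^ a ξ) ^ 2 = q * r := by
      have h1 : ∑ ξ ∈ X, charDegree ξ ^ 2 = e ^ 2 * ∑ ξ ∈ X, (p ^ a ξ) ^ 2 := by
        rw [Finset.mul_sum]
        refine Finset.sum_congr rfl fun ξ hξ => ?_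
        rw [(ha ξ hξ).1]
        ring
      rw [h1] at hsum
      have h2 : e * (e * ∑ ξ ∈ X, (p ^ a ξ) ^ 2) = e * (q * r) := by
        rw [← hsum]
        ring
      exact Nat.eq_of_mul_eq_mul_left he h2
    have hsplit : ∑ ξ ∈ X, (p ^ a ξ) ^ 2 = ∑ ξ ∈ F, (p ^ a ξ) ^ 2 +
        ∑ ξ ∈ X.filter (fun ξ => ¬ a ξ < a χ), (p ^ a ξ) ^ 2 := by
      rw [hF, Finset.sum_filter_add_sum_filter_not]
    have hd2 : T ^ 2 ∣ ∑ ξ ∈ X.filter (fun ξ => ¬ a ξ < a χ), (p ^ a ξ) ^ 2 := by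
      apply Finset.dvd_sum
      intro ξ hξ
      rw [Finset.mem_filter] at hξ
      rw [hT]
      exact pow_dvd_pow_of_dvd (pow_dvd_pow p (by omega)) 2
    have hcop : Nat.Coprime (T ^ 2) e := by
      rw [hT, ← pow_mul]
      exact Nat.Coprime.pow_left _ hep.symm
    have hd1 : T ^ 2 ∣ ∑ ξ ∈ X, (p ^ a ξ) ^ 2 := by
      have h3 : T ^ 2 ∣ e * ∑ ξ ∈ X, (p ^ a ξ) ^ 2 := by
        rw [hsumX, hT]
        exact Dvd.dvd.mul_right (ha χ hχ.1).2 r
      exact hcop.dvd_of_dvd_mul_left h3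
    have hdF : T ^ 2 ∣ ∑ ξ ∈ F, (p ^ a ξ) ^ 2 := by
      rw [hsplit] at hd1
      exact (Nat.dvd_add_left hd2).mp hd1
    have h2F : 2 ∣ ∑ ξ ∈ F, (p ^ a ξ) ^ 2 := by
      apply even_sum_of_conj F conjFun
      intro ξ hξ
      rw [hF, Finset.mem_filter] at hξ ⊢
      exact ⟨⟨(hconj ξ hξ.1).1, by rw [haconj ξ hξ.1]; exact hξ.2⟩, (hconj ξ hξ.1).2,
        Helper35.conjFun_conjFun ξ, by rw [haconj ξ hξ.1]⟩
    have hposF : 0 < ∑ ξ ∈ F, (p ^ a ξ) ^ 2 := by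
      apply Finset.sum_pos' (fun _ _ => Nat.zero_le _)
      exact ⟨χ₁, by rw [hF, Finset.mem_filter]; exact ⟨hχ₁, hlt⟩, by positivity⟩
    have hTodd : Nat.Coprime 2 (T ^ 2) := by
      rw [hT, ← pow_mul]
      apply Nat.Coprime.pow_right
      rw [Nat.coprime_primes Nat.prime_two hp]
      exact fun h => hp2 h.symm
    have h2T : 2 * T ^ 2 ≤ ∑ ξ ∈ F, (p ^ a ξ) ^ 2 :=
      Nat.le_of_dvd hposF (hTodd.mul_dvd_of_dvd_of_dvd h2F hdF)
    have hT1 : p ^ a χ₁ < T := by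
      rw [hT]
      exact Nat.pow_lt_pow_right hp1 hlt
    have hTpos : 0 < T := by
      rw [hT]
      positivity
    calc 2 * charDegree χ₁ * charDegree χ = e ^ 2 * (2 * p ^ a χ₁ * T) := by
          rw [(ha χ₁ hχ₁).1, (ha χ hχ.1).1, hT]
          ring
      _ < e ^ 2 * (2 * T ^ 2) := by
          apply Nat.mul_lt_mul_of_pos_left _ (by positivity)
          nlinarith
      _ ≤ e ^ 2 * ∑ ξ ∈ F, (p ^ a ξ) ^ 2 := Nat.mul_le_mul_left _ h2T
      _ = ∑ ξ ∈ F, charDegree ξ ^ 2 := hsumF.symm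
      _ ≤ ∑ ξ ∈ C, charDegree ξ ^ 2 := Finset.sum_le_sum_of_subset hFC

end XCoh

section XCoh2

variable {G : Type*} [Group G] [Fintype G] (N : Subgroup G) [Fintype N]

/-- the arithmetic data of a Frobenius group whose kernel `M` is a `p`-group, relative to a
central subgroup `A` of the kernel -/
theorem frob_pgroup_arith (M A : Subgroup N) [hM : M.Normal] [hA : A.Normal]
    (hfrob : ∀ y : N, y ∉ M → ∀ k ∈ M, k * y = y * k → k = 1)
    (p : ℕ) (hp : p.Prime) (hpM : IsPGroup p M)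
    (hAM : A ≤ M) (hAc : ∀ z ∈ A, ∀ k ∈ M, z * k = k * z) (hA1 : A ≠ ⊥) :
    ∃ n m : ℕ, 0 < m ∧ m ≤ n ∧ Nat.card M = p ^ n ∧ Nat.card A = p ^ m ∧
      Nat.Coprime M.index p ∧ 0 < M.index ∧ Nat.card N = M.index * p ^ n ∧
      A.index = M.index * p ^ (n - m) ∧
      (∀ χ ∈ ntSet M, ∃ a : ℕ, charDegree χ = M.index * p ^ a ∧ m + 2 * a ≤ n) ∧
      ∑ χ ∈ ntFin A, charDegree χ ^ 2 = M.index * (p ^ (n - m) * (p ^ m - 1)) := by
  classical
  let _ : Fintype M := Fintype.ofFinite _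
  have hp1 : 1 < p := hp.one_lt
  have : Fact p.Prime := ⟨hp⟩
  obtain ⟨n, hn⟩ := IsPGroup.iff_card.mp hpM
  have hAdvd : Nat.card A ∣ p ^ n := by
    rw [← hn]
    exact Subgroup.card_dvd_of_le hAM
  obtain ⟨m, hmn, hm⟩ := (Nat.dvd_prime_pow hp).mp hAdvd
  have hm0 : 0 < m := by
    by_contra h
    have h0 : m = 0 := by omega
    rw [h0, pow_zero] at hm
    exact hA1 (Subgroup.card_eq_one.mp hm)
  have hidx := frob_index_dvd M hfrob
  have hepos : 0 < M.index := Nat.pos_of_ne_zero Subgroup.index_ne_zero_of_finite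
  have hn0 : 0 < n := by omega
  have hcop : Nat.Coprime M.index p := by
    have h1 : Nat.Coprime M.index (Nat.card M) := by
      have h2 : Nat.card M = (Nat.card M - 1) + 1 := by
        have : 0 < Nat.card M := Nat.card_pos
        omega
      rw [h2]
      have h3 : Nat.Coprime (Nat.card M - 1) (Nat.card M - 1 + 1) := by simp
      exact h3.coprime_dvd_left hidx
    rw [hn] at h1
    exact (Nat.coprime_pow_right_iff hn0 _ _).mp h1
  have hcardN : Nat.card N = M.index * p ^ n := by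
    rw [← hn, mul_comm]
    exact (Subgroup.card_mul_index M).symm
  have hAidx : A.index = M.index * p ^ (n - m) := by
    have h1 := Subgroup.card_mul_index A
    rw [hcardN, hm] at h1
    have h2 : p ^ n = p ^ (n - m) * p ^ m := by
      rw [← pow_add]
      congr 1
      omega
    rw [h2] at h1
    have h3 : A.index * p ^ m = M.index * p ^ (n - m) * p ^ m := by
      rw [mul_comm (A.index)]
      rw [h1]
      ring
    exact Nat.eq_of_mul_eq_mul_right (by positivity) h3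
  have hdeg : ∀ χ ∈ ntSet M, ∃ a : ℕ, charDegree χ = M.index * p ^ a ∧ m + 2 * a ≤ n := by
    intro χ hχ
    obtain ⟨t, ht0, ht, htdvd, hle⟩ := frob_irr_deg M hfrob hχ.1 hχ.2 A hAM hAc
    rw [hn] at htdvd hle
    obtain ⟨a, -, rfl⟩ := (Nat.dvd_prime_pow hp).mp htdvd
    refine ⟨a, ht, ?_⟩
    rw [hm, ← pow_mul, ← pow_add] at hle
    have := (Nat.pow_le_pow_iff_right hp1).mp hle
    omega
  refine ⟨n, m, hm0, hmn, hn, hm, hcop, hepos, hcardN, hAidx, hdeg, ?_⟩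
  have h1 := sum_sq_ntFin A
  rw [hcardN, hAidx] at h1
  have h2 : p ^ n = p ^ (n - m) * p ^ m := by
    rw [← pow_add]
    congr 1
    omega
  have h3 : 1 ≤ p ^ m := Nat.one_le_pow _ _ (by omega)
  have h4 : M.index * (p ^ (n - m) * (p ^ m - 1)) + M.index * p ^ (n - m) = M.index * p ^ n := by
    rw [h2]
    have h5 : p ^ m = (p ^ m - 1) + 1 := by omega
    conv_rhs => rw [h5]
    ring
  omega

/-- the irreducible characters of a Frobenius group of odd order with kernel a `p`-group that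
are not trivial on a given non-trivial central subgroup of the kernel form a coherent set -/
theorem xcoh (M A : Subgroup N) [hM : M.Normal] [hA : A.Normal]
    (hfrob : ∀ y : N, y ∉ M → ∀ k ∈ M, k * y = y * k → k = 1)
    (hodd : Odd (Nat.card N)) (p : ℕ) (hp : p.Prime) (hpM : IsPGroup p M)
    (hAM : A ≤ M) (hAc : ∀ z ∈ A, ∀ k ∈ M, z * k = k * z) (hA1 : A ≠ ⊥)
    (τ : (N → ℂ) → (G → ℂ))
    (hτ : IsLinearIsometryOn (zspanOn (ntSet A) {1}ᶜ) τ)
    (hτ1 : ∀ α ∈ zspanOn (ntSet A) {1}ᶜ, τ α 1 = 0) :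
    IsCoherent (ntSet A) {1}ᶜ τ := by
  classical
  obtain ⟨n, m, hm0, hmn, hn, hm, hcop, hepos, hcardN, hAidx, hdeg, hsum⟩ :=
    frob_pgroup_arith N M A hfrob p hp hpM hAM hAc hA1
  have hp1 : 1 < p := hp.one_lt
  have hp2 : p ≠ 2 := by
    rintro rfl
    rw [hcardN] at hodd
    have h1 : Even (M.index * 2 ^ n) := by
      apply Even.mul_left
      exact (Nat.even_pow.mpr ⟨even_two, by omega⟩)
    exact (Nat.not_even_iff_odd.mpr hodd) h1
  rw [← coe_ntFin] at hτ hτ1 ⊢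
  have hne : (ntFin A).Nonempty := by
    rw [Finset.nonempty_iff_ne_empty]
    intro h
    rw [h, Finset.sum_empty] at hsum
    have h1 : 1 < p ^ m := Nat.one_lt_pow (by omega) hp1
    have h2 : 0 < M.index * (p ^ (n - m) * (p ^ m - 1)) := by
      apply Nat.mul_pos hepos
      apply Nat.mul_pos (by positivity)
      omega
    omega
  refine xcoh_arith N (ntFin A) hne (fun ξ hξ => (mem_ntFin.mp hξ).1) ?_ τ hτ hτ1 p M.index
    (p ^ (n - m)) (p ^ m - 1) hp hp2 hepos hcop ?_ hsum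
  · intro χ hχ
    have h1 := ntSet_conj hodd (mem_ntFin.mp hχ)
    exact ⟨mem_ntFin.mpr h1.1, h1.2⟩
  · intro χ hχ
    obtain ⟨a, ha, hle⟩ := hdeg χ (ntSet_mono hAM (mem_ntFin.mp hχ))
    refine ⟨a, ha, ?_⟩
    rw [← pow_mul]
    exact pow_dvd_pow p (by omega)

end XCoh2

end Cfsg.Agent.Lib.Helper35
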