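import Cfsg.Agent.Lib.Helper36.CharCoh
import Cfsg.Agent.Lib.Helper35.FeitCoh

set_option autoImplicit false
open Cfsg

namespace Cfsg.Agent.Lib.Helper35

open Cfsg.Agent.Lib.Helper36
open scoped ComplexConjugate

theorem feit_ext_core {N : Type*} [Group N] [Fintype N] {G : Type*} [Group G] [Fintype G] (S₀ : Finset (N → ℂ)) (χ : N → ℂ) (hirr : ∀ ξ ∈ S₀, Cfsg.IsIrrCharacter N ξ) (hχ : Cfsg.IsIrrCharacter N χ) (hχS : χ ∉ S₀) (d : (N → ℂ) → ℕ) (hd : ∀ ξ ∈ insert χ S₀, ξ 1 = (d ξ : ℂ)) (τ : (N → ℂ) → (G → ℂ)) (hτ : Cfsg.IsLinearIsometryOn (Cfsg.zspanOn (↑(insert χ S₀) : Set (N → ℂ)) {1}ᶜ) τ) (hτ1 : ∀ α ∈ Cfsg.zspanOn (↑(insert χ S₀) : Set (N → ℂ)) {1}ᶜ, τ α 1 = 0)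
    (τ₁ : (N → ℂ) → (G → ℂ)) (hτ₁ : IsLinearIsometryOn (zspan (↑S₀ : Set (N → ℂ))) τ₁)
    (hτ₁τ : ∀ α ∈ zspanOn (↑S₀ : Set (N → ℂ)) {1}ᶜ, τ₁ α = τ α)
    (ψ : N → ℂ) (hψ : ψ ∈ S₀) (a : ℕ) (ha : d χ = d ψ * a)
    (hlt : 2 * d ψ * d χ < ∑ ξ ∈ S₀, d ξ ^ 2) :
    IsGeneralizedCharacter G (τ (χ - (a : ℤ) • ψ) + (a : ℤ) • τ₁ ψ) ∧
    classInner (τ (χ - (a : ℤ) • ψ) + (a : ℤ) • τ₁ ψ) (τ (χ - (a : ℤ) • ψ) + (a : ℤ) • τ₁ ψ) = 1 ∧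
    ∀ ξ ∈ S₀, classInner (τ₁ ξ) (τ (χ - (a : ℤ) • ψ) + (a : ℤ) • τ₁ ψ) = 0 := by
  classical
  have hsub : (↑S₀ : Set (N → ℂ)) ⊆ ↑(insert χ S₀) :=
    Finset.coe_subset.mpr (Finset.subset_insert _ _)
  have hdψ := hd ψ (Finset.mem_insert_of_mem hψ)
  have hdχ := hd χ (Finset.mem_insert_self χ S₀)
  have hdpos : ∀ ξ ∈ S₀, 0 < d ξ := by
    intro ξ hξ
    obtain ⟨n, hn0, hn⟩ := irr_degree (hirr ξ hξ)
    have h1 := hd ξ (Finset.mem_insert_of_mem hξ)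
    rw [hn] at h1
    have h2 : n = d ξ := by exact_mod_cast h1
    omega
  have hdψpos := hdpos ψ hψ
  have hχψ : χ ≠ ψ := fun h => hχS (h ▸ hψ)
  obtain ⟨β, hβ⟩ : ∃ β, β = χ - (a : ℤ) • ψ := ⟨_, rfl⟩
  rw [← hβ]
  have hβmem : β ∈ zspanOn (↑(insert χ S₀) : Set (N → ℂ)) {1}ᶜ := by
    rw [mem_zspanOn_compl_one, hβ]
    refine ⟨zspan_sub (subset_zspan _ (by simp)) (zspan_zsmul (subset_zspan _ (hsub hψ)) _), ?_⟩
    simp [hdχ, hdψ, ha]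
    ring
  have hγS : ∀ ξ ∈ S₀, (d ψ : ℤ) • ξ - (d ξ : ℤ) • ψ ∈ zspanOn (↑S₀ : Set (N → ℂ)) {1}ᶜ :=
    fun ξ hξ => degDiff_mem (S := (↑S₀ : Set (N → ℂ))) hξ hψ (d ξ) (d ψ)
      (hd ξ (Finset.mem_insert_of_mem hξ)) hdψ
  have hγE : ∀ ξ ∈ S₀, (d ψ : ℤ) • ξ - (d ξ : ℤ) • ψ
      ∈ zspanOn (↑(insert χ S₀) : Set (N → ℂ)) {1}ᶜ :=
    fun ξ hξ => zspanOn_mono hsub _ (hγS ξ hξ)
  have hψz : ψ ∈ zspan (↑S₀ : Set (N → ℂ)) := subset_zspan _ hψ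
  have hτγ : ∀ ξ ∈ S₀, τ ((d ψ : ℤ) • ξ - (d ξ : ℤ) • ψ)
      = (d ψ : ℤ) • τ₁ ξ - (d ξ : ℤ) • τ₁ ψ := by
    intro ξ hξ
    have hξz : ξ ∈ zspan (↑S₀ : Set (N → ℂ)) := subset_zspan _ hξ
    rw [← hτ₁τ _ (hγS ξ hξ), isoOn_sub hτ₁ (fun b hb => zspan_neg hb) (zspan_zsmul hξz _)
      (zspan_zsmul hψz _), hτ₁.2.1 ξ hξz, hτ₁.2.1 ψ hψz]
  have hτβgen : IsGeneralizedCharacter G (τ β) := hτ.2.2.2 β hβmem
  have hτ₁gen : ∀ ξ ∈ S₀, IsGeneralizedCharacter G (τ₁ ξ) :=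
    fun ξ hξ => hτ₁.2.2.2 ξ (subset_zspan _ hξ)
  have hu : ∀ ξ, ∃ n : ℤ, ξ ∈ S₀ → classInner (τ β) (τ₁ ξ) = n := by
    intro ξ
    by_cases hξ : ξ ∈ S₀
    · obtain ⟨n, hn⟩ := classInner_gen_int hτβgen (hτ₁gen ξ hξ)
      exact ⟨n, fun _ => hn⟩
    · exact ⟨0, fun h => absurd h hξ⟩
  choose u hu using hu
  obtain ⟨b, hb⟩ : ∃ b : ℤ, b = u ψ + a := ⟨_, rfl⟩
  have hRne : ∀ ξ ∈ S₀, ξ ≠ ψ → (d ψ : ℤ) * u ξ = d ξ * b := by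
    intro ξ hξ hξψ
    have h1 := hτ.2.2.1 β hβmem _ (hγE ξ hξ)
    rw [hτγ ξ hξ, classInner_sub_right, classInner_zsmul_right, classInner_zsmul_right,
      hu ξ hξ, hu ψ hψ] at h1
    have h2 : classInner β ((d ψ : ℤ) • ξ - (d ξ : ℤ) • ψ) = (a : ℂ) * d ξ := by
      rw [hβ]
      simp only [classInner_sub_left, classInner_sub_right, classInner_zsmul_left,
        classInner_zsmul_right]
      rw [classInner_irr_ne hχ (hirr ξ hξ) (fun h => hχS (h ▸ hξ)),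
        classInner_irr_ne hχ (hirr ψ hψ) hχψ, classInner_irr_self (hirr ψ hψ),
        classInner_irr_ne (hirr ψ hψ) (hirr ξ hξ) (Ne.symm hξψ)]
      push_cast
      ring
    rw [h2] at h1
    have h3 : (d ψ : ℤ) * u ξ - (d ξ : ℤ) * u ψ = (a : ℤ) * d ξ := by exact_mod_cast h1
    rw [hb]
    linarith
  obtain ⟨Z, hZ⟩ : ∃ Z, Z = τ β - ∑ ξ ∈ S₀, u ξ • τ₁ ξ := ⟨_, rfl⟩
  have hZgen : IsGeneralizedCharacter G Z := by
    rw [hZ]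
    exact isGenChar_sub hτβgen
      (isGenChar_sum _ _ (fun ξ hξ => isGenChar_zsmul (hτ₁gen ξ hξ) _))
  have horthτ₁ : ∀ ξ ∈ S₀, ∀ ξ' ∈ S₀, classInner (τ₁ ξ) (τ₁ ξ') = if ξ = ξ' then 1 else 0 := by
    intro ξ hξ ξ' hξ'
    rw [hτ₁.2.2.1 ξ (subset_zspan _ hξ) ξ' (subset_zspan _ hξ'),
      classInner_irr (hirr ξ hξ) (hirr ξ' hξ')]
  have hZorth : ∀ ξ ∈ S₀, classInner Z (τ₁ ξ) = 0 := by
    intro ξ hξ
    rw [hZ, classInner_sub_left, classInner_sum_left, hu ξ hξ]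
    have h1 : ∀ ξ' ∈ S₀, classInner (u ξ' • τ₁ ξ') (τ₁ ξ) = if ξ' = ξ then (u ξ' : ℂ) else 0 := by
      intro ξ' hξ'
      rw [classInner_zsmul_left, horthτ₁ ξ' hξ' ξ hξ]
      split_ifs <;> simp
    rw [Finset.sum_congr rfl h1, Finset.sum_ite_eq' S₀ ξ (fun ξ' => (u ξ' : ℂ)), if_pos hξ,
      sub_self]
  have hZorth' : ∀ ξ ∈ S₀, classInner (τ₁ ξ) Z = 0 := by
    intro ξ hξ
    rw [classInner_conj_symm, hZorth ξ hξ]
    simp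
  have hββ : classInner β β = 1 + (a : ℂ) ^ 2 := by
    rw [hβ]
    simp only [classInner_sub_left, classInner_sub_right, classInner_zsmul_left,
      classInner_zsmul_right]
    rw [classInner_irr_self hχ, classInner_irr_ne hχ (hirr ψ hψ) hχψ,
      classInner_irr_ne (hirr ψ hψ) hχ (Ne.symm hχψ), classInner_irr_self (hirr ψ hψ)]
    push_cast
    ring
  have hZZ : classInner Z Z = ((1 + (a : ℤ) ^ 2 - ∑ ξ ∈ S₀, u ξ ^ 2 : ℤ) : ℂ) := by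
    have e1 : classInner Z Z = classInner (τ β) Z - classInner (∑ ξ ∈ S₀, u ξ • τ₁ ξ) Z := by
      rw [← classInner_sub_left, ← hZ]
    have e2 : classInner (∑ ξ ∈ S₀, u ξ • τ₁ ξ) Z = 0 := by
      rw [classInner_sum_left]
      apply Finset.sum_eq_zero
      intro ξ hξ
      rw [classInner_zsmul_left, hZorth' ξ hξ, mul_zero]
    have e3 : classInner (τ β) Z = classInner (τ β) (τ β) - ∑ ξ ∈ S₀, (u ξ : ℂ) * u ξ := by
      rw [hZ, classInner_sub_right, classInner_sum_right]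
      congr 1
      apply Finset.sum_congr rfl
      intro ξ hξ
      rw [classInner_zsmul_right, hu ξ hξ]
    rw [e1, e2, sub_zero, e3, hτ.2.2.1 β hβmem β hβmem, hββ]
    push_cast
    congr 1
    apply Finset.sum_congr rfl
    intro ξ _
    ring
  -- integer arithmetic
  obtain ⟨D', hD'⟩ : ∃ D' : ℤ, D' = ∑ ξ ∈ S₀.erase ψ, (d ξ : ℤ) ^ 2 := ⟨_, rfl⟩
  have hD'nn : 0 ≤ D' := by
    rw [hD']
    exact Finset.sum_nonneg (fun ξ _ => sq_nonneg _)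
  have hDsplit : ((∑ ξ ∈ S₀, d ξ ^ 2 : ℕ) : ℤ) = (d ψ : ℤ) ^ 2 + D' := by
    rw [hD', ← Finset.add_sum_erase S₀ _ hψ]
    push_cast
    rfl
  have hlt' : 2 * (d ψ : ℤ) ^ 2 * a < (d ψ : ℤ) ^ 2 + D' := by
    rw [← hDsplit]
    have : 2 * d ψ * d χ < ∑ ξ ∈ S₀, d ξ ^ 2 := hlt
    rw [ha] at this
    have h2 : ((2 * d ψ * (d ψ * a) : ℕ) : ℤ) < ((∑ ξ ∈ S₀, d ξ ^ 2 : ℕ) : ℤ) := by
      exact_mod_cast this
    push_cast at h2 ⊢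
    nlinarith
  have husplit : ∑ ξ ∈ S₀, u ξ ^ 2 = u ψ ^ 2 + ∑ ξ ∈ S₀.erase ψ, u ξ ^ 2 :=
    (Finset.add_sum_erase S₀ _ hψ).symm
  have hsumid : (d ψ : ℤ) ^ 2 * ∑ ξ ∈ S₀.erase ψ, u ξ ^ 2 = b ^ 2 * D' := by
    rw [hD', Finset.mul_sum, Finset.mul_sum]
    apply Finset.sum_congr rfl
    intro ξ hξ
    have h1 := hRne ξ (Finset.mem_of_mem_erase hξ) (Finset.ne_of_mem_erase hξ)
    have h2 : (d ψ : ℤ) ^ 2 * u ξ ^ 2 = ((d ψ : ℤ) * u ξ) ^ 2 := by ring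
    rw [h2, h1]
    ring
  obtain ⟨nZ, hnZ⟩ : ∃ nZ : ℤ, nZ = 1 + (a : ℤ) ^ 2 - ∑ ξ ∈ S₀, u ξ ^ 2 := ⟨_, rfl⟩
  rw [← hnZ] at hZZ
  have hnZeq : (d ψ : ℤ) ^ 2 * nZ = (d ψ : ℤ) ^ 2 * (1 + 2 * a * b) - b ^ 2 * ((d ψ : ℤ) ^ 2 + D') := by
    have hub : u ψ = b - a := by rw [hb]; ring
    rw [hnZ, husplit, mul_sub, mul_add ((d ψ : ℤ) ^ 2) (u ψ ^ 2), hsumid, hub]
    ring
  have hnZnn : 0 ≤ nZ := by
    obtain ⟨n, hn⟩ := gen_norm_nat hZgen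
    rw [hZZ] at hn
    have : nZ = (n : ℤ) := by exact_mod_cast hn
    omega
  have hdψZ : (0 : ℤ) < (d ψ : ℤ) := by exact_mod_cast hdψpos
  have haZ : (0 : ℤ) ≤ (a : ℤ) := Int.natCast_nonneg a
  have hb0 : b = 0 := by
    by_contra hbne
    have hb2 : 1 ≤ b ^ 2 := by
      have : 0 < b ^ 2 := by positivity
      omega
    have hbb : b ≤ b ^ 2 := by nlinarith [sq_nonneg (b - 1), sq_nonneg b]
    have hnZlt : (d ψ : ℤ) ^ 2 * nZ < (d ψ : ℤ) ^ 2 * 1 := by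
      rw [hnZeq]
      nlinarith [mul_pos hdψZ hdψZ, mul_nonneg (mul_nonneg (sq_nonneg (d ψ : ℤ)) haZ)
        (sub_nonneg.mpr hbb)]
    have hnZ1 : nZ < 1 := lt_of_mul_lt_mul_left hnZlt (sq_nonneg _)
    have hnZ0 : nZ = 0 := by omega
    rw [hnZ0] at hZZ
    have hZ0 : Z = 0 := classInner_self_eq_zero (by simpa using hZZ)
    -- evaluate at one
    have hR2 : ∀ ξ ∈ S₀, (d ψ : ℂ) * τ₁ ξ 1 = (d ξ : ℂ) * τ₁ ψ 1 := by
      intro ξ hξ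
      have h1 := hτ1 _ (hγE ξ hξ)
      rw [hτγ ξ hξ] at h1
      simp at h1
      exact sub_eq_zero.mp h1
    have ht : τ₁ ψ 1 ≠ 0 := by
      have h1 : classInner (τ₁ ψ) (τ₁ ψ) = 1 := by
        rw [hτ₁.2.2.1 ψ hψz ψ hψz, classInner_irr_self (hirr ψ hψ)]
      obtain ⟨φ, hφ, hcase⟩ := gen_norm_one (hτ₁gen ψ hψ) h1
      obtain ⟨n, hn0, hn⟩ := irr_degree hφ
      have hn' : (n : ℂ) ≠ 0 := by exact_mod_cast hn0.ne'
      rcases hcase with h | h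
      · rw [h, hn]; exact hn'
      · rw [h, Pi.neg_apply, hn]; exact neg_ne_zero.mpr hn'
    have hval : ∑ ξ ∈ S₀, (u ξ : ℂ) * τ₁ ξ 1 = 0 := by
      have h1 : Z 1 = 0 := by rw [hZ0]; rfl
      rw [hZ, Pi.sub_apply, hτ1 β hβmem, zero_sub, neg_eq_zero, Finset.sum_apply] at h1
      rw [← h1]
      apply Finset.sum_congr rfl
      intro ξ _
      simp
    have hval2 : ((d ψ : ℂ) ^ 2) * ∑ ξ ∈ S₀, (u ξ : ℂ) * τ₁ ξ 1
        = τ₁ ψ 1 * ((b * ((d ψ : ℤ) ^ 2 + D') - a * (d ψ : ℤ) ^ 2 : ℤ) : ℂ) := by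
      rw [← Finset.add_sum_erase S₀ _ hψ, mul_add, Finset.mul_sum]
      have h1 : ∀ ξ ∈ S₀.erase ψ, (d ψ : ℂ) ^ 2 * ((u ξ : ℂ) * τ₁ ξ 1)
          = τ₁ ψ 1 * ((b : ℂ) * ((d ξ : ℤ) ^ 2 : ℤ)) := by
        intro ξ hξ
        have hξS := Finset.mem_of_mem_erase hξ
        have e1 := hRne ξ hξS (Finset.ne_of_mem_erase hξ)
        have e1' : (d ψ : ℂ) * (u ξ : ℂ) = (d ξ : ℂ) * (b : ℂ) := by exact_mod_cast e1
        have e2 := hR2 ξ hξS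
        have e3 : (d ψ : ℂ) ^ 2 * ((u ξ : ℂ) * τ₁ ξ 1)
            = ((d ψ : ℂ) * (u ξ : ℂ)) * ((d ψ : ℂ) * τ₁ ξ 1) := by ring
        rw [e3, e1', e2]
        push_cast
        ring
      rw [Finset.sum_congr rfl h1, ← Finset.mul_sum, ← Finset.mul_sum]
      have hub : (u ψ : ℂ) = (b : ℂ) - (a : ℂ) := by rw [hb]; push_cast; ring
      rw [hub, hD']
      push_cast
      ring
    rw [hval, mul_zero] at hval2
    have h5 : ((b * ((d ψ : ℤ) ^ 2 + D') - a * (d ψ : ℤ) ^ 2 : ℤ) : ℂ) = 0 := by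
      rcases mul_eq_zero.mp hval2.symm with h | h
      · exact absurd h ht
      · exact h
    have h6 : b * ((d ψ : ℤ) ^ 2 + D') - a * (d ψ : ℤ) ^ 2 = 0 := by exact_mod_cast h5
    have hDpos : 0 < (d ψ : ℤ) ^ 2 + D' := by positivity
    rcases lt_or_gt_of_ne hbne with hneg | hpos
    · nlinarith [mul_nonneg haZ (sq_nonneg (d ψ : ℤ))]
    · have hb1 : 1 ≤ b := hpos
      nlinarith [mul_nonneg haZ (sq_nonneg (d ψ : ℤ))]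
  -- b = 0
  have huψ : u ψ = -(a : ℤ) := by rw [hb] at hb0; omega
  have huξ : ∀ ξ ∈ S₀, ξ ≠ ψ → u ξ = 0 := by
    intro ξ hξ hξψ
    have h1 := hRne ξ hξ hξψ
    rw [hb0, mul_zero] at h1
    rcases mul_eq_zero.mp h1 with h | h
    · omega
    · exact h
  have hZeq : Z = τ β + (a : ℤ) • τ₁ ψ := by
    rw [hZ, Finset.sum_eq_single ψ (fun ξ hξ hξψ => by rw [huξ ξ hξ hξψ, zero_smul])
      (fun h => absurd hψ h), huψ, neg_smul, sub_neg_eq_add]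
  have hnZ1 : nZ = 1 := by
    rw [hb0] at hnZeq
    have : (d ψ : ℤ) ^ 2 * nZ = (d ψ : ℤ) ^ 2 * 1 := by rw [hnZeq]; ring
    exact mul_left_cancel₀ (by positivity) this
  rw [← hZeq]
  refine ⟨hZgen, ?_, hZorth'⟩
  rw [hZZ, hnZ1]
  simp

/-- Let N be a subgroup of the finite group G and S₀ a finite set of irreducible characters of N, χ an irreducible character of N not in S₀, with degrees ξ 1 = d ξ. Let τ be a linear isometry on the integer combinations of S₀ ∪ {χ} vanishing at 1, with values virtual characters of G vanishing at 1, such that (S₀, N minus 1, τ) is coherent. If some ψ ∈ S₀ has d ψ dividing d χ and 2 · d ψ · d χ < Σ_{ξ ∈ S₀} (d ξ)², then (S₀ ∪ {χ}, N minus 1, τ) is coherent. -/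
theorem feit_ext {N : Type*} [Group N] [Fintype N] {G : Type*} [Group G] [Fintype G] (S₀ : Finset (N → ℂ)) (χ : N → ℂ) (hirr : ∀ ξ ∈ S₀, Cfsg.IsIrrCharacter N ξ) (hχ : Cfsg.IsIrrCharacter N χ) (hχS : χ ∉ S₀) (d : (N → ℂ) → ℕ) (hd : ∀ ξ ∈ insert χ S₀, ξ 1 = (d ξ : ℂ)) (τ : (N → ℂ) → (G → ℂ)) (hτ : Cfsg.IsLinearIsometryOn (Cfsg.zspanOn (↑(insert χ S₀) : Set (N → ℂ)) {1}ᶜ) τ) (hτ1 : ∀ α ∈ Cfsg.zspanOn (↑(insert χ S₀) : Set (N → ℂ)) {1}ᶜ, τ α 1 = 0) (hcoh : Cfsg.IsCoherent (↑S₀ : Set (N → ℂ)) {1}ᶜ τ) (ψ : N → ℂ) (hψ : ψ ∈ S₀) (hdvd : d ψ ∣ d χ) (hlt : 2 * d ψ * d χ < ∑ ξ ∈ S₀, d ξ ^ 2) : Cfsg.IsCoherent (↑(insert χ S₀) : Set (N → ℂ)) {1}ᶜ τ := by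
  classical
  obtain ⟨⟨α₀, hα₀, hα₀ne⟩, τ₁, hτ₁, hτ₁τ⟩ := hcoh
  have hsub : (↑S₀ : Set (N → ℂ)) ⊆ ↑(insert χ S₀) :=
    Finset.coe_subset.mpr (Finset.subset_insert _ _)
  refine ⟨⟨α₀, zspanOn_mono hsub _ hα₀, hα₀ne⟩, ?_⟩
  obtain ⟨a, ha⟩ := hdvd
  obtain ⟨hZgen, hZZ, hZorth⟩ :=
    feit_ext_core S₀ χ hirr hχ hχS d hd τ hτ hτ1 τ₁ hτ₁ hτ₁τ ψ hψ a ha hlt
  obtain ⟨Z, hZ⟩ : ∃ Z, Z = τ (χ - (a : ℤ) • ψ) + (a : ℤ) • τ₁ ψ := ⟨_, rfl⟩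
  rw [← hZ] at hZgen hZZ hZorth
  have hS : ∀ ξ ∈ (↑S₀ : Set (N → ℂ)), IsIrrCharacter N ξ := fun ξ h => hirr ξ h
  have hY : ∀ ξ ∈ ({χ} : Set (N → ℂ)), IsIrrCharacter N ξ := by
    intro ξ hξ
    rw [Set.mem_singleton_iff.mp hξ]
    exact hχ
  have hdisj : Disjoint (↑S₀ : Set (N → ℂ)) {χ} := by
    rw [Set.disjoint_singleton_right]
    exact hχS
  have hmem : ∀ f ∈ zspan ({χ} : Set (N → ℂ)), ∃ n : ℤ, f = n • χ := by
    intro f hf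
    obtain ⟨n, hn⟩ := Submodule.mem_span_singleton.mp hf
    exact ⟨n, hn.symm⟩
  have hτ' : IsLinearIsometryOn (zspan ({χ} : Set (N → ℂ))) (fun f => classInner f χ • Z) := by
    refine ⟨?_, ?_, ?_, ?_⟩
    · intro f _ f' _
      show classInner (f + f') χ • Z = _
      rw [classInner_add_left, add_smul]
    · intro f _ n
      show classInner (n • f) χ • Z = n • (classInner f χ • Z)
      rw [classInner_zsmul_left, zsmul_eq_smul_cast, smul_smul]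
    · intro f hf f' hf'
      obtain ⟨n, rfl⟩ := hmem f hf
      obtain ⟨n', rfl⟩ := hmem f' hf'
      show classInner (classInner (n • χ) χ • Z) (classInner (n' • χ) χ • Z)
        = classInner (n • χ) (n' • χ)
      simp only [classInner_smul_left, classInner_smul_right, classInner_zsmul_left,
        classInner_zsmul_right, classInner_irr_self hχ, hZZ]
      simp
    · intro f hf
      obtain ⟨n, rfl⟩ := hmem f hf
      show IsGeneralizedCharacter G (classInner (n • χ) χ • Z)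
      rw [classInner_zsmul_left, classInner_irr_self hχ, mul_one, ← zsmul_eq_smul_cast]
      exact isGenChar_zsmul hZgen n
  have horth : ∀ ξ ∈ (↑S₀ : Set (N → ℂ)), ∀ η ∈ ({χ} : Set (N → ℂ)),
      classInner (τ₁ ξ) ((fun f => classInner f χ • Z) η) = 0 := by
    intro ξ hξ η _
    show classInner (τ₁ ξ) (classInner η χ • Z) = 0
    rw [classInner_smul_right, hZorth ξ hξ, mul_zero]
  have hiso := glueMap_isometry hS hY hdisj hτ₁ hτ' horth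
  have hset : (↑(insert χ S₀) : Set (N → ℂ)) = ↑S₀ ∪ {χ} := by
    rw [Finset.coe_insert, Set.union_singleton]
  refine ⟨glueMap (↑S₀) {χ} τ₁ (fun f => classInner f χ • Z), by rw [hset]; exact hiso, ?_⟩
  intro θ hθ
  obtain ⟨hθz, hθ1⟩ := mem_zspanOn_compl_one.mp hθ
  rw [hset] at hθz
  obtain ⟨z, hz, f, hf, rfl⟩ := mem_zspan_union.mp hθz
  obtain ⟨n, rfl⟩ := hmem f hf
  rw [glueMap_apply hS hY hdisj τ₁ _ hz hf]
  show τ₁ z + classInner (n • χ) χ • Z = τ (z + n • χ)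
  rw [classInner_zsmul_left, classInner_irr_self hχ, mul_one, ← zsmul_eq_smul_cast]
  have hdψ := hd ψ (Finset.mem_insert_of_mem hψ)
  have hdχ := hd χ (Finset.mem_insert_self χ S₀)
  have hψz : ψ ∈ zspan (↑S₀ : Set (N → ℂ)) := subset_zspan _ hψ
  have hβmem : χ - (a : ℤ) • ψ ∈ zspanOn (↑(insert χ S₀) : Set (N → ℂ)) {1}ᶜ := by
    rw [mem_zspanOn_compl_one]
    refine ⟨zspan_sub (subset_zspan _ (by simp)) (zspan_zsmul (subset_zspan _ (hsub hψ)) _), ?_⟩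
    simp [hdχ, hdψ, ha]
    ring
  have hz' : z + (n * a : ℤ) • ψ ∈ zspanOn (↑S₀ : Set (N → ℂ)) {1}ᶜ := by
    rw [mem_zspanOn_compl_one]
    refine ⟨zspan_add hz (zspan_zsmul hψz _), ?_⟩
    have h1 := hθ1
    simp [hdχ, ha] at h1
    simp [hdψ]
    linear_combination h1
  have e : z + n • χ = (z + (n * a : ℤ) • ψ) + n • (χ - (a : ℤ) • ψ) := by
    ext x
    simp
    ring
  rw [e, hτ.1 _ (zspanOn_mono hsub _ hz') _ (zspanOn_zsmul hβmem n), hτ.2.1 _ hβmem,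
    ← hτ₁τ _ hz', hτ₁.1 z hz _ (zspan_zsmul hψz _), hτ₁.2.1 ψ hψz, hZ]
  ext x
  simp
  ring


/-- the extension principle for an abstract pair of groups: a coherent subset can be enlarged to
the whole set as long as Feit's criterion applies at each stage -/
theorem extend_max' {N : Type*} [Group N] [Fintype N] {G : Type*} [Group G] [Fintype G]
    (X C₀ : Finset (N → ℂ)) (hC₀X : C₀ ⊆ X)
    (hirr : ∀ ξ ∈ X, IsIrrCharacter N ξ) (τ : (N → ℂ) → (G → ℂ))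
    (hτ : IsLinearIsometryOn (zspanOn (↑X : Set (N → ℂ)) {1}ᶜ) τ)
    (hτ1 : ∀ α ∈ zspanOn (↑X : Set (N → ℂ)) {1}ᶜ, τ α 1 = 0)
    (hC₀ : IsCoherent (↑C₀ : Set (N → ℂ)) {1}ᶜ τ)
    (hstep : ∀ C : Finset (N → ℂ), C₀ ⊆ C → C ⊆ X → C ≠ X →
      IsCoherent (↑C : Set (N → ℂ)) {1}ᶜ τ →
      ∃ χ ∈ X, χ ∉ C ∧ ∃ ψ ∈ C, charDegree ψ ∣ charDegree χ ∧
        2 * charDegree ψ * charDegree χ < ∑ ξ ∈ C, charDegree ξ ^ 2) :
    IsCoherent (↑X : Set (N → ℂ)) {1}ᶜ τ := by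
  classical
  obtain ⟨C, hC, hmax⟩ := Finset.exists_max_image
    (X.powerset.filter (fun C => C₀ ⊆ C ∧ IsCoherent (↑C : Set (N → ℂ)) {1}ᶜ τ))
    Finset.card ⟨C₀, by
      rw [Finset.mem_filter, Finset.mem_powerset]
      exact ⟨hC₀X, Finset.Subset.refl _, hC₀⟩⟩
  rw [Finset.mem_filter, Finset.mem_powerset] at hC
  obtain ⟨hCX, hC₀C, hCcoh⟩ := hC
  by_cases hCeq : C = X
  · rw [← hCeq]
    exact hCcoh
  exfalso
  obtain ⟨χ, hχX, hχC, ψ, hψC, hdvd, hlt⟩ := hstep C hC₀C hCX hCeq hCcoh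
  have hins : insert χ C ⊆ X := Finset.insert_subset hχX hCX
  have hsub : (↑(insert χ C) : Set (N → ℂ)) ⊆ ↑X := Finset.coe_subset.mpr hins
  have hcoh' := feit_ext C χ (fun ξ hξ => hirr ξ (hCX hξ)) (hirr χ hχX) hχC charDegree
    (fun ξ hξ => (Cfsg.Agent.Lib.Helper83.irr_degree (hirr ξ (hins hξ))).2) τ
    (isoOn_mono (Helper36.zspanOn_mono hsub _) hτ)
    (fun α hα => hτ1 α (Helper36.zspanOn_mono hsub _ hα)) hCcoh ψ hψC hdvd hlt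
  have h1 := hmax (insert χ C) (by
    rw [Finset.mem_filter, Finset.mem_powerset]
    exact ⟨hins, hC₀C.trans (Finset.subset_insert _ _), hcoh'⟩)
  rw [Finset.card_insert_of_notMem hχC] at h1
  omega

end Cfsg.Agent.Lib.Helper35
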