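import Mathlib

set_option autoImplicit false

namespace Cfsg.Agent.Lib.Helper35

open scoped commutatorElement

section FeitGrp

variable {N : Type*} [Group N] (H : Subgroup N)

/-- in a nilpotent subgroup `H`, a subgroup `A` of `H` contained in `⁅R ⊔ A, H⁆`, with `R`
normal, lies in `R` -/
theorem stab_le (hnil : Group.IsNilpotent H) (R A : Subgroup N) [hR : R.Normal]
    (hAH : A ≤ H) (hA : A ≤ ⁅R ⊔ A, H⁆) : A ≤ R := by
  obtain ⟨n, hn⟩ := (Subgroup.isNilpotent_iff_lowerCentralSeries H).mp hnil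
  have key : ∀ k : ℕ, A ≤ R ⊔ H.lowerCentralSeries k := by
    intro k
    induction k with
    | zero =>
      rw [Subgroup.lowerCentralSeries_zero]
      exact hAH.trans le_sup_right
    | succ k ih =>
      refine hA.trans ((Subgroup.commutator_mono (sup_le le_sup_left ih) le_rfl).trans ?_)
      rw [Subgroup.commutator_le]
      intro g₁ hg₁ g₂ hg₂
      have hg₁' : g₁ ∈ (↑(R ⊔ H.lowerCentralSeries k) : Set N) := hg₁
      rw [Subgroup.normal_mul] at hg₁'
      obtain ⟨r, hr, γ, hγ, rfl⟩ := Set.mem_mul.mp hg₁'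
      have h1 : ⁅γ, g₂⁆ ∈ H.lowerCentralSeries (k + 1) := by
        rw [Subgroup.lowerCentralSeries_succ]
        exact Subgroup.commutator_mem_commutator hγ hg₂
      have h2 : ⁅r * γ, g₂⁆ = ⁅γ, g₂⁆ * ((⁅γ, g₂⁆⁻¹ * r * ⁅γ, g₂⁆) * (g₂ * r⁻¹ * g₂⁻¹)) := by
        simp only [commutatorElement_def]
        group
      rw [h2]
      have h3 : ⁅γ, g₂⁆⁻¹ * r * ⁅γ, g₂⁆ ∈ R := by
        have := hR.conj_mem r hr (⁅γ, g₂⁆⁻¹)
        rwa [inv_inv] at this
      have h4 : g₂ * r⁻¹ * g₂⁻¹ ∈ R := hR.conj_mem _ (R.inv_mem hr) g₂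
      exact (R ⊔ H.lowerCentralSeries (k + 1)).mul_mem
        ((le_sup_right : H.lowerCentralSeries (k + 1) ≤ _) h1)
        ((le_sup_left : R ≤ _) (R.mul_mem h3 h4))
  have := key n
  rwa [hn, sup_bot_eq] at this

/-- a nontrivial normal subgroup contained in a nilpotent subgroup `H` contains a nontrivial
element centralising `H` -/
theorem center_meets (hnil : Group.IsNilpotent H) (R : Subgroup N) [hR : R.Normal]
    (hRH : R ≤ H) (hR1 : R ≠ ⊥) : ∃ z ∈ R, z ≠ 1 ∧ ∀ y ∈ H, z * y = y * z := by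
  classical
  obtain ⟨n, hn⟩ := (Subgroup.isNilpotent_iff_lowerCentralSeries H).mp hnil
  obtain ⟨c, hc0, hcs⟩ : ∃ c : ℕ → Subgroup N, c 0 = R ∧ ∀ k, c (k + 1) = ⁅c k, H⁆ :=
    ⟨fun k => Nat.rec R (fun _ X => ⁅X, H⁆) k, rfl, fun _ => rfl⟩
  have hle : ∀ k, c k ≤ H.lowerCentralSeries k := by
    intro k
    induction k with
    | zero => rw [hc0, Subgroup.lowerCentralSeries_zero]; exact hRH
    | succ k ih =>
      rw [hcs, Subgroup.lowerCentralSeries_succ]
      exact Subgroup.commutator_mono ih le_rfl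
  have hleR : ∀ k, c k ≤ R := by
    intro k
    induction k with
    | zero => rw [hc0]
    | succ k ih =>
      rw [hcs]
      exact (Subgroup.commutator_mono ih le_rfl).trans (Subgroup.commutator_le_left R H)
  have hex : ∃ k, c k = ⊥ := ⟨n, by
    have := hle n
    rw [hn] at this
    exact le_bot_iff.mp this⟩
  obtain ⟨hk, hmin⟩ : c (Nat.find hex) = ⊥ ∧ ∀ m < Nat.find hex, c m ≠ ⊥ :=
    ⟨Nat.find_spec hex, fun m hm => Nat.find_min hex hm⟩
  obtain ⟨k, hkdef⟩ : ∃ k, k = Nat.find hex := ⟨_, rfl⟩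
  rw [← hkdef] at hk hmin
  have hk0 : k ≠ 0 := by
    intro h
    rw [h, hc0] at hk
    exact hR1 hk
  obtain ⟨j, rfl⟩ := Nat.exists_eq_succ_of_ne_zero hk0
  have hj := hmin j (Nat.lt_succ_self j)
  obtain ⟨⟨z, hz⟩, hz1⟩ := Subgroup.ne_bot_iff_exists_ne_one.mp hj
  refine ⟨z, hleR j hz, fun h => hz1 (Subtype.ext h), fun y hy => ?_⟩
  have h1 : ⁅z, y⁆ ∈ c (j + 1) := by
    rw [hcs]
    exact Subgroup.commutator_mem_commutator hz hy
  rw [hk, Subgroup.mem_bot] at h1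
  exact commutatorElement_eq_one_iff_mul_comm.mp h1

/-- the centre of `H`, as a subgroup of the ambient group -/
def cenN : Subgroup N := H ⊓ Subgroup.centralizer (H : Set N)

theorem cenN_le : cenN H ≤ H := inf_le_left

theorem mem_cenN {z : N} : z ∈ cenN H ↔ z ∈ H ∧ ∀ y ∈ H, z * y = y * z := by
  unfold cenN
  rw [Subgroup.mem_inf, Subgroup.mem_centralizer_iff]
  constructor
  · rintro ⟨h1, h2⟩
    exact ⟨h1, fun y hy => (h2 y hy).symm⟩
  · rintro ⟨h1, h2⟩
    exact ⟨h1, fun y hy => (h2 y hy).symm⟩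

theorem cenN_normal [hH : H.Normal] : (cenN H).Normal := by
  refine ⟨fun z hz g => ?_⟩
  rw [mem_cenN] at hz ⊢
  refine ⟨hH.conj_mem z hz.1 g, fun y hy => ?_⟩
  have h1 := hz.2 (g⁻¹ * y * g) (by
    have := hH.conj_mem y hy g⁻¹
    rwa [inv_inv] at this)
  calc g * z * g⁻¹ * y = g * (z * (g⁻¹ * y * g)) * g⁻¹ := by group
    _ = g * ((g⁻¹ * y * g) * z) * g⁻¹ := by rw [h1]
    _ = y * (g * z * g⁻¹) := by group

theorem cenN_commutator : ⁅cenN H, H⁆ = ⊥ := by
  rw [Subgroup.commutator_eq_bot_iff_le_centralizer]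
  exact inf_le_right

/-- a subgroup `A` of a nilpotent subgroup `H` with `A = ⁅Z(H) ⊔ A, H⁆` is trivial -/
theorem cen_stab_bot (hnil : Group.IsNilpotent H) [hH : H.Normal] (A : Subgroup N)
    (hAH : A ≤ H) (hA : ⁅cenN H ⊔ A, H⁆ = A) : A = ⊥ := by
  have := cenN_normal H
  have h1 : A ≤ cenN H := stab_le H hnil (cenN H) A hAH hA.ge
  rw [sup_eq_left.mpr h1, cenN_commutator] at hA
  exact hA.symm

end FeitGrp

end Cfsg.Agent.Lib.Helper35
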