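import Cfsg.Agent.Lib.Helper35.FeitExt
import Cfsg.Agent.Lib.Helper35.FeitGrp
import Cfsg.Agent.Lib.Helper35.NilFrob
import Cfsg.Agent.Lib.Helper20.Coh
import Mathlib

set_option autoImplicit false
open Cfsg

namespace Cfsg.Agent.Lib.Helper35

open Cfsg.Agent.Lib
open scoped ComplexConjugate commutatorElement

section Uniform

variable {L : Type*} [Group L] [Fintype L] {G : Type*} [Group G] [Fintype G]

/-- a finite set of at least two irreducible characters of the same degree is coherent, for any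
isometry on its integer combinations vanishing at `1` -/
theorem uniform_coherent' (X : Finset (L → ℂ)) (hirr : ∀ χ ∈ X, IsIrrCharacter L χ)
    (hdeg : ∀ φ ∈ X, ∀ ψ ∈ X, φ 1 = ψ 1) (h2 : ∃ a ∈ X, ∃ b ∈ X, a ≠ b)
    (τ : (L → ℂ) → (G → ℂ)) (hτ : IsLinearIsometryOn (zspanOn (↑X : Set (L → ℂ)) {1}ᶜ) τ)
    (hτ1 : ∀ α ∈ zspanOn (↑X : Set (L → ℂ)) {1}ᶜ, τ α 1 = 0) :
    IsCoherent (↑X : Set (L → ℂ)) {1}ᶜ τ := by
  classical
  obtain ⟨χ₀, hχ₀, b, hb, hab⟩ := h2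
  have hmem : ∀ χ ∈ X, ∀ ξ ∈ X, χ - ξ ∈ zspanOn (↑X : Set (L → ℂ)) {1}ᶜ := by
    intro χ hχ ξ hξ
    rw [Helper36.mem_zspanOn_compl_one]
    exact ⟨Helper36.zspan_sub (Helper36.subset_zspan _ hχ) (Helper36.subset_zspan _ hξ),
      by rw [Pi.sub_apply, hdeg χ hχ ξ hξ, sub_self]⟩
  have hneg : ∀ b ∈ zspanOn (↑X : Set (L → ℂ)) {1}ᶜ, -b ∈ zspanOn (↑X : Set (L → ℂ)) {1}ᶜ :=
    fun b hb => Helper36.zspanOn_neg hb
  have hdiff : ∀ χ ∈ X, ∀ ξ ∈ X, τ (χ - χ₀) - τ (ξ - χ₀) = τ (χ - ξ) := by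
    intro χ hχ ξ hξ
    rw [← Helper36.isoOn_sub hτ hneg (hmem χ hχ χ₀ hχ₀) (hmem ξ hξ χ₀ hχ₀)]
    congr 1
    abel
  have hH1 : ∀ χ ξ : {χ // χ ∈ X}, χ ≠ ξ →
      IsGeneralizedCharacter G (τ (χ.1 - χ₀) - τ (ξ.1 - χ₀)) ∧
        (τ (χ.1 - χ₀) - τ (ξ.1 - χ₀)) 1 = 0 := by
    intro χ ξ _
    rw [hdiff χ.1 χ.2 ξ.1 ξ.2]
    exact ⟨hτ.2.2.2 _ (hmem χ.1 χ.2 ξ.1 ξ.2), hτ1 _ (hmem χ.1 χ.2 ξ.1 ξ.2)⟩
  have hH2 : ∀ χ ξ ζ : {χ // χ ∈ X}, χ ≠ ξ → χ ≠ ζ →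
      classInner (τ (χ.1 - χ₀) - τ (ξ.1 - χ₀)) (τ (χ.1 - χ₀) - τ (ζ.1 - χ₀)) =
        if ξ = ζ then 2 else 1 := by
    intro χ ξ ζ h1 h2
    rw [hdiff χ.1 χ.2 ξ.1 ξ.2, hdiff χ.1 χ.2 ζ.1 ζ.2,
      hτ.2.2.1 _ (hmem χ.1 χ.2 ξ.1 ξ.2) _ (hmem χ.1 χ.2 ζ.1 ζ.2),
      Helper35.classInner_sub_left, Helper35.classInner_sub_right, Helper35.classInner_sub_right,
      Helper35.classInner_irr' (hirr _ χ.2) (hirr _ χ.2),
      Helper35.classInner_irr' (hirr _ χ.2) (hirr _ ζ.2),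
      Helper35.classInner_irr' (hirr _ ξ.2) (hirr _ χ.2),
      Helper35.classInner_irr' (hirr _ ξ.2) (hirr _ ζ.2), if_pos rfl,
      if_neg (fun h : χ.1 = ζ.1 => h2 (Subtype.ext h)),
      if_neg (fun h : ξ.1 = χ.1 => h1 (Subtype.ext h).symm)]
    by_cases h : ξ = ζ
    · rw [if_pos h, if_pos (congrArg Subtype.val h)]
      norm_num
    · rw [if_neg h, if_neg (fun h' : ξ.1 = ζ.1 => h (Subtype.ext h'))]
      norm_num
  obtain ⟨ε, f, hε, hf, hI⟩ := Helper20.coherent_of_norm_two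
    (fun χ : {χ // χ ∈ X} => τ (χ.1 - χ₀)) hH1
    (fun χ ξ ζ h h' => by
      rw [hH2 χ ξ ζ h h']
      by_cases e : ξ = ζ
      · rw [if_pos e, if_pos e]
      · rw [if_neg e, if_neg e])
  refine coherent_of_family X hirr hdeg ⟨χ₀, hχ₀, b, hb, hab⟩ τ hτ ε hε
    (fun χ => if h : χ ∈ X then (f ⟨χ, h⟩ : G → ℂ) else 0) ?_ ?_ ?_
  · intro χ hχ
    rw [dif_pos hχ]
    exact (f ⟨χ, hχ⟩).2
  · intro χ hχ ξ hξ h
    rw [dif_pos hχ, dif_pos hξ] at h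
    exact congrArg Subtype.val (hf (Subtype.ext h))
  · intro χ hχ ξ hξ
    rw [dif_pos hχ, dif_pos hξ, ← hI ⟨χ, hχ⟩ ⟨ξ, hξ⟩]
    exact (hdiff χ hχ ξ hξ).symm

end Uniform

section FeitFrob

variable {N : Type*} [Group N] [Fintype N] (H : Subgroup N)

open Classical in
/-- the irreducible characters of `N` not trivial on `H` but trivial on `A` -/
noncomputable def saFin (A : Subgroup N) : Finset (N → ℂ) := ntFin H \ ntFin A

open Classical in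
theorem mem_saFin {A : Subgroup N} {χ : N → ℂ} :
    χ ∈ saFin H A ↔ χ ∈ ntSet H ∧ ∀ a ∈ A, χ a = χ 1 := by
  unfold saFin
  rw [Finset.mem_sdiff, mem_ntFin, mem_ntFin]
  constructor
  · rintro ⟨h1, h2⟩
    refine ⟨h1, ?_⟩
    by_contra h
    exact h2 ⟨h1.1, h⟩
  · rintro ⟨h1, h2⟩
    exact ⟨h1, fun h => h.2 h2⟩

theorem saFin_mono {A B : Subgroup N} (h : B ≤ A) : saFin H A ⊆ saFin H B := by
  intro χ hχ
  rw [mem_saFin] at hχ ⊢
  exact ⟨hχ.1, fun a ha => hχ.2 a (h ha)⟩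

theorem saFin_subset (A : Subgroup N) : (↑(saFin H A) : Set (N → ℂ)) ⊆ ntSet H := by
  intro χ hχ
  exact ((mem_saFin H).mp (Finset.mem_coe.mp hχ)).1

theorem saFin_bot : (↑(saFin H ⊥) : Set (N → ℂ)) = ntSet H := by
  ext χ
  rw [Finset.mem_coe, mem_saFin]
  constructor
  · exact fun h => h.1
  · intro h
    refine ⟨h, fun a ha => ?_⟩
    rw [Subgroup.mem_bot.mp ha]

open Classical in
theorem saFin_sum [hH : H.Normal] (A : Subgroup N) [hA : A.Normal] (hAH : A ≤ H) :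
    ∑ f ∈ saFin H A, charDegree f ^ 2 = H.index * (A.relIndex H - 1) := by
  have h1 := sum_sq_ntFin H
  have h2 := sum_sq_ntFin A
  have h3 : ntFin A ⊆ ntFin H := by
    intro χ hχ
    rw [mem_ntFin] at hχ ⊢
    exact ntSet_mono hAH hχ
  have h4 := Finset.sum_sdiff (f := fun f : N → ℂ => charDegree f ^ 2) h3
  have h5 := Subgroup.relIndex_mul_index hAH
  have hr : 1 ≤ A.relIndex H := by
    have h0 : A.relIndex H ≠ 0 := by
      intro h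
      rw [h, zero_mul] at h5
      exact Subgroup.index_ne_zero_of_finite h5.symm
    omega
  have h6 : H.index * (A.relIndex H - 1) + H.index = A.index := by
    rw [← h5]
    have : A.relIndex H = (A.relIndex H - 1) + 1 := by omega
    conv_rhs => rw [this]
    ring
  unfold saFin
  omega

/-- the extension step: from the characters trivial on `A` to the characters trivial on `B` -/
theorem sa_step [hH : H.Normal] (hfrob : ∀ y : N, y ∉ H → ∀ k ∈ H, k * y = y * k → k = 1)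
    {G : Type*} [Group G] [Fintype G]
    (A B D : Subgroup N) [hA : A.Normal] (hBA : B ≤ A) (hAH : A ≤ H)
    (hcent : ∀ x ∈ D, ∀ y ∈ H, x * y * x⁻¹ * y⁻¹ ∈ B)
    (hineq : 4 * H.index ^ 2 * D.relIndex H < (A.relIndex H - 1) ^ 2)
    (τ : (N → ℂ) → (G → ℂ))
    (hτ : IsLinearIsometryOn (zspanOn (↑(saFin H B) : Set (N → ℂ)) {1}ᶜ) τ)
    (hτ1 : ∀ α ∈ zspanOn (↑(saFin H B) : Set (N → ℂ)) {1}ᶜ, τ α 1 = 0)
    (ψ : N → ℂ) (hψ : ψ ∈ saFin H A) (hψd : charDegree ψ = H.index)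
    (hcoh : IsCoherent (↑(saFin H A) : Set (N → ℂ)) {1}ᶜ τ) :
    IsCoherent (↑(saFin H B) : Set (N → ℂ)) {1}ᶜ τ := by
  classical
  let _ : Fintype H := Fintype.ofFinite _
  refine extend_max' (saFin H B) (saFin H A) (saFin_mono H hBA)
    (fun ξ hξ => ((mem_saFin H).mp hξ).1.1) τ hτ hτ1 hcoh ?_
  intro C hAC hCB hne _
  obtain ⟨χ, hχB, hχC⟩ : ∃ χ ∈ saFin H B, χ ∉ C := by
    by_contra h
    push Not at h
    exact hne (Finset.Subset.antisymm hCB h)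
  obtain ⟨h1, h2⟩ := (mem_saFin H).mp hχB
  refine ⟨χ, hχB, hχC, ψ, hAC hψ, ?_, ?_⟩
  · obtain ⟨t, -, ht, -, -⟩ := frob_irr_deg H hfrob h1.1 h1.2 ⊥ bot_le
      (fun z hz k _ => by rw [Subgroup.mem_bot.mp hz]; simp)
    rw [hψd, ht]
    exact Dvd.intro _ rfl
  · have hdeg := S1519.degree_bound h1.1 B H D hcent h2
    have hsum : H.index * (A.relIndex H - 1) ≤ ∑ ξ ∈ C, charDegree ξ ^ 2 := by
      rw [← saFin_sum H A hAH]
      exact Finset.sum_le_sum_of_subset hAC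
    have hepos : 0 < H.index := Nat.pos_of_ne_zero Subgroup.index_ne_zero_of_finite
    rw [hψd]
    by_contra hcon
    push Not at hcon
    have h3 : (H.index * (A.relIndex H - 1)) ^ 2 ≤ (2 * H.index * charDegree χ) ^ 2 :=
      Nat.pow_le_pow_left (hsum.trans hcon) 2
    have h4 : (2 * H.index * charDegree χ) ^ 2 ≤
        H.index ^ 2 * (4 * H.index ^ 2 * D.relIndex H) := by
      calc (2 * H.index * charDegree χ) ^ 2 = 4 * H.index ^ 2 * charDegree χ ^ 2 := by ring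
        _ ≤ 4 * H.index ^ 2 * (H.index ^ 2 * D.relIndex H) := Nat.mul_le_mul_left _ hdeg
        _ = H.index ^ 2 * (4 * H.index ^ 2 * D.relIndex H) := by ring
    have h5 : H.index ^ 2 * (4 * H.index ^ 2 * D.relIndex H) <
        H.index ^ 2 * (A.relIndex H - 1) ^ 2 :=
      Nat.mul_lt_mul_of_pos_left hineq (by positivity)
    have h6 : (H.index * (A.relIndex H - 1)) ^ 2 = H.index ^ 2 * (A.relIndex H - 1) ^ 2 := by
      ring
    omega

/-- the chain of extension steps along `A ↦ ⁅R ⊔ A, H⁆` -/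
theorem sa_chain [hH : H.Normal] (hfrob : ∀ y : N, y ∉ H → ∀ k ∈ H, k * y = y * k → k = 1)
    {G : Type*} [Group G] [Fintype G] (R : Subgroup N) [hR : R.Normal]
    (τ : (N → ℂ) → (G → ℂ))
    (hτ : IsLinearIsometryOn (zspanOn (ntSet H) {1}ᶜ) τ)
    (hτ1 : ∀ α ∈ zspanOn (ntSet H) {1}ᶜ, τ α 1 = 0)
    (ψ : N → ℂ) (hψd : charDegree ψ = H.index) :
    ∀ (n : ℕ) (A₀ : Subgroup N), Nat.card A₀ ≤ n → A₀.Normal → A₀ ≤ H → ⁅R ⊔ A₀, H⁆ ≤ A₀ →
      ψ ∈ saFin H A₀ →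
      (∀ A : Subgroup N, A.Normal → A ≤ A₀ →
        4 * H.index ^ 2 * (R ⊔ A).relIndex H < (A.relIndex H - 1) ^ 2) →
      IsCoherent (↑(saFin H A₀) : Set (N → ℂ)) {1}ᶜ τ →
      ∃ A : Subgroup N, A.Normal ∧ A ≤ A₀ ∧ ⁅R ⊔ A, H⁆ = A ∧
        IsCoherent (↑(saFin H A) : Set (N → ℂ)) {1}ᶜ τ := by
  intro n
  induction n with
  | zero =>
    intro A₀ hcard
    have : 0 < Nat.card A₀ := Nat.card_pos
    omega
  | succ n ih =>
    intro A₀ hcard hA₀n hA₀H hcomm hψ hineq hcoh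
    by_cases heq : ⁅R ⊔ A₀, H⁆ = A₀
    · exact ⟨A₀, hA₀n, le_rfl, heq, hcoh⟩
    have hBn : (⁅R ⊔ A₀, H⁆).Normal := inferInstance
    have hlt : ⁅R ⊔ A₀, H⁆ < A₀ := lt_of_le_of_ne hcomm heq
    have hcardB : Nat.card (⁅R ⊔ A₀, H⁆ : Subgroup N) ≤ n := by
      have h1 : Nat.card (⁅R ⊔ A₀, H⁆ : Subgroup N) < Nat.card A₀ := by
        have h2 := Subgroup.card_le_of_le hcomm
        rcases Nat.lt_or_ge (Nat.card (⁅R ⊔ A₀, H⁆ : Subgroup N)) (Nat.card A₀) with h | h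
        · exact h
        · exact absurd (Subgroup.eq_of_le_of_card_ge hcomm h) heq
      omega
    have hstep := sa_step H hfrob A₀ ⁅R ⊔ A₀, H⁆ (R ⊔ A₀) hcomm hA₀H
      (fun x hx y hy => by
        have := Subgroup.commutator_mem_commutator hx hy
        rwa [commutatorElement_def] at this)
      (hineq A₀ hA₀n le_rfl) τ
      (isoOn_mono (Helper36.zspanOn_mono (saFin_subset H _) _) hτ)
      (fun α hα => hτ1 α (Helper36.zspanOn_mono (saFin_subset H _) _ hα)) ψ hψ hψd hcoh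
    obtain ⟨A, hAn, hAB, hAeq, hAcoh⟩ := ih ⁅R ⊔ A₀, H⁆ hcardB hBn (hcomm.trans hA₀H)
      (Subgroup.commutator_mono (sup_le le_sup_left (hcomm.trans le_sup_right)) le_rfl)
      (saFin_mono H hcomm hψ) (fun A hA hAB => hineq A hA (hAB.trans hcomm)) hstep
    exact ⟨A, hAn, hAB.trans hcomm, hAeq, hAcoh⟩

end FeitFrob

end Cfsg.Agent.Lib.Helper35
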