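import Cfsg.Agent.S1519
import Cfsg.Agent.Lib.Helper20.Frob
import Cfsg.Agent.Lib.Helper4.CharOdd
import Cfsg.Agent.Lib.Helper4.CharDecomp
import Mathlib

set_option autoImplicit false
open Cfsg

namespace Cfsg.Agent.Lib.Helper35

open Cfsg.Agent.Lib
open scoped ComplexConjugate

section FrobS

variable {H : Type*} [Group H] [Fintype H] (M : Subgroup H) [hM : M.Normal]

/-- in a Frobenius group, an element outside the kernel `M` fixes exactly one irreducible
character of `M` (counted by inner products) -/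
theorem frob_sum_fixed [Fintype M] [Fintype (IrrCharacter M)]
    (hfrob : ∀ y : H, y ∉ M → ∀ k ∈ M, k * y = y * k → k = 1) (x : H) (hx : x ∉ M) :
    ∑ θ : IrrCharacter M, classInner (Helper20.conjFun M (θ : M → ℂ) x) (θ : M → ℂ) = 1 := by
  classical
  unfold classInner
  rw [← Finset.mul_sum, Finset.sum_comm]
  have h1 : ∀ k : M, ∑ θ : IrrCharacter M,
      Helper20.conjFun M (θ : M → ℂ) x k * conj ((θ : M → ℂ) k) =
        if k = 1 then (Nat.card M : ℂ) else 0 := by
    intro k
    have h2 : ∀ θ : IrrCharacter M, Helper20.conjFun M (θ : M → ℂ) x k * conj ((θ : M → ℂ) k) =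
        (θ : M → ℂ) ⟨x * (k : H) * x⁻¹, hM.conj_mem (k : H) k.2 x⟩ * conj ((θ : M → ℂ) k) :=
      fun θ => by rw [Helper20.conjFun_apply]
    rw [Finset.sum_congr rfl (fun θ _ => h2 θ), Helper83.column_orthogonality]
    by_cases hk : k = 1
    · subst hk
      rw [if_pos rfl, if_pos]
      · have h3 : (Subgroup.centralizer ({(1 : M)} : Set M)) = ⊤ := by
          ext y
          simp [Subgroup.mem_centralizer_iff]
        rw [h3, Subgroup.card_top]
      · have h4 : (⟨x * ((1 : M) : H) * x⁻¹, hM.conj_mem ((1 : M) : H) (1 : M).2 x⟩ : M) = 1 := by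
          apply Subtype.ext
          simp
        rw [h4]
    · rw [if_neg hk, if_neg]
      intro hc
      obtain ⟨m, hm⟩ := isConj_iff.mp hc
      have hm' : (m : H) * (k : H) * (m : H)⁻¹ = x * (k : H) * x⁻¹ := congrArg Subtype.val hm
      have hy : (m : H)⁻¹ * x ∉ M := by
        intro h
        apply hx
        have := M.mul_mem m.2 h
        simpa using this
      have hcomm : (k : H) * ((m : H)⁻¹ * x) = (m : H)⁻¹ * x * (k : H) := by
        have h5 : (k : H) * (m : H)⁻¹ = (m : H)⁻¹ * (x * (k : H) * x⁻¹) := by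
          rw [← hm']
          group
        calc (k : H) * ((m : H)⁻¹ * x) = ((k : H) * (m : H)⁻¹) * x := by group
          _ = (m : H)⁻¹ * (x * (k : H) * x⁻¹) * x := by rw [h5]
          _ = (m : H)⁻¹ * x * (k : H) := by group
      have := hfrob _ hy (k : H) k.2 hcomm
      exact hk (Subtype.ext this)
  rw [Finset.sum_congr rfl (fun k _ => h1 k), Finset.sum_ite_eq' Finset.univ (1 : M),
    if_pos (Finset.mem_univ _)]
  have hM0 : (Nat.card M : ℂ) ≠ 0 := by exact_mod_cast (Nat.card_pos (α := M)).ne'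
  field_simp

/-- in a Frobenius group, a non-principal irreducible character of the kernel is not fixed by
any element outside the kernel -/
theorem frob_conj_ne [Fintype M]
    (hfrob : ∀ y : H, y ∉ M → ∀ k ∈ M, k * y = y * k → k = 1) (x : H) (hx : x ∉ M)
    {θ : M → ℂ} (hθ : IsIrrCharacter M θ) (hθ1 : θ ≠ fun _ => 1) :
    Helper20.conjFun M θ x ≠ θ := by
  classical
  have := Helper4.irr_finite (G := M)
  let _ : Fintype (IrrCharacter M) := Fintype.ofFinite _
  intro hfix
  have hsum := frob_sum_fixed M hfrob x hx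
  have hterm : ∀ η : IrrCharacter M,
      classInner (Helper20.conjFun M (η : M → ℂ) x) (η : M → ℂ) =
        if Helper20.conjFun M (η : M → ℂ) x = (η : M → ℂ) then 1 else 0 := fun η =>
    Helper35.classInner_irr' (Helper20.conjFun_irr M η.2 x) η.2
  rw [Finset.sum_congr rfl (fun η _ => hterm η), Finset.sum_boole] at hsum
  have hcard : (Finset.univ.filter
      (fun η : IrrCharacter M => Helper20.conjFun M (η : M → ℂ) x = (η : M → ℂ))).card = 1 := by
    exact_mod_cast hsum
  obtain ⟨a, ha⟩ := Finset.card_eq_one.mp hcard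
  have h1 : (⟨θ, hθ⟩ : IrrCharacter M) ∈ ({a} : Finset (IrrCharacter M)) := by
    rw [← ha]
    simp [hfix]
  have h2 : Helper83.trivIrr M ∈ ({a} : Finset (IrrCharacter M)) := by
    rw [← ha]
    simp only [Finset.mem_filter, Finset.mem_univ, true_and]
    funext k
    rw [Helper20.conjFun_apply]
    rfl
  rw [Finset.mem_singleton] at h1 h2
  apply hθ1
  have h3 := congrArg Subtype.val (h1.trans h2.symm)
  exact h3

/-- in a Frobenius group, a non-principal irreducible character of the kernel induces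
irreducibly -/
theorem frob_ind_irr [Fintype M]
    (hfrob : ∀ y : H, y ∉ M → ∀ k ∈ M, k * y = y * k → k = 1)
    {θ : M → ℂ} (hθ : IsIrrCharacter M θ) (hθ1 : θ ≠ fun _ => 1) :
    IsIrrCharacter H (indFun M θ) := by
  classical
  have := Helper4.irr_finite (G := H)
  let _ : Fintype (IrrCharacter H) := Fintype.ofFinite _
  refine Helper4.isIrrCharacter_of_norm_one _
    (Helper35.isCharacter_indFun M (Helper35.isChar_of_irr hθ)) ?_
  rw [Helper35.frobenius_reciprocity M θ _ (Helper35.isClassFunction_indFun M θ)]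
  have hM0 : (Nat.card M : ℂ) ≠ 0 := by exact_mod_cast (Nat.card_pos (α := M)).ne'
  have h1 : Helper35.res M (indFun M θ) =
      (Nat.card M : ℂ)⁻¹ • ∑ x : H, Helper20.conjFun M θ x := by
    funext k
    rw [Helper35.res_apply, Helper20.indFun_normal_apply]
    simp only [Pi.smul_apply, Finset.sum_apply, smul_eq_mul]
  have hcf : IsClassFunction M θ := Helper4.isClassFunction_irr ⟨θ, hθ⟩
  have h2 : ∀ x : H, classInner θ (Helper20.conjFun M θ x) = if x ∈ M then 1 else 0 := by
    intro x
    rw [Helper35.classInner_irr' hθ (Helper20.conjFun_irr M hθ x)]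
    by_cases hx : x ∈ M
    · rw [if_pos hx, if_pos]
      funext k
      rw [Helper20.conjFun_apply]
      have := hcf k ⟨x, hx⟩
      rw [← this]
      rfl
    · rw [if_neg hx, if_neg]
      exact fun h => frob_conj_ne M hfrob x hx hθ hθ1 h.symm
  have hcard : (Finset.univ.filter (fun x : H => x ∈ M)).card = Nat.card M := by
    rw [← Nat.card_eq_finsetCard]
    apply Nat.card_congr
    exact Equiv.subtypeEquivRight (by simp)
  rw [h1, Helper35.classInner_smul_right, Helper35.classInner_sum_right,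
    Finset.sum_congr rfl (fun x _ => h2 x), Finset.sum_boole, hcard, map_inv₀, map_natCast]
  field_simp

/-- in a Frobenius group, every irreducible character not trivial on the kernel is induced from
a non-principal irreducible character of the kernel -/
theorem frob_irr_eq_ind [Fintype M]
    (hfrob : ∀ y : H, y ∉ M → ∀ k ∈ M, k * y = y * k → k = 1)
    {χ : H → ℂ} (hχ : IsIrrCharacter H χ) (hχM : ¬ ∀ x ∈ M, χ x = χ 1) :
    ∃ θ : M → ℂ, IsIrrCharacter M θ ∧ θ ≠ (fun _ => 1) ∧ χ = indFun M θ := by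
  classical
  obtain ⟨θ, hθ, hcon⟩ := Helper20.exists_constituent M hχ
  have hθne : θ ≠ fun _ => 1 := by
    intro h
    apply hcon
    rw [h]
    unfold classInner
    have h0 := Helper20.irr_sum_normal M ⟨χ, hχ⟩ hχM
    simp only [map_one, mul_one]
    rw [h0, mul_zero]
  refine ⟨θ, hθ, hθne, ?_⟩
  have hirr := frob_ind_irr M hfrob hθ hθne
  have h1 : classInner (indFun M θ) χ ≠ 0 := by
    rw [Helper35.frobenius_reciprocity M θ χ (Helper4.isClassFunction_irr ⟨χ, hχ⟩)]
    intro h
    apply hcon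
    have h2 : classInner (fun h : M => χ h) θ = conj (classInner θ (Helper35.res M χ)) :=
      Helper36.classInner_conj_symm _ _
    rw [h2, h, map_zero]
  rw [Helper35.classInner_irr' hirr hχ] at h1
  by_contra hne
  exact h1 (if_neg (fun h => hne h.symm))

/-- the degree data of an irreducible character of a Frobenius group not trivial on the
kernel -/
theorem frob_irr_deg [Fintype M]
    (hfrob : ∀ y : H, y ∉ M → ∀ k ∈ M, k * y = y * k → k = 1)
    {χ : H → ℂ} (hχ : IsIrrCharacter H χ) (hχM : ¬ ∀ x ∈ M, χ x = χ 1)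
    (Z : Subgroup H) (hZM : Z ≤ M) (hZc : ∀ z ∈ Z, ∀ k ∈ M, z * k = k * z) :
    ∃ t : ℕ, 0 < t ∧ charDegree χ = M.index * t ∧ t ∣ Nat.card M ∧
      Nat.card Z * t ^ 2 ≤ Nat.card M := by
  classical
  obtain ⟨θ, hθ, hθ1, rfl⟩ := frob_irr_eq_ind M hfrob hχ hχM
  obtain ⟨hpos, hd⟩ := Helper83.irr_degree hθ
  refine ⟨charDegree θ, hpos, ?_, Helper83.irr_degree_dvd_card' hθ, ?_⟩
  · have h1 := Helper35.indFun_one_eq M θ
    rw [hd] at h1
    have h2 := (Helper83.irr_degree hχ).2
    rw [h1] at h2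
    exact_mod_cast h2.symm
  · have h3 := S1519.central_bound hθ (Z.subgroupOf M) (by
      intro x hx g
      have hxg : g * x * g⁻¹ = x := by
        apply Subtype.ext
        have := hZc (x : H) (Subgroup.mem_subgroupOf.mp hx) (g : H) g.2
        show (g : H) * (x : H) * (g : H)⁻¹ = (x : H)
        rw [← this]
        group
      rw [hxg, inv_mul_cancel])
    have h4 : Nat.card (Z.subgroupOf M) = Nat.card Z :=
      Nat.card_congr (Subgroup.subgroupOfEquivOfLe hZM).toEquiv
    rw [h4] at h3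
    exact h3

end FrobS

section NT

variable {H : Type*} [Group H]

/-- the irreducible characters of `H` that are not trivial on the subgroup `A` -/
def ntSet (A : Subgroup H) : Set (H → ℂ) :=
  {χ | IsIrrCharacter H χ ∧ ¬ ∀ a ∈ A, χ a = χ 1}

theorem ntSet_irr {A : Subgroup H} {χ : H → ℂ} (h : χ ∈ ntSet A) : IsIrrCharacter H χ := h.1

theorem ntSet_mono {A B : Subgroup H} (h : A ≤ B) : ntSet A ⊆ ntSet B :=
  fun _ hχ => ⟨hχ.1, fun hB => hχ.2 (fun a ha => hB a (h ha))⟩

theorem ntSet_finite [Finite H] (A : Subgroup H) : (ntSet A).Finite := by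
  have := Fintype.ofFinite H
  have := Helper4.irr_finite (G := H)
  have h1 : (Set.range (Subtype.val : IrrCharacter H → H → ℂ)).Finite := Set.finite_range _
  exact h1.subset (fun χ hχ => ⟨⟨χ, hχ.1⟩, rfl⟩)

/-- the finite set of irreducible characters of `H` not trivial on `A` -/
noncomputable def ntFin [Finite H] (A : Subgroup H) : Finset (H → ℂ) := (ntSet_finite A).toFinset

theorem mem_ntFin [Finite H] {A : Subgroup H} {χ : H → ℂ} : χ ∈ ntFin A ↔ χ ∈ ntSet A :=
  Set.Finite.mem_toFinset _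

theorem coe_ntFin [Finite H] (A : Subgroup H) : (↑(ntFin A) : Set (H → ℂ)) = ntSet A :=
  Set.Finite.coe_toFinset _

open Classical in
theorem sum_ntFin [Fintype H] [Fintype (IrrCharacter H)] (A : Subgroup H) {R : Type*}
    [AddCommMonoid R] (g : (H → ℂ) → R) :
    ∑ f ∈ ntFin A, g f = ∑ χ : IrrCharacter H,
      if (¬ ∀ a ∈ A, (χ : H → ℂ) a = (χ : H → ℂ) 1) then g (χ : H → ℂ) else 0 := by
  rw [← Finset.sum_filter]
  symm
  refine Finset.sum_bij (fun (χ : IrrCharacter H) _ => (χ : H → ℂ)) ?_ ?_ ?_ ?_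
  · intro χ hχ
    rw [Finset.mem_filter] at hχ
    exact mem_ntFin.mpr ⟨χ.2, hχ.2⟩
  · intro χ _ ψ _ h
    exact Subtype.ext h
  · intro f hf
    have hf' := mem_ntFin.mp hf
    exact ⟨⟨f, hf'.1⟩, by rw [Finset.mem_filter]; exact ⟨Finset.mem_univ _, hf'.2⟩, rfl⟩
  · intro χ _
    rfl

/-- the sum of the squares of the degrees of the irreducible characters not trivial on a
normal subgroup `A` -/
theorem sum_sq_ntFin [Fintype H] (A : Subgroup H) [A.Normal] :
    ∑ f ∈ ntFin A, charDegree f ^ 2 + A.index = Nat.card H := by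
  classical
  have := Helper4.irr_finite (G := H)
  let _ : Fintype (IrrCharacter H) := Fintype.ofFinite _
  have h1 := Helper83.sum_degree_sq (G := H)
  have h2 := Helper20.sum_sq_triv A
  have h3 : ((∑ f ∈ ntFin A, charDegree f ^ 2 : ℕ) : ℂ) = ∑ χ : IrrCharacter H,
      if (∀ a ∈ A, (χ : H → ℂ) a = (χ : H → ℂ) 1) then 0 else ((χ : H → ℂ) 1) ^ 2 := by
    rw [sum_ntFin, Nat.cast_sum]
    refine Finset.sum_congr rfl fun χ _ => ?_
    by_cases h : ∀ a ∈ A, (χ : H → ℂ) a = (χ : H → ℂ) 1
    · rw [if_pos h, if_neg (not_not.mpr h), Nat.cast_zero]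
    · rw [if_neg h, if_pos h, (Helper83.irr_degree χ.2).2]
      push_cast
      ring
  have h4 : ((∑ f ∈ ntFin A, charDegree f ^ 2 + A.index : ℕ) : ℂ) = (Nat.card H : ℂ) := by
    rw [Nat.cast_add, h3, ← h2, ← h1, ← Finset.sum_add_distrib]
    refine Finset.sum_congr rfl fun χ _ => ?_
    by_cases h : ∀ a ∈ A, (χ : H → ℂ) a = (χ : H → ℂ) 1
    · rw [if_pos h, if_pos h]
      ring
    · rw [if_neg h, if_neg h]
      ring
  exact_mod_cast h4

theorem charDegree_conjFun {χ : H → ℂ} (hχ : IsIrrCharacter H χ) :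
    charDegree (conjFun χ) = charDegree χ := by
  unfold charDegree
  rw [Helper35.conjFun_one_irr hχ]

/-- in a group of odd order the characters not trivial on `A` come in conjugate pairs -/
theorem ntSet_conj [Fintype H] (hodd : Odd (Nat.card H)) {A : Subgroup H} {χ : H → ℂ}
    (hχ : χ ∈ ntSet A) : conjFun χ ∈ ntSet A ∧ conjFun χ ≠ χ := by
  refine ⟨⟨Helper35.isIrr_conjFun hχ.1, ?_⟩, ?_⟩
  · intro h
    apply hχ.2
    intro a ha
    have h1 := h a ha
    simp only [conjFun] at h1
    exact (starRingEnd ℂ).injective h1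
  · intro h
    apply hχ.2
    have h1 : (⟨χ, hχ.1⟩ : IrrCharacter H) = Helper4.trivIrr := by
      apply Helper4.real_irr_eq_triv hodd
      intro g
      have h2 := congrFun h g
      simp only [conjFun] at h2
      exact Complex.conj_eq_iff_im.mp h2
    have h3 : χ = fun _ => 1 := congrArg Subtype.val h1
    intro a _
    rw [h3]

end NT

section FrobArith

variable {H : Type*} [Group H] [Fintype H] (M : Subgroup H) [hM : M.Normal]

/-- in a Frobenius group the index of the kernel divides the order of the kernel minus one -/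
theorem frob_index_dvd (hfrob : ∀ y : H, y ∉ M → ∀ k ∈ M, k * y = y * k → k = 1) :
    M.index ∣ Nat.card M - 1 := by
  classical
  let _ : Fintype M := Fintype.ofFinite _
  have h1 := sum_sq_ntFin M
  have h2 : M.index ^ 2 ∣ ∑ f ∈ ntFin M, charDegree f ^ 2 := by
    apply Finset.dvd_sum
    intro f hf
    have hf' := mem_ntFin.mp hf
    obtain ⟨t, -, ht, -, -⟩ := frob_irr_deg M hfrob hf'.1 hf'.2 ⊥ bot_le
      (fun z hz k _ => by rw [Subgroup.mem_bot.mp hz]; simp)
    rw [ht]
    exact pow_dvd_pow_of_dvd (Dvd.intro _ rfl) 2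
  have h3 := Subgroup.card_mul_index M
  have hpos : 0 < M.index := Nat.pos_of_ne_zero Subgroup.index_ne_zero_of_finite
  have hMpos : 0 < Nat.card M := Nat.card_pos
  have h4 : ∑ f ∈ ntFin M, charDegree f ^ 2 = M.index * (Nat.card M - 1) := by
    have h5 : M.index * (Nat.card M - 1) + M.index = Nat.card H := by
      rw [← h3]
      have h6 : Nat.card M = (Nat.card M - 1) + 1 := by omega
      conv_rhs => rw [h6]
      ring
    omega
  rw [h4, pow_two] at h2
  exact Nat.dvd_of_mul_dvd_mul_left hpos h2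

/-- an involution outside the kernel of a Frobenius group inverts the kernel, which is then
abelian -/
theorem frob_comm_of_involution (hfrob : ∀ y : H, y ∉ M → ∀ k ∈ M, k * y = y * k → k = 1)
    (x : H) (hx : x ∉ M) (hx2 : x * x = 1) : ∀ a ∈ M, ∀ b ∈ M, a * b = b * a := by
  have hxinv : x⁻¹ = x := inv_eq_of_mul_eq_one_left hx2
  let c : M → M := fun k => ⟨(k : H)⁻¹ * (x * (k : H) * x⁻¹),
    M.mul_mem (M.inv_mem k.2) (hM.conj_mem (k : H) k.2 x)⟩
  have hinj : Function.Injective c := by
    intro k l hkl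
    have h1 : (k : H)⁻¹ * (x * (k : H) * x⁻¹) = (l : H)⁻¹ * (x * (l : H) * x⁻¹) :=
      congrArg Subtype.val hkl
    have h2 : (l : H) * (k : H)⁻¹ * x = x * ((l : H) * (k : H)⁻¹) := by
      calc (l : H) * (k : H)⁻¹ * x
          = (l : H) * ((k : H)⁻¹ * (x * (k : H) * x⁻¹)) * x * (k : H)⁻¹ := by group
        _ = (l : H) * ((l : H)⁻¹ * (x * (l : H) * x⁻¹)) * x * (k : H)⁻¹ := by rw [h1]
        _ = x * ((l : H) * (k : H)⁻¹) := by group
    have h3 := hfrob x hx _ (M.mul_mem l.2 (M.inv_mem k.2)) h2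
    apply Subtype.ext
    exact (mul_inv_eq_one.mp h3).symm
  have hsurj : Function.Surjective c := Finite.injective_iff_surjective.mp hinj
  have hinvert : ∀ g ∈ M, x * g * x⁻¹ = g⁻¹ := by
    intro g hg
    obtain ⟨k, hk⟩ := hsurj ⟨g, hg⟩
    have hk' : (k : H)⁻¹ * (x * (k : H) * x⁻¹) = g := congrArg Subtype.val hk
    rw [← hk']
    have h4 : x * ((k : H)⁻¹ * (x * (k : H) * x⁻¹)) * x⁻¹ =
        x * (k : H)⁻¹ * x⁻¹ * ((x * x) * (k : H) * (x * x)⁻¹) := by group
    rw [h4, hx2]
    group
  intro a ha b hb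
  have h5 : x * (a * b) * x⁻¹ = (x * a * x⁻¹) * (x * b * x⁻¹) := by group
  rw [hinvert _ (M.mul_mem ha hb), hinvert a ha, hinvert b hb, mul_inv_rev] at h5
  have h6 := congrArg (fun z => z⁻¹) h5
  simpa using h6

/-- a Frobenius group whose kernel is non-abelian of odd order has odd order -/
theorem frob_odd (hfrob : ∀ y : H, y ∉ M → ∀ k ∈ M, k * y = y * k → k = 1)
    (hMnc : ¬ ∀ a ∈ M, ∀ b ∈ M, a * b = b * a) (hMo : Odd (Nat.card M)) :
    Odd (Nat.card H) := by
  by_contra hne
  rw [Nat.not_odd_iff_even] at hne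
  have h2 : 2 ∣ Fintype.card H := by
    rw [← Nat.card_eq_fintype_card]
    exact even_iff_two_dvd.mp hne
  have : Fact (Nat.Prime 2) := ⟨Nat.prime_two⟩
  obtain ⟨x, hx⟩ := exists_prime_orderOf_dvd_card 2 h2
  have hxM : x ∉ M := by
    intro h
    have h3 : orderOf (⟨x, h⟩ : M) = 2 := by
      rw [← hx]
      exact Subgroup.orderOf_mk x h
    have h4 : 2 ∣ Nat.card M := by
      rw [← h3]
      exact orderOf_dvd_natCard _
    exact (Nat.not_even_iff_odd.mpr hMo) (even_iff_two_dvd.mpr h4)
  have hx2 : x * x = 1 := by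
    have := pow_orderOf_eq_one x
    rwa [hx, pow_two] at this
  exact hMnc (frob_comm_of_involution M hfrob x hxM hx2)

end FrobArith

end Cfsg.Agent.Lib.Helper35
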