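import Mathlib
import Cfsg.Agent.Lib.Helper22.HPDefs
import Cfsg.Agent.Lib.Helper22.HPDefs2
import Cfsg.Agent.Lib.Helper31.HPETA
import Cfsg.Agent.Lib.Helper83.Linear

/-!
# S4504 project, piece HP-STAR-COUNT-EVEN (helper35): the counting piece `hp_count` for even `e`
-/

set_option autoImplicit false
set_option linter.style.haveILetI false
set_option linter.unusedVariables false

namespace Cfsg.Agent.Lib.Helper35.HPT

open Cfsg Cfsg.Agent.Lib.Helper22.BFD Cfsg.Agent.Lib.Helper22.HPD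
open scoped ComplexConjugate

universe u

open Classical in
/-- sum of `|eta_t|^2` over `t ≠ 0` -/
theorem hce_eta_sum (p : ℕ) [Fact p.Prime] (e : ℕ) (hdeg : 2 * e + 1 = p) (he2 : 2 ≤ e) (ζ : ℂ)
    (hζ : IsPrimitiveRoot ζ p) :
    ∑ t ∈ Finset.univ.filter (fun t : ZMod p => t ≠ 0), ‖eta p ζ t‖ ^ 2 =
      (e : ℝ) * ((e : ℝ) + 1) := by
  obtain ⟨-, h0, -, -, hsum, -⟩ := Cfsg.Agent.Lib.Helper31.HPT.eta_facts p (by omega) ζ hζ
  have hpe : (p - 1) / 2 = e := by omega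
  rw [hpe] at h0 hsum
  have h1 : ∑ t : ZMod p, ‖eta p ζ t‖ ^ 2 = (p : ℝ) * e := by
    have h2 : ((∑ t : ZMod p, ‖eta p ζ t‖ ^ 2 : ℝ) : ℂ) = ((p * e : ℕ) : ℂ) := by
      rw [← hsum]
      push_cast
      refine Finset.sum_congr rfl fun t _ => ?_
      rw [Complex.mul_conj']
    have h3 : ((∑ t : ZMod p, ‖eta p ζ t‖ ^ 2 : ℝ) : ℂ) = (((p : ℝ) * e : ℝ) : ℂ) := by
      rw [h2]; push_cast; ring
    exact_mod_cast h3
  have h4 : ∑ t : ZMod p, ‖eta p ζ t‖ ^ 2 = ‖eta p ζ 0‖ ^ 2 +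
      ∑ t ∈ Finset.univ.filter (fun t : ZMod p => t ≠ 0), ‖eta p ζ t‖ ^ 2 := by
    rw [← Finset.sum_filter_add_sum_filter_not Finset.univ (fun t : ZMod p => t = 0)]
    congr 1
    rw [Finset.filter_eq', if_pos (Finset.mem_univ _), Finset.sum_singleton]
  rw [h1, h0, Complex.norm_natCast] at h4
  have : (p : ℝ) = 2 * e + 1 := by rw [← hdeg]; push_cast; ring
  rw [this] at h4
  linarith

open Classical in
theorem hce_reindex (p : ℕ) [Fact p.Prime] (s : ZMod p) (hs : s ≠ 0) (f : ZMod p → ℝ) :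
    ∑ t ∈ Finset.univ.filter (fun t : ZMod p => t ≠ 0), f (s * t) =
      ∑ t ∈ Finset.univ.filter (fun t : ZMod p => t ≠ 0), f t := by
  refine Finset.sum_equiv (Equiv.mulLeft₀ s hs) ?_ ?_
  · intro t
    simp [hs]
  · intro t _
    simp

open Classical in
/-- values of an exceptional character on the powers of `z` -/
theorem hce_X {G : Type u} [Group G] (p : ℕ) [Fact p.Prime] (e : ℕ) (he2 : 2 ≤ e)
    (hdeg : 2 * e + 1 = p) (z : G) (ζ : ℂ) (hζ : IsPrimitiveRoot ζ p) (k : ℕ)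
    (hs0 : (k : ZMod p) ≠ 0) (hsq : (k : ZMod p) ∉ Sq p) (hz : orderOf z = p) (ψ : G → ℂ) (c : ℂ)
    (hc : c = 1 ∨ c = -1)
    (h : (∀ t : ZMod p, t ≠ 0 → ψ (z ^ t.val) = c * eta p ζ t) ∨
      (∀ t : ZMod p, t ≠ 0 → ψ (z ^ t.val) = c * eta p ζ ((k : ZMod p) * t))) :
    ψ z ≠ ψ (z ^ k) ∧ ψ z + ψ (z ^ k) = -c ∧
      ψ (z ^ ((k : ZMod p) * (k : ZMod p)).val) = ψ z ∧
      ∑ t ∈ Finset.univ.filter (fun t : ZMod p => t ≠ 0), ‖ψ (z ^ t.val)‖ ^ 2 =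
        (e : ℝ) * ((e : ℝ) + 1) := by
  have hp : p.Prime := Fact.out
  have hp2 : p ≠ 2 := by omega
  obtain ⟨-, -, -, hsqinv, -, hη⟩ := Cfsg.Agent.Lib.Helper31.HPT.eta_facts p hp2 ζ hζ
  obtain ⟨-, hη2⟩ := hη (k : ZMod p) hs0 hsq
  have hss : (k : ZMod p) * (k : ZMod p) ∈ Sq p := by
    rw [Cfsg.Agent.Lib.Helper31.HPT.eta_aux_mem]
    exact ⟨mul_ne_zero hs0 hs0, ⟨(k : ZMod p), rfl⟩⟩
  have hE2 : eta p ζ 1 + eta p ζ (k : ZMod p) = -1 := by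
    have := (hη2 1 one_ne_zero).1
    rwa [mul_one] at this
  have hE3 : eta p ζ 1 ≠ eta p ζ (k : ZMod p) := by
    intro h
    have := (hη2 1 one_ne_zero).2
    rw [mul_one, h, sub_self, norm_zero] at this
    have hp0 : (p : ℝ) ≠ 0 := by exact_mod_cast hp.ne_zero
    exact hp0 (by rw [← this]; norm_num)
  have hE4 : eta p ζ ((k : ZMod p) * (k : ZMod p)) = eta p ζ 1 := by
    have := hsqinv ((k : ZMod p) * (k : ZMod p)) hss 1
    rwa [mul_one] at this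
  have hE4' : eta p ζ ((k : ZMod p) * ((k : ZMod p) * (k : ZMod p))) = eta p ζ (k : ZMod p) := by
    have := hsqinv ((k : ZMod p) * (k : ZMod p)) hss (k : ZMod p)
    rw [mul_comm (k : ZMod p) ((k : ZMod p) * (k : ZMod p))]; exact this
  have hz1 : z ^ (1 : ZMod p).val = z := by rw [ZMod.val_one, pow_one]
  have hzk : z ^ (k : ZMod p).val = z ^ k := by rw [ZMod.val_natCast, ← hz, pow_mod_orderOf]
  have hc0 : c ≠ 0 := by rcases hc with rfl | rfl <;> norm_num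
  have hcn : ‖c‖ = 1 := by rcases hc with rfl | rfl <;> simp
  have hv1 : ψ z = ψ (z ^ (1 : ZMod p).val) := by rw [hz1]
  have hvk : ψ (z ^ k) = ψ (z ^ (k : ZMod p).val) := by rw [hzk]
  rcases h with h | h
  · have a1 : ψ z = c * eta p ζ 1 := by rw [hv1, h 1 one_ne_zero]
    have ak : ψ (z ^ k) = c * eta p ζ (k : ZMod p) := by rw [hvk, h _ hs0]
    have akk : ψ (z ^ ((k : ZMod p) * (k : ZMod p)).val) = c * eta p ζ 1 := by
      rw [h _ (mul_ne_zero hs0 hs0), hE4]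
    refine ⟨?_, ?_, ?_, ?_⟩
    · rw [a1, ak]; intro h'; exact hE3 (mul_left_cancel₀ hc0 h')
    · rw [a1, ak, ← mul_add, hE2]; ring
    · rw [akk, a1]
    · rw [← hce_eta_sum p e hdeg he2 ζ hζ]
      refine Finset.sum_congr rfl fun t ht => ?_
      rw [h t (Finset.mem_filter.mp ht).2, norm_mul, hcn, one_mul]
  · have a1 : ψ z = c * eta p ζ (k : ZMod p) := by rw [hv1, h 1 one_ne_zero, mul_one]
    have ak : ψ (z ^ k) = c * eta p ζ 1 := by rw [hvk, h _ hs0, hE4]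
    have akk : ψ (z ^ ((k : ZMod p) * (k : ZMod p)).val) = c * eta p ζ (k : ZMod p) := by
      rw [h _ (mul_ne_zero hs0 hs0), hE4']
    refine ⟨?_, ?_, ?_, ?_⟩
    · rw [a1, ak]; intro h'; exact hE3 (mul_left_cancel₀ hc0 h').symm
    · rw [a1, ak, ← mul_add, add_comm, hE2]; ring
    · rw [akk, a1]
    · rw [← hce_eta_sum p e hdeg he2 ζ hζ,
        ← hce_reindex p (k : ZMod p) hs0 (fun t => ‖eta p ζ t‖ ^ 2)]
      refine Finset.sum_congr rfl fun t ht => ?_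
      rw [h t (Finset.mem_filter.mp ht).2, norm_mul, hcn, one_mul]

open Classical in
/-- PIECE HP-STAR-COUNT-EVEN: the counting piece `hp_count` for even `e` -/
theorem hp_count_even {G : Type u} [Group G] [Fintype G] [Fintype (IrrCharacter G)]
    (p : ℕ) [Fact p.Prime] (hdiv : p ∣ Nat.card G) (e : ℕ) (he2 : 2 ≤ e) (hev : Even e)
    (hdeg : 2 * e + 1 = p)
    (z : G) (ζ : ℂ)
    (hζ : IsPrimitiveRoot ζ p) (k : ℕ) (hk : GalExp p G k) (m₁ m₂ : IrrCharacter G → ℕ)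
    (h11 : ∀ φ : IrrCharacter G, φ.1 = (fun _ => 1) → m₁ φ = 1)
    (hd1 : ∑ φ : IrrCharacter G, m₁ φ * charDegree φ.1 = e ^ 2)
    (hd2 : ∑ φ : IrrCharacter G, m₂ φ * charDegree φ.1 = e ^ 2)
    (hn : ∑ φ : IrrCharacter G, (m₂ φ) ^ 2 ≤ ∑ φ : IrrCharacter G, (m₁ φ) ^ 2)
    (hl1 : ∀ φ : IrrCharacter G, φ.1 ≠ (fun _ => 1) → m₁ φ ≠ 0 →
      TrivZ φ.1 ∧ ((IsEp p z φ.1 ∧ charDegree φ.1 = p + 1) ∨
        (IsXp p ζ z k φ.1 ∧ charDegree φ.1 = e + 1)))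
    (hl2 : ∀ φ : IrrCharacter G, m₂ φ ≠ 0 →
      TrivZ φ.1 ∧ ((IsEm p z φ.1 ∧ charDegree φ.1 = p - 1) ∨
        (IsXm p ζ z k φ.1 ∧ charDegree φ.1 = e)))
    (hmu : ∀ φ : IrrCharacter G, φ.1 ≠ (fun _ => 1) → m₁ φ ≠ 0 → m₁ φ = 1)
    (hbud : ∑ φ ∈ Finset.univ.filter (fun φ : IrrCharacter G => TrivZ φ.1),
      ∑ t ∈ Finset.univ.filter (fun t : ZMod p => t ≠ 0), ‖φ.1 (z ^ t.val)‖ ^ 2 =
        (p : ℝ) * ((p : ℝ) - 1))
    (huq : ∀ φ ψ : IrrCharacter G, TrivZ φ.1 → TrivZ ψ.1 → φ.1 z ≠ φ.1 (z ^ k) →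
      ψ.1 z ≠ ψ.1 (z ^ k) → ψ = φ ∨ ψ = gc hk φ)
    (hgc1 : ∀ φ : IrrCharacter G, gc hk (gc hk φ) = φ)
    (hgc2 : ∀ (φ : IrrCharacter G) (t : ZMod p),
      (gc hk φ).1 (z ^ t.val) = φ.1 (z ^ ((k : ZMod p) * t).val))
    (hgc3 : ∀ φ : IrrCharacter G, TrivZ φ.1 → TrivZ (gc hk φ).1)
    (hz : orderOf z = p) (hdg : ∀ φ : IrrCharacter G, φ.1 1 = (charDegree φ.1 : ℂ)) :
    ∃ φ₀ : IrrCharacter G, TrivZ φ₀.1 ∧ gc hk φ₀ ≠ φ₀ ∧
      (∀ φ : IrrCharacter G, TrivZ φ.1 → φ ≠ φ₀ → φ ≠ gc hk φ₀ →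
        φ.1 z * (φ.1 z + φ.1 (z ^ k)) / φ.1 1 =
          (if φ.1 = (fun _ => 1) then 2 - 1 / ((e : ℂ) + 1) else 0) +
            (m₁ φ : ℂ) / ((e : ℂ) + 1) + (m₂ φ : ℂ) / (e : ℂ)) ∧
      φ₀.1 z * (φ₀.1 z + φ₀.1 (z ^ k)) / φ₀.1 1 +
          (gc hk φ₀).1 z * ((gc hk φ₀).1 z + (gc hk φ₀).1 (z ^ k)) / (gc hk φ₀).1 1 =
        ((m₁ φ₀ : ℂ) + (m₁ (gc hk φ₀) : ℂ)) / ((e : ℂ) + 1) +
          ((m₂ φ₀ : ℂ) + (m₂ (gc hk φ₀) : ℂ)) / (e : ℂ) := by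
  have hp : p.Prime := Fact.out
  have hs0 : (k : ZMod p) ≠ 0 := by
    intro h
    have h0 : p ∣ k := (ZMod.natCast_eq_zero_iff k p).mp h
    have h1 : p ∣ Nat.gcd k (Nat.card G) := Nat.dvd_gcd h0 hdiv
    rw [Nat.Coprime.gcd_eq_one hk.cop] at h1
    exact hp.one_lt.ne' (Nat.dvd_one.mp h1)
  have hsq : (k : ZMod p) ∉ Sq p := hk.nsq
  have hz1 : z ^ (1 : ZMod p).val = z := by rw [ZMod.val_one, pow_one]
  have hzk : z ^ (k : ZMod p).val = z ^ k := by rw [ZMod.val_natCast, ← hz, pow_mod_orderOf]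
  have he0 : (e : ℂ) ≠ 0 := by exact_mod_cast (by omega : e ≠ 0)
  have he1 : (e : ℂ) + 1 ≠ 0 := by exact_mod_cast Nat.succ_ne_zero e
  -- the trivial character
  obtain ⟨T, hT⟩ : ∃ T : IrrCharacter G, T.1 = fun _ => 1 :=
    ⟨Cfsg.Agent.Lib.Helper83.trivIrr G, rfl⟩
  have hTu : ∀ φ : IrrCharacter G, φ.1 = (fun _ => 1) → φ = T :=
    fun φ h => Subtype.ext (h.trans hT.symm)
  have hTd : charDegree T.1 = 1 := by
    have h := hdg T
    have h2 : T.1 1 = 1 := by rw [hT]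
    rw [h2] at h
    exact_mod_cast h.symm
  have hTm1 : m₁ T = 1 := h11 T hT
  have hTm2 : m₂ T = 0 := by
    by_contra h
    obtain ⟨-, h | h⟩ := hl2 T h
    · have := h.2; omega
    · have := h.2; omega
  have hTZ : TrivZ T.1 := by
    intro u _; rw [hT]
  -- an X+ constituent exists
  have hex : ∃ φ₀ : IrrCharacter G, φ₀.1 ≠ (fun _ => 1) ∧ m₁ φ₀ ≠ 0 ∧ IsXp p ζ z k φ₀.1 ∧
      charDegree φ₀.1 = e + 1 := by
    by_contra hno
    push_neg at hno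
    have h1 := Finset.add_sum_erase Finset.univ
      (fun φ : IrrCharacter G => m₁ φ * charDegree φ.1) (Finset.mem_univ T)
    have h2 : 2 ∣ ∑ φ ∈ Finset.univ.erase T, m₁ φ * charDegree φ.1 := by
      refine Finset.dvd_sum fun φ hφ => ?_
      have hφT : φ.1 ≠ fun _ => 1 := fun h => (Finset.ne_of_mem_erase hφ) (hTu φ h)
      by_cases hm : m₁ φ = 0
      · rw [hm, zero_mul]; exact dvd_zero 2
      · obtain ⟨-, h | h⟩ := hl1 φ hφT hm
        · rw [h.2, ← hdeg]; exact Dvd.dvd.mul_left ⟨e + 1, by ring⟩ _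
        · exact absurd h.2 (hno φ hφT hm h.1)
    obtain ⟨c, hc⟩ := h2
    obtain ⟨c', hc'⟩ := hev
    simp only [hTm1, hTd] at h1
    rw [hd1, hc] at h1
    have : e ^ 2 = 2 * (2 * c' * c') := by rw [hc']; ring
    omega
  obtain ⟨φ₀, hφ₀1, hφ₀m, hφ₀X, hφ₀d⟩ := hex
  have hφ₀Z : TrivZ φ₀.1 := (hl1 φ₀ hφ₀1 hφ₀m).1
  have hφ₀m1 : m₁ φ₀ = 1 := hmu φ₀ hφ₀1 hφ₀m
  have hXp : ∀ ψ : IrrCharacter G, IsXp p ζ z k ψ.1 →
      ψ.1 z ≠ ψ.1 (z ^ k) ∧ ψ.1 z + ψ.1 (z ^ k) = 1 ∧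
      ψ.1 (z ^ ((k : ZMod p) * (k : ZMod p)).val) = ψ.1 z ∧
      ∑ t ∈ Finset.univ.filter (fun t : ZMod p => t ≠ 0), ‖ψ.1 (z ^ t.val)‖ ^ 2 =
        (e : ℝ) * ((e : ℝ) + 1) := by
    intro ψ hψ
    have := hce_X p e he2 hdeg z ζ hζ k hs0 hsq hz ψ.1 (-1) (Or.inr rfl) (by
      rcases hψ with h | h
      · left; intro t ht; rw [h t ht]; ring
      · right; intro t ht; rw [h t ht]; ring)
    simpa using this
  have hXm : ∀ ψ : IrrCharacter G, IsXm p ζ z k ψ.1 → ψ.1 z ≠ ψ.1 (z ^ k) := by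
    intro ψ hψ
    exact (hce_X p e he2 hdeg z ζ hζ k hs0 hsq hz ψ.1 1 (Or.inl rfl) (by
      rcases hψ with h | h
      · left; intro t ht; rw [h t ht]; ring
      · right; intro t ht; rw [h t ht]; ring)).1
  obtain ⟨hφ₀ne, hφ₀sum, hφ₀kk, hφ₀bud⟩ := hXp φ₀ hφ₀X
  set φ₁ := gc hk φ₀ with hφ₁
  have hφ₁z : φ₁.1 z = φ₀.1 (z ^ k) := rfl
  have hφ₁k : φ₁.1 (z ^ k) = φ₀.1 z := by
    rw [← hzk, hφ₁, hgc2 φ₀ (k : ZMod p), hφ₀kk]
  have hφ₁ne : φ₁ ≠ φ₀ := by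
    intro h
    apply hφ₀ne
    rw [← hφ₁z, h]
  have hφ₁d : charDegree φ₁.1 = e + 1 := by
    have h1 : φ₁.1 1 = φ₀.1 1 := by
      show φ₀.1 (1 ^ k) = φ₀.1 1
      rw [one_pow]
    rw [hdg φ₁, hdg φ₀] at h1
    rw [← hφ₀d]
    exact_mod_cast h1
  have hφ₁Z : TrivZ φ₁.1 := hgc3 φ₀ hφ₀Z
  have hφ₀T : φ₀ ≠ T := fun h => hφ₀1 (by rw [h]; exact hT)
  have hφ₁T : φ₁ ≠ T := by
    intro h; rw [h, hTd] at hφ₁d; omega
  have hφ₁1 : φ₁.1 ≠ fun _ => 1 := fun h => hφ₁T (hTu φ₁ h)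
  have hall : ∀ ψ : IrrCharacter G, TrivZ ψ.1 → ψ.1 z ≠ ψ.1 (z ^ k) → ψ = φ₀ ∨ ψ = φ₁ :=
    fun ψ h1 h2 => huq φ₀ ψ hφ₀Z h1 hφ₀ne h2
  have hB : ∀ φ : IrrCharacter G, m₂ φ ≠ 0 →
      TrivZ φ.1 ∧ IsEm p z φ.1 ∧ charDegree φ.1 = 2 * e := by
    intro φ hm
    obtain ⟨hZ, h | h⟩ := hl2 φ hm
    · exact ⟨hZ, h.1, by rw [h.2]; omega⟩
    · exfalso
      rcases hall φ hZ (hXm φ h.1) with h' | h'
      · have := h.2; rw [h', hφ₀d] at this; omega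
      · have := h.2; rw [h', hφ₁d] at this; omega
  have hA : ∀ φ : IrrCharacter G, φ.1 ≠ (fun _ => 1) → m₁ φ ≠ 0 → φ ≠ φ₀ → φ ≠ φ₁ →
      TrivZ φ.1 ∧ IsEp p z φ.1 ∧ charDegree φ.1 = 2 * e + 2 := by
    intro φ h1 hm hn0 hn1
    obtain ⟨hZ, h | h⟩ := hl1 φ h1 hm
    · exact ⟨hZ, h.1, by rw [h.2]; omega⟩
    · exfalso
      rcases hall φ hZ (hXp φ h.1).1 with h' | h'
      · exact hn0 h'
      · exact hn1 h'
  have hφ₀m2 : m₂ φ₀ = 0 := by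
    by_contra h
    have := (hB φ₀ h).2.2; omega
  have hφ₁m2 : m₂ φ₁ = 0 := by
    by_contra h
    have := (hB φ₁ h).2.2; omega
  have hφ₁m1 : m₁ φ₁ = 0 := by
    by_contra hm
    have hm1 : m₁ φ₁ = 1 := hmu φ₁ hφ₁1 hm
    have h1 := Finset.add_sum_erase Finset.univ
      (fun φ : IrrCharacter G => m₁ φ * charDegree φ.1) (Finset.mem_univ T)
    have h2 := Finset.add_sum_erase (Finset.univ.erase T)
      (fun φ : IrrCharacter G => m₁ φ * charDegree φ.1)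
      (Finset.mem_erase.mpr ⟨hφ₀T, Finset.mem_univ φ₀⟩)
    have h3 := Finset.add_sum_erase ((Finset.univ.erase T).erase φ₀)
      (fun φ : IrrCharacter G => m₁ φ * charDegree φ.1)
      (Finset.mem_erase.mpr ⟨hφ₁ne, Finset.mem_erase.mpr ⟨hφ₁T, Finset.mem_univ φ₁⟩⟩)
    have h4 : 2 ∣ ∑ φ ∈ ((Finset.univ.erase T).erase φ₀).erase φ₁,
        m₁ φ * charDegree φ.1 := by
      refine Finset.dvd_sum fun φ hφ => ?_
      have hn1 : φ ≠ φ₁ := Finset.ne_of_mem_erase hφ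
      have hφ' := Finset.mem_of_mem_erase hφ
      have hn0 : φ ≠ φ₀ := Finset.ne_of_mem_erase hφ'
      have hφ'' := Finset.mem_of_mem_erase hφ'
      have hnT : φ ≠ T := Finset.ne_of_mem_erase hφ''
      have hφT : φ.1 ≠ fun _ => 1 := fun h => hnT (hTu φ h)
      by_cases hm : m₁ φ = 0
      · rw [hm, zero_mul]; exact dvd_zero 2
      · rw [(hA φ hφT hm hn0 hn1).2.2]
        exact Dvd.dvd.mul_left ⟨e + 1, by ring⟩ _
    obtain ⟨c, hc⟩ := h4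
    obtain ⟨c', hc'⟩ := hev
    simp only [hTm1, hTd, hφ₀m1, hφ₀d, hm1, hφ₁d] at h1 h2 h3
    rw [hd1] at h1
    rw [hc] at h3
    have : e ^ 2 = 2 * (2 * c' * c') := by rw [hc']; ring
    omega
  -- pointwise identities and the sums of the multiplicities
  have hP1 : ∀ φ : IrrCharacter G, m₁ φ * charDegree φ.1 + (if φ = T then 2 * e + 1 else 0) +
      (if φ = φ₀ then e + 1 else 0) = m₁ φ * (2 * e + 2) := by
    intro φ
    by_cases hφT : φ = T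
    · rw [hφT, if_pos rfl, if_neg (Ne.symm hφ₀T), hTm1, hTd]; ring
    · by_cases hφ0 : φ = φ₀
      · rw [hφ0, if_neg hφ₀T, if_pos rfl, hφ₀m1, hφ₀d]; ring
      · rw [if_neg hφT, if_neg hφ0]
        by_cases hm : m₁ φ = 0
        · rw [hm]; ring
        · have hφ1 : φ ≠ φ₁ := fun h => hm (by rw [h]; exact hφ₁m1)
          rw [(hA φ (fun h => hφT (hTu φ h)) hm hφ0 hφ1).2.2]; ring
  have hS1 : 2 * ∑ φ : IrrCharacter G, m₁ φ = e + 2 := by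
    have h := Finset.sum_congr (rfl : (Finset.univ : Finset (IrrCharacter G)) = Finset.univ)
      (fun φ _ => hP1 φ)
    rw [Finset.sum_add_distrib, Finset.sum_add_distrib, Finset.sum_ite_eq', Finset.sum_ite_eq',
      if_pos (Finset.mem_univ _), if_pos (Finset.mem_univ _), hd1, ← Finset.sum_mul] at h
    refine Nat.eq_of_mul_eq_mul_right (Nat.succ_pos e) ?_
    calc 2 * (∑ φ : IrrCharacter G, m₁ φ) * (e + 1)
        = (∑ φ : IrrCharacter G, m₁ φ) * (2 * e + 2) := by ring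
      _ = e ^ 2 + (2 * e + 1) + (e + 1) := h.symm
      _ = (e + 2) * (e + 1) := by ring
  have hP2 : ∀ φ : IrrCharacter G, m₁ φ ^ 2 = m₁ φ := by
    intro φ
    by_cases hm : m₁ φ = 0
    · rw [hm]; norm_num
    · by_cases hφT : φ.1 = fun _ => 1
      · rw [h11 φ hφT]; norm_num
      · rw [hmu φ hφT hm]; norm_num
  have hP3 : ∀ φ : IrrCharacter G, m₂ φ * charDegree φ.1 = m₂ φ * (2 * e) := by
    intro φ
    by_cases hm : m₂ φ = 0
    · rw [hm, zero_mul, zero_mul]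
    · rw [(hB φ hm).2.2]
  have hS2 : 2 * ∑ φ : IrrCharacter G, m₂ φ = e := by
    have h : ∑ φ : IrrCharacter G, m₂ φ * (2 * e) = e ^ 2 := by
      rw [← hd2]; exact Finset.sum_congr rfl fun φ _ => (hP3 φ).symm
    rw [← Finset.sum_mul] at h
    have he0' : 0 < e := by omega
    refine Nat.eq_of_mul_eq_mul_right he0' ?_
    calc 2 * (∑ φ : IrrCharacter G, m₂ φ) * e
        = (∑ φ : IrrCharacter G, m₂ φ) * (2 * e) := by ring
      _ = e ^ 2 := h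
      _ = e * e := by ring
  have hS3 : ∑ φ : IrrCharacter G, (m₂ φ) ^ 2 ≤ ∑ φ : IrrCharacter G, m₂ φ + 1 := by
    have h : ∑ φ : IrrCharacter G, (m₁ φ) ^ 2 = ∑ φ : IrrCharacter G, m₁ φ :=
      Finset.sum_congr rfl fun φ _ => hP2 φ
    rw [h] at hn
    omega
  have hP4 : ∀ φ : IrrCharacter G, m₂ φ ≤ 1 := by
    intro φ'
    by_contra h
    push_neg at h
    have h1 := Finset.add_sum_erase Finset.univ (fun φ : IrrCharacter G => (m₂ φ) ^ 2)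
      (Finset.mem_univ φ')
    have h2 := Finset.add_sum_erase Finset.univ (fun φ : IrrCharacter G => m₂ φ)
      (Finset.mem_univ φ')
    have h3 : ∑ φ ∈ Finset.univ.erase φ', m₂ φ ≤ ∑ φ ∈ Finset.univ.erase φ', (m₂ φ) ^ 2 :=
      Finset.sum_le_sum fun φ _ => Nat.le_self_pow (by norm_num) _
    have h4 : m₂ φ' + 2 ≤ (m₂ φ') ^ 2 := by nlinarith
    omega
  -- budgets
  have hcard : ∑ t ∈ Finset.univ.filter (fun t : ZMod p => t ≠ 0), (1 : ℝ) = 2 * e := by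
    rw [Finset.sum_const, Finset.filter_ne', Finset.card_erase_of_mem (Finset.mem_univ _),
      Finset.card_univ, ZMod.card, ← hdeg]
    simp
  have hBudE : ∀ φ : IrrCharacter G, (∀ t : ZMod p, t ≠ 0 → ‖φ.1 (z ^ t.val)‖ = 1) →
      ∑ t ∈ Finset.univ.filter (fun t : ZMod p => t ≠ 0), ‖φ.1 (z ^ t.val)‖ ^ 2 = 2 * e := by
    intro φ h
    rw [← hcard]
    refine Finset.sum_congr rfl fun t ht => ?_
    rw [h t (Finset.mem_filter.mp ht).2]; norm_num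
  have hBud1 : ∑ t ∈ Finset.univ.filter (fun t : ZMod p => t ≠ 0), ‖φ₁.1 (z ^ t.val)‖ ^ 2 =
      (e : ℝ) * ((e : ℝ) + 1) := by
    rw [← hφ₀bud, ← hce_reindex p (k : ZMod p) hs0 (fun t => ‖φ₀.1 (z ^ t.val)‖ ^ 2)]
    refine Finset.sum_congr rfl fun t _ => ?_
    rw [hφ₁, hgc2 φ₀ t]
  obtain ⟨L, hLdef⟩ : ∃ L : IrrCharacter G → ℝ, ∀ φ, L φ =
      2 * (e : ℝ) * ((m₁ φ : ℝ) + (m₂ φ : ℝ)) +
        (if φ = φ₀ then (e : ℝ) * ((e : ℝ) + 1) - 2 * e else 0) +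
        (if φ = φ₁ then (e : ℝ) * ((e : ℝ) + 1) else 0) := ⟨_, fun _ => rfl⟩
  have hLT : L T = 2 * e := by
    rw [hLdef, if_neg (Ne.symm hφ₀T), if_neg (Ne.symm hφ₁T), hTm1, hTm2]; push_cast; ring
  have hL0 : L φ₀ = e * (e + 1) := by
    rw [hLdef, if_pos rfl, if_neg (Ne.symm hφ₁ne), hφ₀m1, hφ₀m2]; push_cast; ring
  have hL1 : L φ₁ = e * (e + 1) := by
    rw [hLdef, if_neg hφ₁ne, if_pos rfl, hφ₁m1, hφ₁m2]; push_cast; ring
  have hLO : ∀ φ : IrrCharacter G, φ ≠ φ₁ → m₁ φ = 0 → m₂ φ = 0 → L φ = 0 := by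
    intro φ h1 hm hm'
    have h0 : φ ≠ φ₀ := fun h => by rw [h, hφ₀m1] at hm; exact one_ne_zero hm
    rw [hLdef, if_neg h0, if_neg h1, hm, hm']; push_cast; ring
  have hLB : ∀ φ : IrrCharacter G, m₂ φ ≠ 0 → L φ = 2 * e := by
    intro φ hm'
    have hd' := (hB φ hm').2.2
    have h0 : φ ≠ φ₀ := fun h => hm' (by rw [h]; exact hφ₀m2)
    have h1 : φ ≠ φ₁ := fun h => hm' (by rw [h]; exact hφ₁m2)
    have hm1 : m₂ φ = 1 := by have := hP4 φ; omega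
    have hm : m₁ φ = 0 := by
      by_contra hm
      by_cases hφT : φ.1 = fun _ => 1
      · rw [hTu φ hφT, hTd] at hd'; omega
      · have := (hA φ hφT hm h0 h1).2.2; omega
    rw [hLdef, if_neg h0, if_neg h1, hm, hm1]; push_cast; ring
  have hLA : ∀ φ : IrrCharacter G, φ.1 ≠ (fun _ => 1) → m₁ φ ≠ 0 → φ ≠ φ₀ → φ ≠ φ₁ →
      L φ = 2 * e ∧ m₂ φ = 0 := by
    intro φ hφT hm h0 h1
    have hd' := (hA φ hφT hm h0 h1).2.2
    have hm2 : m₂ φ = 0 := by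
      by_contra h
      have := (hB φ h).2.2; omega
    refine ⟨?_, hm2⟩
    rw [hLdef, if_neg h0, if_neg h1, hmu φ hφT hm, hm2]; push_cast; ring
  have hLle : ∀ φ : IrrCharacter G, TrivZ φ.1 →
      L φ ≤ ∑ t ∈ Finset.univ.filter (fun t : ZMod p => t ≠ 0), ‖φ.1 (z ^ t.val)‖ ^ 2 := by
    intro φ hZ
    by_cases hφT : φ = T
    · rw [hφT, hLT, hBudE T (fun t _ => by rw [hT]; simp)]
    · have hφT' : φ.1 ≠ fun _ => 1 := fun h => hφT (hTu φ h)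
      by_cases h0 : φ = φ₀
      · rw [h0, hL0, hφ₀bud]
      · by_cases h1 : φ = φ₁
        · rw [h1, hL1, hBud1]
        · by_cases hm : m₁ φ = 0
          · by_cases hm' : m₂ φ = 0
            · rw [hLO φ h1 hm hm']
              exact Finset.sum_nonneg fun t _ => by positivity
            · obtain ⟨-, hE, -⟩ := hB φ hm'
              rw [hLB φ hm', hBudE φ (fun t ht => by rw [hE t ht]; simp)]
          · obtain ⟨-, hE, -⟩ := hA φ hφT' hm h0 h1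
            rw [(hLA φ hφT' hm h0 h1).1, hBudE φ (fun t ht => by rw [hE t ht]; simp)]
  have hLz : ∀ φ : IrrCharacter G, ¬ TrivZ φ.1 → L φ = 0 := by
    intro φ hZ
    have h1 : φ ≠ φ₁ := fun h => hZ (by rw [h]; exact hφ₁Z)
    have hφT : φ.1 ≠ fun _ => 1 := fun h => hZ (by rw [hTu φ h]; exact hTZ)
    have hm : m₁ φ = 0 := by
      by_contra hm; exact hZ (hl1 φ hφT hm).1
    have hm' : m₂ φ = 0 := by
      by_contra hm'; exact hZ (hl2 φ hm').1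
    exact hLO φ h1 hm hm'
  have hSL : ∑ φ : IrrCharacter G, L φ = (p : ℝ) * ((p : ℝ) - 1) := by
    have h1 : ∑ φ : IrrCharacter G, L φ =
        2 * (e : ℝ) * (((∑ φ : IrrCharacter G, m₁ φ : ℕ) : ℝ) +
          ((∑ φ : IrrCharacter G, m₂ φ : ℕ) : ℝ)) +
        ((e : ℝ) * ((e : ℝ) + 1) - 2 * e) + (e : ℝ) * ((e : ℝ) + 1) := by
      simp only [hLdef]
      rw [Finset.sum_add_distrib, Finset.sum_add_distrib, Finset.sum_ite_eq',
        Finset.sum_ite_eq', if_pos (Finset.mem_univ _), if_pos (Finset.mem_univ _),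
        ← Finset.mul_sum, Finset.sum_add_distrib]
      push_cast
      ring
    have h2 : (2 : ℝ) * ((∑ φ : IrrCharacter G, m₁ φ : ℕ) : ℝ) = e + 2 := by
      exact_mod_cast hS1
    have h3 : (2 : ℝ) * ((∑ φ : IrrCharacter G, m₂ φ : ℕ) : ℝ) = e := by exact_mod_cast hS2
    have hpe : (p : ℝ) = 2 * e + 1 := by rw [← hdeg]; push_cast; ring
    rw [h1, hpe]
    linear_combination (e : ℝ) * h2 + (e : ℝ) * h3
  have hSLZ : ∑ φ ∈ Finset.univ.filter (fun φ : IrrCharacter G => TrivZ φ.1), L φ =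
      (p : ℝ) * ((p : ℝ) - 1) := by
    rw [← hSL]
    exact Finset.sum_subset (Finset.filter_subset _ _) (fun φ _ hφ =>
      hLz φ (fun h => hφ (Finset.mem_filter.mpr ⟨Finset.mem_univ _, h⟩)))
  have hEq := (Finset.sum_eq_sum_iff_of_le
    (fun φ hφ => hLle φ (Finset.mem_filter.mp hφ).2)).mp (hSLZ.trans hbud.symm)
  refine ⟨φ₀, hφ₀Z, hφ₁ne, ?_, ?_⟩
  · intro φ hZ hn0 hn1
    by_cases hφT : φ.1 = fun _ => 1
    · rw [if_pos hφT]
      have hφ : φ = T := hTu φ hφT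
      rw [hφ, hTm1, hTm2]
      simp only [hT]
      push_cast
      field_simp
      ring
    · rw [if_neg hφT]
      by_cases hm : m₁ φ = 0
      · by_cases hm' : m₂ φ = 0
        · have hb := hEq φ (Finset.mem_filter.mpr ⟨Finset.mem_univ _, hZ⟩)
          rw [hLO φ hn1 hm hm'] at hb
          have h1 := (Finset.sum_eq_zero_iff_of_nonneg (fun t _ => by positivity)).mp hb.symm 1
            (Finset.mem_filter.mpr ⟨Finset.mem_univ _, one_ne_zero⟩)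
          rw [hz1] at h1
          have hz0 : φ.1 z = 0 := by simpa using h1
          rw [hz0, hm, hm']
          simp
        · obtain ⟨-, hE, hd'⟩ := hB φ hm'
          have hm1 : m₂ φ = 1 := by have := hP4 φ; omega
          have v1 : φ.1 z = -1 := by have := hE 1 one_ne_zero; rwa [hz1] at this
          have vk : φ.1 (z ^ k) = -1 := by have := hE _ hs0; rwa [hzk] at this
          rw [v1, vk, hdg φ, hd', hm, hm1]
          push_cast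
          field_simp
          ring
      · obtain ⟨-, hE, hd'⟩ := hA φ hφT hm hn0 hn1
        have hm1 := hmu φ hφT hm
        have hm2 := (hLA φ hφT hm hn0 hn1).2
        have v1 : φ.1 z = 1 := by have := hE 1 one_ne_zero; rwa [hz1] at this
        have vk : φ.1 (z ^ k) = 1 := by have := hE _ hs0; rwa [hzk] at this
        rw [v1, vk, hdg φ, hd', hm1, hm2]
        push_cast
        field_simp
        ring
  · rw [hφ₁z, hφ₁k, hdg φ₀, hdg φ₁, hφ₀d, hφ₁d, hφ₀m1, hφ₁m1, hφ₀m2, hφ₁m2]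
    have h1 : φ₀.1 (z ^ k) = 1 - φ₀.1 z := by rw [← hφ₀sum]; ring
    rw [h1]
    push_cast
    field_simp
    ring

end Cfsg.Agent.Lib.Helper35.HPT
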