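import Mathlib

/-!
# S2075 (`|Out(He)| = 2`), piece SYL7 (helper35 for helper70)

Normalising an automorphism fixing `z` by inner automorphisms from `C(z)`.
-/

set_option autoImplicit false

namespace Cfsg.Agent.Lib.Helper35.HeOSYL7

open scoped Pointwise

/-- conjugation and powers -/
theorem syl7_conj_pow {G : Type} [Group G] {a b : G} (h : a * b * a⁻¹ = b ^ 2) (n : ℕ) :
    a * b ^ n * a⁻¹ = b ^ (2 * n) := by
  rw [← conj_pow, h, ← pow_mul]

/-- iterated conjugation -/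
theorem syl7_conj_pow_iter {G : Type} [Group G] {a b : G} (h : a * b * a⁻¹ = b ^ 2) (i n : ℕ) :
    a ^ i * b ^ n * (a ^ i)⁻¹ = b ^ (2 ^ i * n) := by
  induction i generalizing n with
  | zero => simp
  | succ i ih =>
    have h1 : a ^ (i + 1) * b ^ n * (a ^ (i + 1))⁻¹ =
        a ^ i * (a * b ^ n * a⁻¹) * (a ^ i)⁻¹ := by
      rw [pow_succ, mul_inv_rev]; simp only [mul_assoc]
    rw [h1, syl7_conj_pow h, ih]
    congr 1
    ring

/-- the cube of `a * b` when `a` squares `b` -/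
theorem syl7_cube {G : Type} [Group G] {a b : G} (h : a * b * a⁻¹ = b ^ 2) (ha : a ^ 3 = 1)
    (hb : b ^ 14 = 1) : (a * b) ^ 3 = 1 := by
  have hsw : ∀ n : ℕ, a * b ^ n = b ^ (2 * n) * a := by
    intro n
    rw [← syl7_conj_pow h n, inv_mul_cancel_right]
  have e1 : a * b = b ^ 2 * a := by
    have h1 := hsw 1
    rw [pow_one, mul_one] at h1
    exact h1
  have e2 : a * b ^ 2 = b ^ 4 * a := hsw 2
  have e4 : a * b ^ 4 = b ^ 8 * a := hsw 4
  have hb' : b ^ 2 * b ^ 4 * b ^ 8 = b ^ 14 := by rw [← pow_add, ← pow_add]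
  have ha' : a * a * a = a ^ 3 := by rw [pow_succ, pow_two]
  calc (a * b) ^ 3 = a * b * (a * b) * (a * b) := by rw [pow_succ, pow_two]
    _ = b ^ 2 * a * (b ^ 2 * a) * (b ^ 2 * a) := by rw [e1]
    _ = b ^ 2 * (a * b ^ 2) * (a * b ^ 2) * a := by simp only [mul_assoc]
    _ = b ^ 2 * (b ^ 4 * a) * (b ^ 4 * a) * a := by rw [e2]
    _ = b ^ 2 * b ^ 4 * (a * b ^ 4) * a * a := by simp only [mul_assoc]
    _ = b ^ 2 * b ^ 4 * (b ^ 8 * a) * a * a := by rw [e4]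
    _ = b ^ 2 * b ^ 4 * b ^ 8 * (a * a * a) := by simp only [mul_assoc]
    _ = 1 := by rw [hb', ha', hb, ha, one_mul]

/-- PIECE SYL7.  Normalising an automorphism fixing `z` by inner automorphisms from `C(z)`:
Sylow 7-subgroup `⟨x7⟩` of `C(z)`, `x3` acting on it by squaring, `C_{C(z)}(x7) = ⟨z⟩ × ⟨x7⟩`. -/
theorem normalize_seven {G : Type} [Group G] [Finite G] (z x7 x3 : G)
    (hcard : Nat.card (Subgroup.centralizer ({z} : Set G)) = 21504)
    (hz2 : z * z = 1)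
    (hx7 : x7 ^ 7 = 1) (hx71 : x7 ≠ 1) (hx7z : x7 * z = z * x7)
    (hx33 : x3 ^ 3 = 1) (hx3z : x3 * z = z * x3)
    (hx3 : x3 * x7 * x3⁻¹ = x7 ^ 2)
    (hcent : ∀ c : G, c * z = z * c → c * x7 = x7 * c → ∃ e j : ℕ, c = z ^ e * x7 ^ j)
    (φ : MulAut G) (hφ : φ z = z) :
    ∃ c : G, c * z = z * c ∧
      ((c * φ x7 * c⁻¹ = x7 ∧ c * φ x3 * c⁻¹ = x3) ∨
        (c * φ x7 * c⁻¹ = x7⁻¹ ∧ c * φ x3 * c⁻¹ = x3)) := by
  classical
  have : Fact (Nat.Prime 7) := ⟨by norm_num⟩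
  have ho7 : orderOf x7 = 7 := orderOf_eq_prime hx7 hx71
  have hred : ∀ n : ℕ, x7 ^ n = x7 ^ (n % 7) := by
    intro n
    have h := pow_mod_orderOf x7 n
    rw [ho7] at h
    exact h.symm
  have hφ7z : φ x7 * z = z * φ x7 := by
    have h := congrArg φ hx7z
    rwa [map_mul, map_mul, hφ] at h
  have hφ3z : φ x3 * z = z * φ x3 := by
    have h := congrArg φ hx3z
    rwa [map_mul, map_mul, hφ] at h
  have hφ77 : (φ x7) ^ 7 = 1 := by rw [← map_pow, hx7, map_one]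
  have hφ71 : φ x7 ≠ 1 := by
    intro h
    apply hx71
    apply φ.injective
    rw [h, map_one]
  -- Step A: Sylow conjugacy in `C(z)`
  obtain ⟨c1, hc1z, k, hk⟩ : ∃ c1 : G, c1 * z = z * c1 ∧ ∃ k : ℕ,
      c1 * φ x7 * c1⁻¹ = x7 ^ k := by
    have hmemC : ∀ g : G, g ∈ Subgroup.centralizer ({z} : Set G) ↔ g * z = z * g := by
      intro g
      rw [Subgroup.mem_centralizer_iff]
      constructor
      · intro h
        exact (h z rfl).symm
      · intro h y hy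
        rw [Set.mem_singleton_iff] at hy
        rw [hy]
        exact h.symm
    obtain ⟨a7, ha7⟩ : ∃ a : ↥(Subgroup.centralizer ({z} : Set G)), (a : G) = x7 :=
      ⟨⟨x7, (hmemC x7).mpr hx7z⟩, rfl⟩
    obtain ⟨b7, hb7⟩ : ∃ b : ↥(Subgroup.centralizer ({z} : Set G)), (b : G) = φ x7 :=
      ⟨⟨φ x7, (hmemC _).mpr hφ7z⟩, rfl⟩
    have hoa : orderOf a7 = 7 := by
      apply orderOf_eq_prime
      · apply Subtype.ext
        rw [Subgroup.coe_pow, ha7, hx7]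
        rfl
      · intro h
        apply hx71
        rw [← ha7, h]
        rfl
    have hob : orderOf b7 = 7 := by
      apply orderOf_eq_prime
      · apply Subtype.ext
        rw [Subgroup.coe_pow, hb7, hφ77]
        rfl
      · intro h
        apply hφ71
        rw [← hb7, h]
        rfl
    have hfac : (Nat.card ↥(Subgroup.centralizer ({z} : Set G))).factorization 7 = 1 := by
      rw [hcard]
      have h1 : (21504 : ℕ) = 7 * 3072 := by norm_num
      rw [h1, Nat.factorization_mul (by norm_num) (by norm_num)]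
      have h2 : (7 : ℕ).factorization 7 = 1 := Nat.Prime.factorization_self (by norm_num)
      have h3 : (3072 : ℕ).factorization 7 = 0 :=
        Nat.factorization_eq_zero_of_not_dvd (by norm_num)
      rw [Finsupp.add_apply, h2, h3]
    have hcA : Nat.card ↥(Subgroup.zpowers a7) =
        7 ^ (Nat.card ↥(Subgroup.centralizer ({z} : Set G))).factorization 7 := by
      rw [Nat.card_zpowers, hoa, hfac, pow_one]
    have hcB : Nat.card ↥(Subgroup.zpowers b7) =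
        7 ^ (Nat.card ↥(Subgroup.centralizer ({z} : Set G))).factorization 7 := by
      rw [Nat.card_zpowers, hob, hfac, pow_one]
    obtain ⟨g, hg⟩ := MulAction.exists_smul_eq ↥(Subgroup.centralizer ({z} : Set G))
      (Sylow.ofCard (Subgroup.zpowers b7) hcB) (Sylow.ofCard (Subgroup.zpowers a7) hcA)
    have h1 : MulAut.conj g • b7 ∈ MulAut.conj g • (Subgroup.zpowers b7) :=
      Subgroup.smul_mem_pointwise_smul _ _ _ (Subgroup.mem_zpowers b7)
    have h2 : MulAut.conj g • (Subgroup.zpowers b7) = Subgroup.zpowers a7 := by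
      have h := congrArg (fun P : Sylow 7 ↥(Subgroup.centralizer ({z} : Set G)) =>
        (P : Subgroup ↥(Subgroup.centralizer ({z} : Set G)))) hg
      exact h
    rw [h2] at h1
    obtain ⟨m, hm⟩ := Subgroup.mem_zpowers_iff.mp h1
    refine ⟨(g : G), (hmemC _).mp g.2, (m % 7).toNat, ?_⟩
    have h3 : (g : G) * φ x7 * (g : G)⁻¹ =
        ((a7 ^ m : ↥(Subgroup.centralizer ({z} : Set G))) : G) := by
      rw [hm, MulAut.smul_def, MulAut.conj_apply, Subgroup.coe_mul, Subgroup.coe_mul,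
        Subgroup.coe_inv, hb7]
    rw [h3, Subgroup.coe_zpow, ha7]
    have h5 : ((m % 7).toNat : ℤ) = m % 7 :=
      Int.toNat_of_nonneg (Int.emod_nonneg m (by norm_num))
    have h6 : x7 ^ m = x7 ^ (m % 7) := by
      have h := zpow_mod_orderOf x7 m
      rw [ho7] at h
      exact h.symm
    calc x7 ^ m = x7 ^ (m % 7) := h6
      _ = x7 ^ ((m % 7).toNat : ℤ) := by rw [h5]
      _ = x7 ^ (m % 7).toNat := zpow_natCast _ _
  -- Step B: adjust by a power of `x3`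
  have h6 : x7 ^ 6 = x7⁻¹ := by
    apply eq_inv_of_mul_eq_one_left
    rw [← pow_succ]
    exact hx7
  obtain ⟨c2, hc2z, hc2⟩ : ∃ c2 : G, c2 * z = z * c2 ∧
      (c2 * φ x7 * c2⁻¹ = x7 ∨ c2 * φ x7 * c2⁻¹ = x7⁻¹) := by
    have hx3iz : ∀ i : ℕ, x3 ^ i * z = z * x3 ^ i := by
      intro i
      exact (Commute.pow_left (show Commute x3 z from hx3z) i).eq
    obtain ⟨r, hr, hr7⟩ : ∃ r, k % 7 = r ∧ r < 7 := ⟨_, rfl, Nat.mod_lt _ (by norm_num)⟩
    have hkey : ∀ i : ℕ, (x3 ^ i * c1) * φ x7 * (x3 ^ i * c1)⁻¹ =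
        x7 ^ ((2 ^ i * r) % 7) := by
      intro i
      have h1 : (x3 ^ i * c1) * φ x7 * (x3 ^ i * c1)⁻¹ =
          x3 ^ i * (c1 * φ x7 * c1⁻¹) * (x3 ^ i)⁻¹ := by
        rw [mul_inv_rev]; simp only [mul_assoc]
      rw [h1, hk, hred k, hr, syl7_conj_pow_iter hx3, hred]
    have hcz : ∀ i : ℕ, (x3 ^ i * c1) * z = z * (x3 ^ i * c1) := by
      intro i
      rw [mul_assoc, hc1z, ← mul_assoc, hx3iz, mul_assoc]
    interval_cases r
    · exfalso
      have h2 : c1 * φ x7 * c1⁻¹ = 1 := by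
        rw [hk, hred k, hr, pow_zero]
      have h3 : φ x7 = 1 := by
        have h4 : φ x7 = c1⁻¹ * (c1 * φ x7 * c1⁻¹) * c1 := by group
        rw [h4, h2]
        group
      exact hφ71 h3
    · exact ⟨x3 ^ 0 * c1, hcz 0, Or.inl (by rw [hkey 0]; norm_num)⟩
    · exact ⟨x3 ^ 2 * c1, hcz 2, Or.inl (by rw [hkey 2]; norm_num)⟩
    · exact ⟨x3 ^ 1 * c1, hcz 1, Or.inr (by rw [hkey 1]; norm_num; exact h6)⟩
    · exact ⟨x3 ^ 1 * c1, hcz 1, Or.inl (by rw [hkey 1]; norm_num)⟩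
    · exact ⟨x3 ^ 2 * c1, hcz 2, Or.inr (by rw [hkey 2]; norm_num; exact h6)⟩
    · exact ⟨x3 ^ 0 * c1, hcz 0, Or.inr (by rw [hkey 0]; norm_num; exact h6)⟩
  -- Step C: the image of `x3`
  obtain ⟨y3, hy3⟩ : ∃ y : G, y = c2 * φ x3 * c2⁻¹ := ⟨_, rfl⟩
  obtain ⟨w, hw⟩ : ∃ w : G, w = c2 * φ x7 * c2⁻¹ := ⟨_, rfl⟩
  have hy33 : y3 ^ 3 = 1 := by
    rw [hy3, conj_pow, ← map_pow, hx33, map_one, mul_one, mul_inv_cancel]
  have hy3z : y3 * z = z * y3 := by
    have hc : Commute c2 z := hc2z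
    have hp : Commute (φ x3) z := hφ3z
    rw [hy3]
    exact ((hc.mul_left hp).mul_left hc.inv_left).eq
  have hyw : y3 * w * y3⁻¹ = w ^ 2 := by
    have hφx3 : φ x3 * φ x7 * (φ x3)⁻¹ = (φ x7) ^ 2 := by
      have h := congrArg φ hx3
      rwa [map_mul, map_mul, map_inv, map_pow] at h
    have e1 : y3 * w * y3⁻¹ = c2 * (φ x3 * φ x7 * (φ x3)⁻¹) * c2⁻¹ := by
      rw [hy3, hw]; group
    rw [e1, hφx3, hw, conj_pow]
  have hy7 : y3 * x7 * y3⁻¹ = x7 ^ 2 := by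
    rcases hc2 with h | h
    · rw [← hw] at h
      rw [h] at hyw
      exact hyw
    · rw [← hw] at h
      rw [h] at hyw
      have e2 : y3 * x7 * y3⁻¹ = (y3 * x7⁻¹ * y3⁻¹)⁻¹ := by group
      rw [e2, hyw, inv_pow, inv_inv]
  have hx3' : x3⁻¹ * x7 ^ 2 * x3 = x7 := by
    rw [← hx3]; group
  obtain ⟨d, hd⟩ : ∃ d : G, d = x3⁻¹ * y3 := ⟨_, rfl⟩
  have hdz : d * z = z * d := by
    have hc : Commute x3 z := hx3z
    have hp : Commute y3 z := hy3z
    rw [hd]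
    exact (hc.inv_left.mul_left hp).eq
  have hd7 : d * x7 = x7 * d := by
    calc d * x7 = x3⁻¹ * (y3 * x7 * y3⁻¹) * y3 := by rw [hd]; group
      _ = x3⁻¹ * x7 ^ 2 * y3 := by rw [hy7]
      _ = (x3⁻¹ * x7 ^ 2 * x3) * (x3⁻¹ * y3) := by
        simp only [mul_assoc, mul_inv_cancel_left]
      _ = x7 * d := by rw [hx3', hd]
  obtain ⟨e, j, hej⟩ := hcent d hdz hd7
  have hy3e : y3 = x3 * (z ^ e * x7 ^ j) := by
    rw [← hej, hd, mul_inv_cancel_left]
  -- `z ^ e = 1`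
  have hzx3 : Commute z x3 := hx3z.symm
  have hzx7 : Commute z x7 := hx7z.symm
  have hb14 : (x7 ^ j) ^ 14 = 1 := by
    rw [← pow_mul]
    have h : j * 14 = 7 * (j * 2) := by ring
    rw [h, pow_mul, hx7, one_pow]
  have hconj : x3 * x7 ^ j * x3⁻¹ = (x7 ^ j) ^ 2 := by
    rw [syl7_conj_pow hx3 j, ← pow_mul, mul_comm]
  have hcube : (x3 * x7 ^ j) ^ 3 = 1 := syl7_cube hconj hx33 hb14
  have hζ : z ^ e = 1 := by
    have hcomm : Commute (z ^ e) (x3 * x7 ^ j) :=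
      (hzx3.pow_left e).mul_right ((hzx7.pow_left e).pow_right j)
    have h1 : y3 = z ^ e * (x3 * x7 ^ j) := by
      rw [hy3e, ← mul_assoc, ← mul_assoc, (hzx3.pow_left e).eq]
    have h2 : (z ^ e) ^ 3 = 1 := by
      have h3 := hy33
      rw [h1, hcomm.mul_pow, hcube, mul_one] at h3
      exact h3
    have h4 : (z ^ e) ^ 2 = 1 := by
      rw [← pow_mul, mul_comm, pow_mul, pow_two, hz2, one_pow]
    have h5 : (z ^ e) ^ 3 = (z ^ e) ^ 2 * z ^ e := pow_succ _ _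
    rw [h5, h4, one_mul] at h2
    exact h2
  have hy3j : y3 = x3 * x7 ^ j := by
    rw [hy3e, hζ, one_mul]
  -- Step D: final conjugation by a power of `x7`
  have hsw : x7 ^ (2 * j) * x3 = x3 * x7 ^ j := by
    rw [← syl7_conj_pow hx3 j, inv_mul_cancel_right]
  have hczf : (x7 ^ (2 * j) * c2) * z = z * (x7 ^ (2 * j) * c2) := by
    have hc : Commute c2 z := hc2z
    have hp : Commute (x7 ^ (2 * j)) z := (hzx7.symm).pow_left _
    exact (hp.mul_left hc).eq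
  have hfin3 : (x7 ^ (2 * j) * c2) * φ x3 * (x7 ^ (2 * j) * c2)⁻¹ = x3 := by
    have h1 : (x7 ^ (2 * j) * c2) * φ x3 * (x7 ^ (2 * j) * c2)⁻¹ =
        x7 ^ (2 * j) * (c2 * φ x3 * c2⁻¹) * (x7 ^ (2 * j))⁻¹ := by
      rw [mul_inv_rev]; simp only [mul_assoc]
    rw [h1, ← hy3, hy3j, ← mul_assoc, hsw, mul_assoc, mul_assoc, ← mul_assoc (x7 ^ j),
      ← pow_add, ← two_mul, mul_inv_cancel, mul_one]
  have hfin7 : ∀ v : G, Commute x7 v → c2 * φ x7 * c2⁻¹ = v →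
      (x7 ^ (2 * j) * c2) * φ x7 * (x7 ^ (2 * j) * c2)⁻¹ = v := by
    intro v hv h
    have h1 : (x7 ^ (2 * j) * c2) * φ x7 * (x7 ^ (2 * j) * c2)⁻¹ =
        x7 ^ (2 * j) * (c2 * φ x7 * c2⁻¹) * (x7 ^ (2 * j))⁻¹ := by
      rw [mul_inv_rev]; simp only [mul_assoc]
    rw [h1, h, (hv.pow_left (2 * j)).eq, mul_inv_cancel_right]
  refine ⟨x7 ^ (2 * j) * c2, hczf, ?_⟩
  rcases hc2 with h | h
  · exact Or.inl ⟨hfin7 x7 (Commute.refl x7) h, hfin3⟩
  · exact Or.inr ⟨hfin7 x7⁻¹ (Commute.refl x7).inv_right h, hfin3⟩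

end Cfsg.Agent.Lib.Helper35.HeOSYL7
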