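import Mathlib

/-!
# Piece RC-N168 (helper48's project RC, S1157): `|N_G(S)| = 168`.

`N = N_G(S)` maps to `Aut S` with kernel `C_G(S) = S` of order `8`, so `|N| = 8 r` with
`r ∣ 168`; `r` is odd because `S` is a Sylow `2`-subgroup; `24 = |N ∩ C(J)|` divides `|N|`;
and `|N| ≠ 24` by Burnside's fusion theorem. Hence `|N| = 168`.
-/

set_option autoImplicit false

namespace Cfsg.Agent.Lib.Helper48.RC

theorem rcn168_arith (n r : ℕ) (hn : n = 8 * r) (hr : r ∣ 168) (hodd : ¬ 2 ∣ r)
    (h24 : 24 ∣ n) (hne : n ≠ 24) : n = 168 := by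
  subst hn
  have hle : r ≤ 168 := Nat.le_of_dvd (by norm_num) hr
  interval_cases r <;> omega

theorem normalizer_card_168 {G : Type*} [Group G] [Finite G] (S : Sylow 2 G) (J : G)
    (hJS : J ∈ S) (hS8 : Nat.card S = 8)
    (hCS : Subgroup.centralizer ((S : Subgroup G) : Set G) = S)
    (h24 : Nat.card ↥(Subgroup.normalizer ((S : Subgroup G) : Set G) ⊓
      Subgroup.centralizer {J}) = 24)
    (hfus : ∃ g : G, g * J * g⁻¹ ∈ S ∧ g * J * g⁻¹ ≠ J)
    (haut : Nat.card (MulAut ↥(S : Subgroup G)) ∣ 168) :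
    Nat.card ↥(Subgroup.normalizer ((S : Subgroup G) : Set G)) = 168 := by
  classical
  have : Fact (Nat.Prime 2) := ⟨Nat.prime_two⟩
  have hSN : (S : Subgroup G) ≤ Subgroup.normalizer ((S : Subgroup G) : Set G) :=
    Subgroup.le_normalizer
  have hker : (Subgroup.normalizerMonoidHom (S : Subgroup G)).ker =
      (S : Subgroup G).subgroupOf (Subgroup.normalizer ((S : Subgroup G) : Set G)) := by
    rw [Subgroup.normalizerMonoidHom_ker, hCS]
  have hkc : Nat.card (Subgroup.normalizerMonoidHom (S : Subgroup G)).ker = 8 := by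
    rw [hker, Nat.card_congr (Subgroup.subgroupOfEquivOfLe hSN).toEquiv]
    exact hS8
  have hrange : Nat.card (Subgroup.normalizerMonoidHom (S : Subgroup G)).range ∣ 168 :=
    (Subgroup.card_subgroup_dvd_card _).trans haut
  have hN8 : Nat.card (Subgroup.normalizer ((S : Subgroup G) : Set G)) =
      8 * Nat.card (Subgroup.normalizerMonoidHom (S : Subgroup G)).range := by
    rw [← Subgroup.index_ker, ← hkc, Subgroup.card_mul_index]
  have hodd : ¬ 2 ∣ Nat.card (Subgroup.normalizerMonoidHom (S : Subgroup G)).range := by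
    intro h2
    have h1 : Nat.card (Subgroup.normalizer ((S : Subgroup G) : Set G)) ∣ Nat.card G :=
      Subgroup.card_subgroup_dvd_card _
    have h3 : Nat.card G = 8 * (S : Subgroup G).index := by
      rw [← hS8]
      exact ((S : Subgroup G).card_mul_index).symm
    have h4 : ¬ 2 ∣ (S : Subgroup G).index := S.not_dvd_index
    rw [hN8, h3] at h1
    have h5 := (Nat.mul_dvd_mul_iff_left (by norm_num : 0 < 8)).mp h1
    exact h4 (h2.trans h5)
  have h24' : 24 ∣ Nat.card (Subgroup.normalizer ((S : Subgroup G) : Set G)) := by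
    rw [← h24]
    exact Subgroup.card_dvd_of_le inf_le_left
  have hne : Nat.card (Subgroup.normalizer ((S : Subgroup G) : Set G)) ≠ 24 := by
    intro h
    have hK : Subgroup.normalizer ((S : Subgroup G) : Set G) ⊓ Subgroup.centralizer {J} =
        Subgroup.normalizer ((S : Subgroup G) : Set G) := by
      apply Subgroup.eq_of_le_of_card_ge inf_le_left
      rw [h, h24]
    have hNC : Subgroup.normalizer ((S : Subgroup G) : Set G) ≤ Subgroup.centralizer {J} := by
      rw [← hK]; exact inf_le_right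
    obtain ⟨g, hgS, hgne⟩ := hfus
    have hJc : J ∈ Subgroup.centralizer ((S : Subgroup G) : Set G) := by rw [hCS]; exact hJS
    have hgc : g⁻¹⁻¹ * J * g⁻¹ ∈ Subgroup.centralizer ((S : Subgroup G) : Set G) := by
      rw [hCS, inv_inv]; exact hgS
    obtain ⟨n, hn, hnJ⟩ := Sylow.conj_eq_normalizer_conj_of_mem_centralizer S J g⁻¹ hJc hgc
    have hn' : n ∈ Subgroup.centralizer {J} := hNC hn
    rw [Subgroup.mem_centralizer_singleton_iff] at hn'
    apply hgne
    rw [inv_inv] at hnJ
    rw [hnJ, mul_assoc, ← hn', ← mul_assoc, inv_mul_cancel, one_mul]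
  exact rcn168_arith _ _ hN8 hrange hodd h24' hne

end Cfsg.Agent.Lib.Helper48.RC
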