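import Mathlib
import Cfsg.Agent.Lib.Helper72.SCDefs
import Cfsg.Agent.Lib.Helper40.HallHigman
import Cfsg.Agent.Lib.Helper75.FrattiniAct
import Cfsg.Agent.Lib.Helper41.Cores

/-!
# S4394 project SC, piece SC-KER (helper35): the kernel of `G` on the Frattini quotient of
`O_p(G)` is `O_p(G)` (for `p`-solvable `G` with `O_{p'}(G) = 1`)
-/

set_option autoImplicit false

namespace Cfsg.Agent.Lib.Helper35.SC

open Cfsg.Agent.Lib.Helper72.SC
open Cfsg
open scoped commutatorElement

universe u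

/-- SC-KER -/
theorem ker : KerStmt.{u} := by
  intro X _ _ p _ hS hO
  classical
  have hQ : IsPGroup p ↥(pCore p X) := Cfsg.Agent.Lib.Helper41.pCore_isPGroup p
  have hρ : ∀ (x : X) (q : ↥(pCore p X)),
      rho p X x (q : ↥(pCore p X) ⧸ frattini ↥(pCore p X)) =
        ((MulAut.conjNormal x q : ↥(pCore p X)) : ↥(pCore p X) ⧸ frattini ↥(pCore p X)) :=
    fun x q => rfl
  apply le_antisymm
  · have hK2 : IsPGroup p ↥(rho p X).ker := by
      by_contra hnot
      have hcard : ∃ q : ℕ, q.Prime ∧ q ≠ p ∧ q ∣ Nat.card ↥(rho p X).ker := by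
        by_contra hno
        push Not at hno
        apply hnot
        rw [IsPGroup.iff_card]
        exact ⟨_, Nat.eq_prime_pow_of_unique_prime_dvd Nat.card_pos.ne' (fun {d} hd hdvd => by
          by_contra hne; exact hno d hd hne hdvd)⟩
      obtain ⟨q, hq, hqp, hqdvd⟩ := hcard
      have : Fact q.Prime := ⟨hq⟩
      obtain ⟨⟨c, hcK⟩, hcord⟩ := exists_prime_orderOf_dvd_card' q hqdvd
      have hcord' : orderOf c = q := by rw [← hcord]; exact (Subgroup.orderOf_mk c hcK).symm
      have hcq : c ^ q ^ 1 = 1 := by rw [pow_one, ← hcord']; exact pow_orderOf_eq_one c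
      have hcent : c ∈ Subgroup.centralizer (pCore p X : Set X) := by
        apply Cfsg.Agent.Lib.Helper75.Fratt.mem_centralizer_of_frattini (p := p) (q := q)
          (Ne.symm hqp) (pCore p X) hQ c 1 hcq
        intro y hy
        have h1 : rho p X c ((⟨y, hy⟩ : ↥(pCore p X)) : ↥(pCore p X) ⧸ frattini ↥(pCore p X)) =
            ((⟨y, hy⟩ : ↥(pCore p X)) : ↥(pCore p X) ⧸ frattini ↥(pCore p X)) := by
          rw [MonoidHom.mem_ker.mp hcK]; rfl
        rw [hρ, QuotientGroup.eq_iff_div_mem] at h1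
        refine ⟨_, h1, ?_⟩
        simp [div_eq_mul_inv, MulAut.conjNormal_apply]
      have hcQ : c ∈ pCore p X := Cfsg.Agent.Lib.Helper40.centralizer_pCore_le hS hO hcent
      obtain ⟨k, hk⟩ := hQ ⟨c, hcQ⟩
      have hk' : c ^ p ^ k = 1 := congrArg Subtype.val hk
      have hdvd : q ∣ p ^ k := by rw [← hcord']; exact orderOf_dvd_of_pow_eq_one hk'
      have := (Nat.prime_dvd_prime_iff_eq hq (Fact.out : p.Prime)).mp (hq.dvd_of_dvd_pow hdvd)
      exact hqp this
    exact Cfsg.Agent.Lib.Helper41.le_pCore _ hK2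
  · intro q₀ hq₀
    rw [MonoidHom.mem_ker]
    ext v
    induction v using QuotientGroup.induction_on with
    | H q =>
      rw [hρ, MulAut.one_apply, QuotientGroup.eq]
      have h1 : (MulAut.conjNormal q₀ q : ↥(pCore p X)) = ⟨q₀, hq₀⟩ * q * ⟨q₀, hq₀⟩⁻¹ := by
        apply Subtype.ext
        simp [MulAut.conjNormal_apply]
      have h2 : (MulAut.conjNormal q₀ q : ↥(pCore p X))⁻¹ * q =
          ⁅(⟨q₀, hq₀⟩ : ↥(pCore p X)), q⁻¹⁆ := by
        rw [h1, commutatorElement_def]; group
      rw [h2]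
      apply Cfsg.Agent.Lib.Helper75.Fratt.commutator_le_frattini hQ
      rw [commutator_def]
      exact Subgroup.commutator_mem_commutator (Subgroup.mem_top _) (Subgroup.mem_top _)

end Cfsg.Agent.Lib.Helper35.SC
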