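import Mathlib
import Cfsg.Agent.Lib.Helper1.SPGXTDefs

/-!
# Project SPG-XT (helper1, S5662), piece XT-D2: Hilbert 90 for `GL_n` over a finite field.

If `B σ(B) ⋯ σ^(e-1)(B) = 1` for the Frobenius `σ` of a field of order `p ^ e`, then
`B = D σ(D)⁻¹` for an invertible `D` (Serre, Local Fields, X Prop. 3): average
`D = ∑ j < e, N_j σ^j(M)` and use Dedekind's independence of characters to find `M` with `D`
invertible.
-/

set_option autoImplicit false

namespace Cfsg.Agent.Lib.Helper35.SPGXTD2

open Matrix Cfsg.Agent.Lib.Helper1.SPGXT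

variable {n : ℕ} {F : Type*} [Field F] [Fintype F]

/-- The characters `c ↦ c ^ p ^ j`, `j < e`, of a field of order `p ^ e` are pairwise distinct. -/
theorem xtd2_pow_ne (p e : ℕ) [Fact p.Prime] (hq : Fintype.card F = p ^ e) (i j : ℕ)
    (hij : i < j) (hj : j < e) (h : ∀ c : F, c ^ p ^ i = c ^ p ^ j) : False := by
  classical
  have hp2 : 2 ≤ p := (Fact.out : p.Prime).two_le
  obtain ⟨g, hg⟩ := IsCyclic.exists_generator (α := Fˣ)
  have hord : orderOf g = p ^ e - 1 := by
    rw [orderOf_eq_card_of_forall_mem_zpowers hg, Nat.card_eq_fintype_card, Fintype.card_units, hq]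
  have h1 : p ^ i < p ^ j := Nat.pow_lt_pow_right (by omega) hij
  have h2 : p ^ j < p ^ e - 1 := by
    obtain ⟨d, rfl⟩ : ∃ d, e = d + 1 := ⟨e - 1, by omega⟩
    have h3 : p ^ j ≤ p ^ d := Nat.pow_le_pow_right (by omega) (by omega)
    have h4 : 2 ≤ p ^ d := by
      calc 2 ≤ p := hp2
        _ = p ^ 1 := (pow_one p).symm
        _ ≤ p ^ d := Nat.pow_le_pow_right (by omega) (by omega)
    have h5 : p ^ (d + 1) = p ^ d * p := pow_succ p d
    have h6 : p ^ d * 2 ≤ p ^ d * p := Nat.mul_le_mul_left _ hp2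
    omega
  have h3 : g ^ p ^ i = g ^ p ^ j := by
    apply Units.ext
    rw [Units.val_pow_eq_pow_val, Units.val_pow_eq_pow_val]
    exact h g
  have h4 : p ^ i = p ^ j :=
    pow_injOn_Iio_orderOf (x := g) (Set.mem_Iio.2 (by omega)) (Set.mem_Iio.2 (by omega)) h3
  omega

/-- The averaged matrix is fixed by `D ↦ B σ(D)`. -/
theorem xtd2_fix (p e : ℕ) [Fact p.Prime] [CharP F p] (hq : Fintype.card F = p ^ e)
    (B : Matrix (Fin n) (Fin n) F) (hN : tw (frobenius F p) B e = 1)
    (M : Matrix (Fin n) (Fin n) F) :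
    B * (∑ j ∈ Finset.range e,
        tw (frobenius F p) B j * M.map (iterateFrobenius F p j)).map (frobenius F p) =
      ∑ j ∈ Finset.range e, tw (frobenius F p) B j * M.map (iterateFrobenius F p j) := by
  have hmap : ∀ A : Matrix (Fin n) (Fin n) F,
      A.map (frobenius F p) = (frobenius F p).mapMatrix A := fun A => rfl
  rw [hmap, map_sum, Finset.mul_sum]
  have hterm : ∀ j, B * (frobenius F p).mapMatrix
        (tw (frobenius F p) B j * M.map (iterateFrobenius F p j)) =
      tw (frobenius F p) B (j + 1) * M.map (iterateFrobenius F p (j + 1)) := by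
    intro j
    rw [map_mul, ← Matrix.mul_assoc, tw_succ, RingHom.mapMatrix_apply, RingHom.mapMatrix_apply]
    congr 1
    ext a b
    simp only [Matrix.map_apply, iterateFrobenius_def, frobenius_def]
    rw [← pow_mul, ← pow_succ]
  rw [Finset.sum_congr rfl (fun j _ => hterm j)]
  have h0 : tw (frobenius F p) B 0 * M.map (iterateFrobenius F p 0) = M := by
    rw [tw_zero, Matrix.one_mul]
    ext a b
    rw [Matrix.map_apply, iterateFrobenius_def, pow_zero, pow_one]
  have he : tw (frobenius F p) B e * M.map (iterateFrobenius F p e) = M := by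
    rw [hN, Matrix.one_mul]
    ext a b
    rw [Matrix.map_apply, iterateFrobenius_def, ← hq, FiniteField.pow_card]
  have h1 := Finset.sum_range_succ
    (fun j => tw (frobenius F p) B j * M.map (iterateFrobenius F p j)) e
  have h2 := Finset.sum_range_succ'
    (fun j => tw (frobenius F p) B j * M.map (iterateFrobenius F p j)) e
  rw [h1] at h2
  beta_reduce at h2
  rw [h0, he] at h2
  exact (add_right_cancel h2).symm

/-- The averaged vector `b v = ∑ j < e, N_j σ^j(v)`. -/
def xtd2_b (p e : ℕ) [Fact p.Prime] [CharP F p] (B : Matrix (Fin n) (Fin n) F)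
    (v : Fin n → F) : Fin n → F :=
  ∑ j ∈ Finset.range e, tw (frobenius F p) B j *ᵥ (fun k => iterateFrobenius F p j (v k))

/-- The averaged vectors span `F ^ n` (Dedekind). -/
theorem xtd2_span (p e : ℕ) [Fact p.Prime] [CharP F p] (hq : Fintype.card F = p ^ e)
    (B : Matrix (Fin n) (Fin n) F) :
    Submodule.span F (Set.range (xtd2_b p e B)) = ⊤ := by
  classical
  by_contra hne
  obtain ⟨φ, hφ0, hφ⟩ := Submodule.exists_le_ker_of_lt_top _ (lt_top_iff_ne_top.2 hne)
  apply hφ0
  have he : 0 < e := by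
    rcases Nat.eq_zero_or_pos e with h0 | h0
    · exfalso
      rw [h0, pow_zero] at hq
      have h1 := Fintype.one_lt_card (α := F)
      omega
    · exact h0
  let χ : Fin e → (F →* F) := fun j => powMonoidHom (p ^ (j : ℕ))
  have hχ : Function.Injective χ := by
    intro i j hij
    by_contra hne'
    have hfun : ∀ c : F, c ^ p ^ (i : ℕ) = c ^ p ^ (j : ℕ) := fun c => by
      have h1 := DFunLike.congr_fun hij c
      simpa [χ] using h1
    rcases lt_or_gt_of_ne (fun h => hne' (Fin.ext h)) with h | h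
    · exact xtd2_pow_ne p e hq i j h j.2 hfun
    · exact xtd2_pow_ne p e hq j i h i.2 (fun c => (hfun c).symm)
  have hli : LinearIndependent F (fun j : Fin e => (χ j : F → F)) :=
    (linearIndependent_monoidHom F F).comp χ hχ
  refine LinearMap.ext fun v => ?_
  rw [LinearMap.zero_apply]
  have hsum : ∑ j : Fin e,
      φ (tw (frobenius F p) B j *ᵥ (fun k => iterateFrobenius F p j (v k))) • (χ j : F → F)
        = 0 := by
    funext c
    rw [Finset.sum_apply, Pi.zero_apply]
    have hmem : xtd2_b p e B (c • v) ∈ LinearMap.ker φ :=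
      hφ (Submodule.subset_span ⟨_, rfl⟩)
    rw [LinearMap.mem_ker] at hmem
    rw [← hmem]
    unfold xtd2_b
    rw [map_sum, ← Fin.sum_univ_eq_sum_range
      (fun j => φ (tw (frobenius F p) B j *ᵥ fun k => iterateFrobenius F p j ((c • v) k))) e]
    refine Finset.sum_congr rfl fun j _ => ?_
    rw [Pi.smul_apply, smul_eq_mul]
    have h1 : (fun k => iterateFrobenius F p (j : ℕ) ((c • v) k)) =
        (c ^ p ^ (j : ℕ)) • (fun k => iterateFrobenius F p (j : ℕ) (v k)) := by
      funext k
      simp [iterateFrobenius_def, mul_pow]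
    rw [h1, Matrix.mulVec_smul, map_smul, smul_eq_mul, mul_comm]
    rfl
  have h0 := Fintype.linearIndependent_iff.1 hli _ hsum ⟨0, he⟩
  have hv : (tw (frobenius F p) B 0 *ᵥ fun k => iterateFrobenius F p 0 (v k)) = v := by
    rw [tw_zero, Matrix.one_mulVec]
    funext k
    rw [iterateFrobenius_def, pow_zero, pow_one]
  have h0' : φ (tw (frobenius F p) B 0 *ᵥ fun k => iterateFrobenius F p 0 (v k)) = 0 := h0
  rw [hv] at h0'
  exact h0'

/-- PIECE XT-D2 -/
theorem XTD2 (hn : 1 ≤ n) (p e : ℕ) [Fact p.Prime] [CharP F p] (hq : Fintype.card F = p ^ e)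
    (B : Matrix (Fin n) (Fin n) F) (hN : tw (frobenius F p) B e = 1) :
    ∃ D : Matrix (Fin n) (Fin n) F, IsUnit D ∧ B * D.map (frobenius F p) = D := by
  classical
  have hspan := xtd2_span (n := n) p e hq B
  obtain ⟨f, hf, -, hli⟩ :=
    Submodule.exists_fun_fin_finrank_span_eq F (Set.range (xtd2_b p e B))
  have hrank : Module.finrank F (Submodule.span F (Set.range (xtd2_b p e B))) = n := by
    rw [hspan, finrank_top, Module.finrank_fin_fun]
  let f' : Fin n → (Fin n → F) := fun i => f (Fin.cast hrank.symm i)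
  have hli' : LinearIndependent F f' := hli.comp _ (Fin.cast_injective _)
  have hf' : ∀ i, ∃ v, xtd2_b p e B v = f' i := fun i => hf _
  choose v hv using hf'
  let M : Matrix (Fin n) (Fin n) F := Matrix.of fun r i => v i r
  refine ⟨∑ j ∈ Finset.range e, tw (frobenius F p) B j * M.map (iterateFrobenius F p j), ?_,
    xtd2_fix p e hq B hN M⟩
  rw [← Matrix.linearIndependent_cols_iff_isUnit]
  have hcol : (∑ j ∈ Finset.range e,
      tw (frobenius F p) B j * M.map (iterateFrobenius F p j)).col = f' := by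
    funext i r
    rw [← hv i]
    unfold xtd2_b
    rw [Matrix.col_apply, Matrix.sum_apply, Finset.sum_apply]
    refine Finset.sum_congr rfl fun j _ => ?_
    rw [Matrix.mul_apply]
    rfl
  rw [hcol]
  exact hli'

end Cfsg.Agent.Lib.Helper35.SPGXTD2
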