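import Mathlib
import Cfsg.Prelude.Def_GeometricClasses
import Cfsg.Prelude.Def_LieClassical
import Cfsg.Agent.Lib.Helper71.Asch0
import Cfsg.Agent.Lib.Helper60.SUQTF
import Cfsg.Agent.Lib.Helper50.SUQTFS
import Cfsg.Agent.Lib.Helper53.Hermitian
import Cfsg.Agent.Lib.Helper82.O9TIR
import Cfsg.Agent.Lib.Helper82.ASB8UNITS
import Cfsg.Agent.Lib.Helper29.SPPTens

/-!
# Project SU4 (helper50, S5784), piece T22N (helper35)

The stabiliser in `SU_4(q)` of a tensor decomposition `2 ⊗ 2` of the hermitian form has an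
absolutely irreducible normal subgroup fixing a non-degenerate bilinear form: `N` is the
subgroup of the stabiliser fixing the form `b = J ⊗ J` (every element of the tensor product
group scales `b`), and `N` contains `SU(G₁) ⊗ SU(G₂)`, which spans all matrices.
-/

set_option autoImplicit false

namespace Cfsg.Agent.Lib.Helper35.SU4T22N

open Matrix Cfsg.Geo Cfsg.Agent.Lib.Helper71.Asch
open scoped Kronecker

variable {n : ℕ} {F : Type*} [Field F] [Fintype F] {q : ℕ}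

omit [Fintype F] in
theorem su4t22n_form_eq {κ : Type} [Fintype κ] (σ : F → F) (G : Matrix κ κ F) (x y : κ → F) :
    formOfGram σ G x y = x ⬝ᵥ (G *ᵥ (σ ∘ y)) := by
  unfold formOfGram
  simp only [dotProduct, Matrix.mulVec, Function.comp_apply, Finset.mul_sum, mul_assoc]

omit [Fintype F] in
theorem su4t22n_form_mulVec {κ : Type} [Fintype κ] (φ : F →+* F) (G A : Matrix κ κ F)
    (x y : κ → F) :
    formOfGram φ G (A *ᵥ x) (A *ᵥ y) = formOfGram φ (Aᵀ * G * A.map φ) x y := by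
  rw [su4t22n_form_eq, su4t22n_form_eq]
  have h1 : (⇑φ) ∘ (A *ᵥ y) = A.map φ *ᵥ (⇑φ ∘ y) := by
    funext i
    simp only [Function.comp_apply, Matrix.mulVec, dotProduct, Matrix.map_apply, map_sum,
      map_mul]
  rw [h1]
  calc (A *ᵥ x) ⬝ᵥ (G *ᵥ (A.map φ *ᵥ (⇑φ ∘ y)))
      = (x ᵥ* Aᵀ) ⬝ᵥ (G *ᵥ (A.map φ *ᵥ (⇑φ ∘ y))) := by rw [Matrix.vecMul_transpose]
    _ = x ⬝ᵥ (Aᵀ *ᵥ (G *ᵥ (A.map φ *ᵥ (⇑φ ∘ y)))) :=
        (Matrix.dotProduct_mulVec x Aᵀ _).symm
    _ = x ⬝ᵥ ((Aᵀ * G * A.map φ) *ᵥ (⇑φ ∘ y)) := by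
        simp only [Matrix.mulVec_mulVec, Matrix.mul_assoc]

omit [Fintype F] in
theorem su4t22n_kron (φ : F →+* F) (a b G₁ G₂ : Matrix (Fin 2) (Fin 2) F) :
    (a ⊗ₖ b)ᵀ * (G₁ ⊗ₖ G₂) * (a ⊗ₖ b).map φ =
      (aᵀ * G₁ * a.map φ) ⊗ₖ (bᵀ * G₂ * b.map φ) := by
  have h1 : (a ⊗ₖ b)ᵀ = aᵀ ⊗ₖ bᵀ := (Matrix.kroneckerMap_transpose _ a b).symm
  have h2 : (a ⊗ₖ b).map φ = a.map φ ⊗ₖ b.map φ := by
    ext ⟨i, j⟩ ⟨i', j'⟩
    simp [Matrix.kroneckerMap_apply, Matrix.map_apply]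
  rw [h1, h2, ← Matrix.mul_kronecker_mul, ← Matrix.mul_kronecker_mul]

/-- the alternating matrix -/
def su4t22n_J (F : Type*) [Field F] : Matrix (Fin 2) (Fin 2) F := !![0, 1; -1, 0]

omit [Fintype F] in
theorem su4t22n_J_conj (a : Matrix (Fin 2) (Fin 2) F) :
    aᵀ * su4t22n_J F * a = a.det • su4t22n_J F := by
  ext i j
  fin_cases i <;> fin_cases j <;>
    simp [su4t22n_J, Matrix.mul_apply, Fin.sum_univ_two, Matrix.det_fin_two] <;> ring

omit [Fintype F] in
theorem su4t22n_JJ_sq :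
    (su4t22n_J F ⊗ₖ su4t22n_J F) * (su4t22n_J F ⊗ₖ su4t22n_J F) = 1 := by
  have h1 : su4t22n_J F * su4t22n_J F = (-1 : F) • (1 : Matrix (Fin 2) (Fin 2) F) := by
    ext i j
    fin_cases i <;> fin_cases j <;> simp [su4t22n_J, Matrix.mul_apply, Fin.sum_univ_two]
  rw [← Matrix.mul_kronecker_mul, h1, Matrix.smul_kronecker, Matrix.kronecker_smul, smul_smul,
    Matrix.one_kronecker_one]
  simp

omit [Fintype F] in
theorem su4t22n_JJ_transpose :
    (su4t22n_J F ⊗ₖ su4t22n_J F)ᵀ = su4t22n_J F ⊗ₖ su4t22n_J F := by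
  have h1 : (su4t22n_J F)ᵀ = (-1 : F) • su4t22n_J F := by
    ext i j
    fin_cases i <;> fin_cases j <;> simp [su4t22n_J]
  rw [← Matrix.kroneckerMap_transpose, h1, Matrix.smul_kronecker, Matrix.kronecker_smul,
    smul_smul]
  simp

/-- there is a norm-one element not fixed by the Frobenius -/
theorem su4t22n_zeta (hF : Fintype.card F = q ^ 2) (φ : F →+* F) (hφ : ∀ x, φ x = x ^ q)
    (hφφ : ∀ x, φ (φ x) = x) : ∃ ζ : F, ζ * φ ζ = 1 ∧ ζ - φ ζ ≠ 0 := by
  classical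
  have hq2 : 2 ≤ q := by
    by_contra hlt
    have h1 : 1 < Fintype.card F := Fintype.one_lt_card
    rw [hF] at h1
    have h4 : q ≤ 1 := by omega
    have h5 : q ^ 2 ≤ 1 ^ 2 := Nat.pow_le_pow_left h4 2
    omega
  obtain ⟨g, hg⟩ := IsCyclic.exists_generator (α := Fˣ)
  have hord : orderOf g = q ^ 2 - 1 := by
    rw [orderOf_eq_card_of_forall_mem_zpowers hg, Nat.card_eq_fintype_card, Fintype.card_units,
      hF]
  have hne : (g : F) ≠ 0 := g.ne_zero
  have hgq : ((g : F) ^ q) ≠ 0 := pow_ne_zero _ hne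
  have hkey : ((g : F) ^ q) ^ 2 ≠ (g : F) ^ 2 := by
    intro h
    have h1 : (g ^ q) ^ 2 = g ^ 2 := by
      apply Units.ext
      simpa using h
    have h2 : g ^ (2 * q - 2) = 1 := by
      have h3 : g ^ (2 * q - 2) * g ^ 2 = g ^ 2 := by
        rw [← pow_add, ← h1, ← pow_mul]
        congr 1
        omega
      exact mul_eq_right.mp h3
    have h4 := orderOf_dvd_of_pow_eq_one h2
    rw [hord] at h4
    have h5 := Nat.le_of_dvd (by omega) h4
    have h6 : 2 * q ≤ q * q := Nat.mul_le_mul_right q hq2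
    have h7 : q ^ 2 = q * q := sq q
    omega
  refine ⟨(g : F) ^ q * (g : F)⁻¹, ?_, ?_⟩
  · rw [map_mul, map_inv₀, hφ, hφ, Cfsg.Agent.Lib.Helper50.SUQTFS.suqtfs_frob2 hF]
    field_simp
  · rw [map_mul, map_inv₀, hφ, hφ, Cfsg.Agent.Lib.Helper50.SUQTFS.suqtfs_frob2 hF]
    intro h
    apply hkey
    have h1 : (g : F) ^ q * (g : F)⁻¹ = (g : F) * ((g : F) ^ q)⁻¹ := by
      linear_combination h
    field_simp at h1
    linear_combination h1

omit [Fintype F] in
theorem su4t22n_form_smul {κ : Type} [Fintype κ] (σ : F → F) (c : F) (G : Matrix κ κ F)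
    (x y : κ → F) : formOfGram σ (c • G) x y = c * formOfGram σ G x y := by
  unfold formOfGram
  simp only [Matrix.smul_apply, smul_eq_mul, Finset.mul_sum]
  apply Finset.sum_congr rfl
  intro i _
  apply Finset.sum_congr rfl
  intro j _
  ring

/-- the special unitary group of a non-degenerate hermitian form in dimension `2` spans all
matrices -/
theorem su4t22n_span (hF : Fintype.card F = q ^ 2) (φ : F →+* F) (hφ : ∀ x, φ x = x ^ q)
    (hφφ : ∀ x, φ (φ x) = x) (G : Matrix (Fin 2) (Fin 2) F) (hd : G.det ≠ 0)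
    (hh : ∀ a b, G a b = (G b a) ^ q) :
    Submodule.span F {a : Matrix (Fin 2) (Fin 2) F | a.det = 1 ∧ aᵀ * G * a.map φ = G} = ⊤ := by
  classical
  have hbij : Function.Bijective φ := Function.Involutive.bijective hφφ
  let σ : F ≃+* F := RingEquiv.ofBijective φ hbij
  have hσ : ∀ x, σ x = φ x := fun x => rfl
  have hσ1 : σ ≠ 1 := by
    obtain ⟨ν, hν⟩ := Cfsg.Agent.Lib.Helper60.SUQTF.tf_exists_moved hF
    intro h
    apply hν
    have h1 : σ ν = (1 : F ≃+* F) ν := by rw [h]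
    rw [hσ, hφ] at h1
    exact h1
  obtain ⟨B, hB, hGB⟩ := Cfsg.Agent.Lib.Helper53.Herm.exists_factor σ hσ1
    (fun x => by rw [hσ, hσ, hφφ]) G (fun i j => by rw [hσ, hφ]; exact (hh i j).symm) hd
  obtain ⟨D, hDdef⟩ : ∃ D : Matrix (Fin 2) (Fin 2) F, D = Bᵀ := ⟨_, rfl⟩
  have hDdet : IsUnit D.det := by rw [hDdef, Matrix.det_transpose]; exact hB
  have hG : G = Dᵀ * D.map φ := by
    rw [hGB, hDdef, Matrix.transpose_transpose]
    rfl
  obtain ⟨C, hCdef⟩ : ∃ C : Matrix (Fin 2) (Fin 2) F, C = D⁻¹ := ⟨_, rfl⟩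
  have hCD : C * D = 1 := by rw [hCdef]; exact Matrix.nonsing_inv_mul D hDdet
  have hDC : D * C = 1 := by rw [hCdef]; exact Matrix.mul_nonsing_inv D hDdet
  have key : ∀ u : Matrix (Fin 2) (Fin 2) F, u.det = 1 → uᵀ * u.map φ = 1 →
      C * u * D ∈ {a : Matrix (Fin 2) (Fin 2) F | a.det = 1 ∧ aᵀ * G * a.map φ = G} := by
    intro u hu1 hu2
    refine ⟨?_, ?_⟩
    · rw [Matrix.det_mul, Matrix.det_mul, mul_right_comm, ← Matrix.det_mul, hCD, Matrix.det_one,
        one_mul, hu1]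
    · rw [hG]
      have h1 : (C * u * D).map φ = C.map φ * u.map φ * D.map φ := by
        rw [Matrix.map_mul, Matrix.map_mul]
      have h2 : D.map φ * C.map φ = 1 := by
        rw [← Matrix.map_mul, hDC]
        ext i j
        simp [Matrix.one_apply, apply_ite]
      have h3 : Cᵀ * Dᵀ = 1 := by rw [← Matrix.transpose_mul, hDC, Matrix.transpose_one]
      rw [h1, Matrix.transpose_mul, Matrix.transpose_mul]
      calc Dᵀ * (uᵀ * Cᵀ) * (Dᵀ * D.map φ) * (C.map φ * u.map φ * D.map φ)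
          = Dᵀ * uᵀ * (Cᵀ * Dᵀ) * (D.map φ * C.map φ) * u.map φ * D.map φ := by
            simp only [Matrix.mul_assoc]
        _ = Dᵀ * (uᵀ * u.map φ) * D.map φ := by
            rw [h3, h2]; simp only [Matrix.mul_one, Matrix.mul_assoc]
        _ = Dᵀ * D.map φ := by rw [hu2, Matrix.mul_one]
  obtain ⟨ζ, hζ1, hζ2⟩ := su4t22n_zeta hF φ hφ hφφ
  have hζ1' : φ ζ * ζ = 1 := by rw [mul_comm]; exact hζ1
  have hu0 := key 1 (by simp) (by
    ext i j
    simp [Matrix.one_apply, apply_ite])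
  have hu1 := key !![ζ, 0; 0, φ ζ] (by rw [Matrix.det_fin_two_of]; simpa using hζ1) (by
    ext i j
    fin_cases i <;> fin_cases j <;>
      simp [Matrix.mul_apply, Fin.sum_univ_two, hφφ, hζ1, hζ1'])
  have hu2 := key !![0, -1; 1, 0] (by rw [Matrix.det_fin_two_of]; simp) (by
    ext i j
    fin_cases i <;> fin_cases j <;>
      simp [Matrix.mul_apply, Fin.sum_univ_two])
  have hu3 := key !![0, -φ ζ; ζ, 0] (by rw [Matrix.det_fin_two_of]; simpa using hζ1') (by
    ext i j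
    fin_cases i <;> fin_cases j <;>
      simp [Matrix.mul_apply, Fin.sum_univ_two, hφφ, hζ1, hζ1'])
  have hdec : ∀ Y : Matrix (Fin 2) (Fin 2) F, ∃ α β γ δ : F,
      Y = α • (1 : Matrix (Fin 2) (Fin 2) F) + β • !![ζ, 0; 0, φ ζ] + γ • !![0, -1; 1, 0] +
        δ • !![0, -φ ζ; ζ, 0] := by
    intro Y
    refine ⟨Y 0 0 - (Y 0 0 - Y 1 1) / (ζ - φ ζ) * ζ, (Y 0 0 - Y 1 1) / (ζ - φ ζ),
      Y 1 0 - (Y 0 1 + Y 1 0) / (ζ - φ ζ) * ζ, (Y 0 1 + Y 1 0) / (ζ - φ ζ), ?_⟩
    ext i j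
    fin_cases i <;> fin_cases j
    · simp
    · simp
      field_simp
      ring
    · simp
    · simp
      field_simp
      ring
  rw [eq_top_iff]
  intro M _
  obtain ⟨α, β, γ, δ, hY⟩ := hdec (D * M * C)
  have hM : M = C * (D * M * C) * D := by
    calc M = (C * D) * M * (C * D) := by rw [hCD, Matrix.one_mul, Matrix.mul_one]
      _ = C * (D * M * C) * D := by simp only [Matrix.mul_assoc]
  have hM2 : M = α • (C * 1 * D) + β • (C * !![ζ, 0; 0, φ ζ] * D) + γ • (C * !![0, -1; 1, 0] * D)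
      + δ • (C * !![0, -φ ζ; ζ, 0] * D) := by
    conv_lhs => rw [hM, hY]
    simp only [Matrix.mul_add, Matrix.add_mul, Matrix.mul_smul, Matrix.smul_mul]
  rw [hM2]
  exact Submodule.add_mem _ (Submodule.add_mem _ (Submodule.add_mem _
    (Submodule.smul_mem _ _ (Submodule.subset_span hu0))
    (Submodule.smul_mem _ _ (Submodule.subset_span hu1)))
    (Submodule.smul_mem _ _ (Submodule.subset_span hu2)))
    (Submodule.smul_mem _ _ (Submodule.subset_span hu3))

/-- T22N: the full stabiliser in `SU_4(q)` of a tensor decomposition `2 ⊗ 2` of the hermitian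
form has an absolutely irreducible normal subgroup (`SU(G₁) ⊗ SU(G₂)`) fixing a non-degenerate
bilinear form (the tensor product of the two alternating forms). -/
theorem T22N (hF : Fintype.card F = q ^ 2) (e : Fin 4 ≃ Fin 2 × Fin 2) (P : GL (Fin 4) F)
    (G₁ G₂ : Matrix (Fin 2) (Fin 2) F) (hd1 : G₁.det ≠ 0) (hd2 : G₂.det ≠ 0)
    (hh1 : ∀ a b, G₁ a b = (G₁ b a) ^ q) (hh2 : ∀ a b, G₂ a b = (G₂ b a) ^ q)
    (hid : ∀ x y : Fin 2 × Fin 2 → F,
      Cfsg.hermForm 4 F q (P.1 *ᵥ (x ∘ e)) (P.1 *ᵥ (y ∘ e)) =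
        formOfGram (fun c : F => c ^ q) (G₁ ⊗ₖ G₂) x y)
    (H : Subgroup (GL (Fin 4) F))
    (hH : H = tensorProductSubgroup 2 2 e P ⊓ (Cfsg.GU 4 F q ⊓ specialLinear (Fin 4) F)) :
    ∃ (N : Subgroup (GL (Fin 4) F)) (b : (Fin 4 → F) → (Fin 4 → F) → F), N ≤ H ∧ Nrm H N ∧
      ActsAbsolutelyIrreducibly (matrixSet N) ∧ IsBilinearForm b ∧ IsNondegenerateForm b ∧
      FixesForm (matrixSet N) b := by
  classical
  obtain ⟨φ, hφ, hφφ⟩ := Cfsg.Agent.Lib.Helper60.SUQTF.tf_frob hF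
  have hφfun : (fun c : F => c ^ q) = ⇑φ := by funext c; exact (hφ c).symm
  obtain ⟨JJ, hJJ⟩ : ∃ JJ : Matrix (Fin 2 × Fin 2) (Fin 2 × Fin 2) F,
      JJ = su4t22n_J F ⊗ₖ su4t22n_J F := ⟨_, rfl⟩
  have hJJsq : JJ * JJ = 1 := by rw [hJJ]; exact su4t22n_JJ_sq
  have hJJt : JJᵀ = JJ := by rw [hJJ]; exact su4t22n_JJ_transpose
  obtain ⟨crd, hcrddef⟩ : ∃ crd : (Fin 4 → F) → (Fin 2 × Fin 2 → F),
      crd = fun u => ((P⁻¹ : GL (Fin 4) F).1 *ᵥ u) ∘ e.symm := ⟨_, rfl⟩
  obtain ⟨bf, hbfdef⟩ : ∃ bf : (Fin 4 → F) → (Fin 4 → F) → F,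
      bf = fun u v => formOfGram id JJ (crd u) (crd v) := ⟨_, rfl⟩
  have hbf : ∀ u v, bf u v = crd u ⬝ᵥ (JJ *ᵥ crd v) := by
    intro u v
    rw [hbfdef]
    simp only
    rw [su4t22n_form_eq, Function.id_comp]
  have hemb : ∀ u : Fin 4 → F, P.1 *ᵥ ((crd u) ∘ e) = u := by
    intro u
    have h1 : (crd u) ∘ e = (P⁻¹ : GL (Fin 4) F).1 *ᵥ u := by
      funext i
      simp [hcrddef]
    rw [h1, Matrix.mulVec_mulVec, ← Units.val_mul, mul_inv_cancel, Units.val_one,
      Matrix.one_mulVec]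
  have hcrd : ∀ x : Fin 2 × Fin 2 → F, crd (P.1 *ᵥ (x ∘ e)) = x := by
    intro x
    funext p
    rw [hcrddef]
    simp only [Function.comp_apply]
    rw [Matrix.mulVec_mulVec, ← Units.val_mul, inv_mul_cancel, Units.val_one, Matrix.one_mulVec]
    simp
  have hcadd : ∀ x y, crd (x + y) = crd x + crd y := by
    intro x y
    funext p
    simp [hcrddef, Matrix.mulVec_add]
  have hcsmul : ∀ (c : F) x, crd (c • x) = c • crd x := by
    intro c x
    funext p
    simp [hcrddef, Matrix.mulVec_smul]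
  have hact : ∀ (a b : Matrix (Fin 2) (Fin 2) F) (u : Fin 4 → F),
      crd (tmat e P a b *ᵥ u) = (a ⊗ₖ b) *ᵥ crd u := by
    intro a b u
    conv_lhs => rw [← hemb u]
    rw [Cfsg.Agent.Lib.Helper29.SPPTens.tmat_mulVec, hcrd]
  have hidf : (id : F → F) = ⇑(RingHom.id F) := rfl
  have hmapid : ∀ A : Matrix (Fin 2) (Fin 2) F, A.map (⇑(RingHom.id F)) = A := by
    intro A
    ext i j
    simp
  have hscale : ∀ (a b : Matrix (Fin 2) (Fin 2) F) (u v : Fin 4 → F),
      bf (tmat e P a b *ᵥ u) (tmat e P a b *ᵥ v) = a.det * b.det * bf u v := by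
    intro a b u v
    rw [hbfdef]
    simp only
    rw [hact, hact, hidf, su4t22n_form_mulVec (RingHom.id F), hJJ,
      su4t22n_kron (RingHom.id F), hmapid, hmapid, su4t22n_J_conj, su4t22n_J_conj,
      Matrix.smul_kronecker, Matrix.kronecker_smul, smul_smul, su4t22n_form_smul]
  have hHmem : ∀ h ∈ H, ∃ a b : Matrix (Fin 2) (Fin 2) F, h.1 = tmat e P a b := by
    intro h hh
    rw [hH] at hh
    obtain ⟨a, b, hab⟩ := (mem_tensorProductSubgroup_iff e P h).1 (Subgroup.mem_inf.1 hh).1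
    exact ⟨a.1, b.1, hab⟩
  obtain ⟨N, hNdef⟩ : ∃ N : Subgroup (GL (Fin 4) F),
      N = H ⊓ Cfsg.preserving (Units.coeHom (Matrix (Fin 4) (Fin 4) F)) bf := ⟨_, rfl⟩
  have hNmem : ∀ g : GL (Fin 4) F, g ∈ N ↔
      g ∈ H ∧ ∀ u v, bf (g.1 *ᵥ u) (g.1 *ᵥ v) = bf u v := by
    intro g
    rw [hNdef, Subgroup.mem_inf]
    exact Iff.rfl
  refine ⟨N, bf, ?_, ?_, ?_, ?_, ?_, ?_⟩
  · intro g hg
    exact ((hNmem g).1 hg).1
  · intro h hh x hx
    obtain ⟨hxH, hxb⟩ := (hNmem x).1 hx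
    refine (hNmem _).2 ⟨H.mul_mem (H.mul_mem hh hxH) (H.inv_mem hh), ?_⟩
    intro u v
    obtain ⟨a, b, hab⟩ := hHmem h hh
    have h1 : ∀ w : Fin 4 → F, (h * x * h⁻¹).1 *ᵥ w = h.1 *ᵥ (x.1 *ᵥ ((h⁻¹).1 *ᵥ w)) := by
      intro w
      rw [Units.val_mul, Units.val_mul, ← Matrix.mulVec_mulVec, ← Matrix.mulVec_mulVec]
    have h2 : ∀ w : Fin 4 → F, h.1 *ᵥ ((h⁻¹).1 *ᵥ w) = w := by
      intro w
      rw [Matrix.mulVec_mulVec, ← Units.val_mul, mul_inv_cancel, Units.val_one,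
        Matrix.one_mulVec]
    rw [h1, h1, hab, hscale, hxb]
    conv_rhs => rw [← h2 u, ← h2 v, hab, hscale]
  · -- absolutely irreducible
    apply Cfsg.Agent.Lib.Helper44.O9.TIR_absIrr_of_span
    obtain ⟨T, hTdef⟩ : ∃ T : Submodule F (Matrix (Fin 4) (Fin 4) F),
        T = Submodule.span F (matrixSet N) := ⟨_, rfl⟩
    rw [← hTdef]
    have hstep : ∀ a b : Matrix (Fin 2) (Fin 2) F,
        (a.det = 1 ∧ aᵀ * G₁ * a.map φ = G₁) → (b.det = 1 ∧ bᵀ * G₂ * b.map φ = G₂) →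
        tmat e P a b ∈ T := by
      intro a b ha hb
      have hadet : IsUnit a.det := by rw [ha.1]; exact isUnit_one
      have hbdet : IsUnit b.det := by rw [hb.1]; exact isUnit_one
      have hg1 : tmat e P a b * tmat e P a⁻¹ b⁻¹ = 1 := by
        rw [Cfsg.Agent.Lib.Helper82.ASB8UNITS.tmat_mul, Matrix.mul_nonsing_inv a hadet,
          Matrix.mul_nonsing_inv b hbdet, Cfsg.Agent.Lib.Helper82.ASB8UNITS.tmat_one]
      have hg2 : tmat e P a⁻¹ b⁻¹ * tmat e P a b = 1 := by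
        rw [Cfsg.Agent.Lib.Helper82.ASB8UNITS.tmat_mul, Matrix.nonsing_inv_mul a hadet,
          Matrix.nonsing_inv_mul b hbdet, Cfsg.Agent.Lib.Helper82.ASB8UNITS.tmat_one]
      obtain ⟨g, hgdef⟩ : ∃ g : GL (Fin 4) F, g.1 = tmat e P a b :=
        ⟨⟨tmat e P a b, tmat e P a⁻¹ b⁻¹, hg1, hg2⟩, rfl⟩
      have hgN : g ∈ N := by
        refine (hNmem g).2 ⟨?_, ?_⟩
        · rw [hH]
          refine Subgroup.mem_inf.2 ⟨?_, Subgroup.mem_inf.2 ⟨?_, ?_⟩⟩
          · refine (mem_tensorProductSubgroup_iff e P g).2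
              ⟨⟨a, a⁻¹, Matrix.mul_nonsing_inv a hadet, Matrix.nonsing_inv_mul a hadet⟩,
                ⟨b, b⁻¹, Matrix.mul_nonsing_inv b hbdet, Matrix.nonsing_inv_mul b hbdet⟩, ?_⟩
            exact hgdef
          · -- unitary
            show ∀ u v, Cfsg.hermForm 4 F q (g.1 *ᵥ u) (g.1 *ᵥ v) = Cfsg.hermForm 4 F q u v
            intro u v
            rw [hgdef]
            conv_lhs => rw [← hemb u, ← hemb v]
            conv_rhs => rw [← hemb u, ← hemb v]
            rw [Cfsg.Agent.Lib.Helper29.SPPTens.tmat_mulVec,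
              Cfsg.Agent.Lib.Helper29.SPPTens.tmat_mulVec, hid, hid, hφfun,
              su4t22n_form_mulVec φ, su4t22n_kron φ, ha.2, hb.2]
          · -- determinant one
            show Matrix.GeneralLinearGroup.det g = 1
            apply Units.ext
            rw [Matrix.GeneralLinearGroup.val_det_apply, hgdef]
            unfold tmat
            rw [Matrix.det_units_conj, Matrix.det_reindex_self, Matrix.det_kronecker, ha.1, hb.1]
            simp
        · intro u v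
          rw [hgdef, hscale, ha.1, hb.1, one_mul, one_mul]
      rw [hTdef, ← hgdef]
      exact Submodule.subset_span ⟨g, hgN, rfl⟩
    obtain ⟨Λ, hΛdef⟩ : ∃ Λ : Matrix (Fin 2 × Fin 2) (Fin 2 × Fin 2) F → Matrix (Fin 4) (Fin 4) F,
        Λ = fun X => P.1 * Matrix.reindex e.symm e.symm X * (P⁻¹ : GL (Fin 4) F).1 := ⟨_, rfl⟩
    have hΛadd : ∀ X Y, Λ (X + Y) = Λ X + Λ Y := by
      intro X Y
      rw [hΛdef]
      simp only [Matrix.reindex_apply, Matrix.submatrix_add, Pi.add_apply, Matrix.mul_add,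
        Matrix.add_mul]
    have hΛsmul : ∀ (c : F) X, Λ (c • X) = c • Λ X := by
      intro c X
      rw [hΛdef]
      simp only [Matrix.reindex_apply, Matrix.submatrix_smul, Pi.smul_apply, Matrix.mul_smul,
        Matrix.smul_mul]
    have hΛzero : Λ 0 = 0 := by
      rw [hΛdef]
      simp
    have hΛt : ∀ a b : Matrix (Fin 2) (Fin 2) F, tmat e P a b = Λ (a ⊗ₖ b) := by
      intro a b
      rw [hΛdef]
      rfl
    let K : Submodule F (Matrix (Fin 2 × Fin 2) (Fin 2 × Fin 2) F) :=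
      { carrier := {X | Λ X ∈ T}
        add_mem' := by
          intro X Y hX hY
          show Λ (X + Y) ∈ T
          rw [hΛadd]
          exact T.add_mem hX hY
        zero_mem' := by
          show Λ 0 ∈ T
          rw [hΛzero]
          exact T.zero_mem
        smul_mem' := by
          intro c X hX
          show Λ (c • X) ∈ T
          rw [hΛsmul]
          exact T.smul_mem c hX }
    have hKmem : ∀ X, X ∈ K ↔ Λ X ∈ T := fun X => Iff.rfl
    have hsp1 := su4t22n_span hF φ hφ hφφ G₁ hd1 hh1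
    have hsp2 := su4t22n_span hF φ hφ hφφ G₂ hd2 hh2
    have hc2 : ∀ a : Matrix (Fin 2) (Fin 2) F, ∀ b : Matrix (Fin 2) (Fin 2) F,
        (b.det = 1 ∧ bᵀ * G₂ * b.map φ = G₂) → a ⊗ₖ b ∈ K := by
      intro a b hb
      have ha : a ∈ Submodule.span F
          {a : Matrix (Fin 2) (Fin 2) F | a.det = 1 ∧ aᵀ * G₁ * a.map φ = G₁} := by
        rw [hsp1]; exact Submodule.mem_top
      induction ha using Submodule.span_induction with
      | mem x hx =>
        rw [hKmem, ← hΛt]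
        exact hstep x b hx hb
      | zero =>
        rw [Matrix.zero_kronecker]
        exact K.zero_mem
      | add x y _ _ hx hy =>
        rw [Matrix.add_kronecker]
        exact K.add_mem hx hy
      | smul c x _ hx =>
        rw [Matrix.smul_kronecker]
        exact K.smul_mem c hx
    have hc3 : ∀ a b : Matrix (Fin 2) (Fin 2) F, a ⊗ₖ b ∈ K := by
      intro a b
      have hb : b ∈ Submodule.span F
          {a : Matrix (Fin 2) (Fin 2) F | a.det = 1 ∧ aᵀ * G₂ * a.map φ = G₂} := by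
        rw [hsp2]; exact Submodule.mem_top
      induction hb using Submodule.span_induction with
      | mem x hx => exact hc2 a x hx
      | zero =>
        rw [Matrix.kronecker_zero]
        exact K.zero_mem
      | add x y _ _ hx hy =>
        rw [Matrix.kronecker_add]
        exact K.add_mem hx hy
      | smul c x _ hx =>
        rw [Matrix.kronecker_smul]
        exact K.smul_mem c hx
    have hc4 : ∀ X : Matrix (Fin 2 × Fin 2) (Fin 2 × Fin 2) F, X ∈ K := by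
      intro X
      rw [Matrix.matrix_eq_sum_single X]
      apply K.sum_mem
      intro p _
      apply K.sum_mem
      intro p' _
      have h1 : Matrix.single p p' (X p p') =
          X p p' • (Matrix.single p.1 p'.1 (1 : F) ⊗ₖ Matrix.single p.2 p'.2 (1 : F)) := by
        rw [Matrix.single_kronecker_single, mul_one, Matrix.smul_single, smul_eq_mul, mul_one]
      rw [h1]
      exact K.smul_mem _ (hc3 _ _)
    rw [eq_top_iff]
    intro M _
    have hM : M = Λ (Matrix.reindex e e ((P⁻¹ : GL (Fin 4) F).1 * M * P.1)) := by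
      rw [hΛdef]
      simp only [Matrix.reindex_apply, Matrix.submatrix_submatrix, Equiv.symm_symm]
      have h1 : ((P⁻¹ : GL (Fin 4) F).1 * M * P.1).submatrix (⇑e.symm ∘ ⇑e) (⇑e.symm ∘ ⇑e) =
          (P⁻¹ : GL (Fin 4) F).1 * M * P.1 := by
        ext i j
        simp
      rw [h1]
      have h2 : P.1 * (P⁻¹ : GL (Fin 4) F).1 = 1 := by
        rw [← Units.val_mul, mul_inv_cancel, Units.val_one]
      calc M = (P.1 * (P⁻¹ : GL (Fin 4) F).1) * M * (P.1 * (P⁻¹ : GL (Fin 4) F).1) := by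
            rw [h2, Matrix.one_mul, Matrix.mul_one]
        _ = P.1 * ((P⁻¹ : GL (Fin 4) F).1 * M * P.1) * (P⁻¹ : GL (Fin 4) F).1 := by
            simp only [Matrix.mul_assoc]
    rw [hM]
    exact (hKmem _).1 (hc4 _)
  · -- bilinear
    constructor
    · intro x y v
      rw [hbf, hbf, hbf, hcadd, add_dotProduct]
    · intro c x v
      rw [hbf, hbf, hcsmul, smul_dotProduct, smul_eq_mul]
    · intro v x y
      rw [hbf, hbf, hbf, hcadd, Matrix.mulVec_add, dotProduct_add]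
    · intro c v x
      rw [hbf, hbf, hcsmul, Matrix.mulVec_smul, dotProduct_smul, smul_eq_mul]
  · -- non-degenerate
    intro v hv
    have hcv : crd v ≠ 0 := by
      intro h0
      apply hv
      rw [← hemb v, h0]
      simp
    have hw : JJ *ᵥ crd v ≠ 0 := by
      intro h0
      apply hcv
      have h1 : JJ *ᵥ (JJ *ᵥ crd v) = crd v := by
        rw [Matrix.mulVec_mulVec, hJJsq, Matrix.one_mulVec]
      rw [← h1, h0, Matrix.mulVec_zero]
    obtain ⟨p, hp⟩ : ∃ p, (JJ *ᵥ crd v) p ≠ 0 := by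
      by_contra hcon
      push Not at hcon
      exact hw (funext hcon)
    refine ⟨⟨P.1 *ᵥ ((Pi.single p (1 : F)) ∘ e), ?_⟩, ⟨P.1 *ᵥ ((Pi.single p (1 : F)) ∘ e), ?_⟩⟩
    · rw [hbf, hcrd, single_dotProduct, one_mul]
      exact hp
    · rw [hbf, hcrd, Matrix.dotProduct_mulVec, ← Matrix.mulVec_transpose, hJJt,
        dotProduct_single, mul_one]
      exact hp
  · -- fixes the form
    rintro _ ⟨g, hg, rfl⟩ u v
    exact ((hNmem g).1 hg).2 u v

end Cfsg.Agent.Lib.Helper35.SU4T22N
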