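import Cfsg.Agent.Lib.Helper35.FeitFrob
import Mathlib

set_option autoImplicit false
open Cfsg

namespace Cfsg.Agent.Lib.Helper35

open Cfsg.Agent.Lib
open scoped ComplexConjugate

/-- the arithmetic core of the coherence of the characters of a Frobenius group with kernel a
`p`-group that are non-trivial on a central subgroup -/
theorem xcoh_arith' {N : Type*} [Group N] [Fintype N] {G : Type*} [Group G] [Fintype G]
    (X : Finset (N → ℂ)) (hne : X.Nonempty) (hirr : ∀ ξ ∈ X, IsIrrCharacter N ξ)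
    (hconj : ∀ χ ∈ X, conjFun χ ∈ X ∧ conjFun χ ≠ χ)
    (τ : (N → ℂ) → (G → ℂ))
    (hτ : IsLinearIsometryOn (zspanOn (↑X : Set (N → ℂ)) {1}ᶜ) τ)
    (hτ1 : ∀ α ∈ zspanOn (↑X : Set (N → ℂ)) {1}ᶜ, τ α 1 = 0)
    (p e q r : ℕ) (hp : p.Prime) (hp2 : p ≠ 2) (he : 0 < e) (hep : Nat.Coprime e p)
    (hdeg : ∀ χ ∈ X, ∃ a : ℕ, charDegree χ = e * p ^ a ∧ (p ^ a) ^ 2 ∣ q)
    (hsum : ∑ χ ∈ X, charDegree χ ^ 2 = e * (q * r)) :
    IsCoherent (↑X : Set (N → ℂ)) {1}ᶜ τ := by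
  classical
  choose! a ha using hdeg
  obtain ⟨χ₁, hχ₁, hmin⟩ := Finset.exists_min_image X a hne
  have hp1 : 1 < p := hp.one_lt
  have hainj : ∀ χ ∈ X, ∀ ψ ∈ X, charDegree χ = charDegree ψ → a χ = a ψ := by
    intro χ hχ ψ hψ h
    rw [(ha χ hχ).1, (ha ψ hψ).1] at h
    exact Nat.pow_right_injective hp.two_le (Nat.eq_of_mul_eq_mul_left he h)
  have haconj : ∀ χ ∈ X, a (conjFun χ) = a χ := fun χ hχ =>
    hainj _ (hconj χ hχ).1 _ hχ (charDegree_conjFun (hirr χ hχ))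
  -- the seed
  have hC₀ : IsCoherent (↑(X.filter (fun χ => a χ = a χ₁)) : Set (N → ℂ)) {1}ᶜ τ := by
    have hsub : (↑(X.filter (fun χ => a χ = a χ₁)) : Set (N → ℂ)) ⊆ ↑X :=
      Finset.coe_subset.mpr (Finset.filter_subset _ _)
    refine uniform_coherent _ ⟨χ₁, by simp [hχ₁]⟩ (fun χ hχ => hirr χ (hsub hχ)) ?_ τ
      (isoOn_mono (Helper36.zspanOn_mono hsub _) hτ)
      (fun α hα => hτ1 α (Helper36.zspanOn_mono hsub _ hα)) ?_
    · intro χ hχ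
      rw [Finset.mem_coe, Finset.mem_filter] at hχ ⊢
      exact ⟨⟨(hconj χ hχ.1).1, by rw [haconj χ hχ.1]; exact hχ.2⟩, (hconj χ hχ.1).2⟩
    · intro φ hφ ψ hψ
      rw [Finset.mem_coe, Finset.mem_filter] at hφ hψ
      rw [(Helper83.irr_degree (hirr φ hφ.1)).2, (Helper83.irr_degree (hirr ψ hψ.1)).2,
        (ha φ hφ.1).1, (ha ψ hψ.1).1, hφ.2, hψ.2]
  refine extend_max' X _ (Finset.filter_subset _ _) hirr τ hτ hτ1 hC₀ ?_
  intro C hC₀C hCX hCne hCcoh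
  -- a member of `X \ C` of smallest degree
  have hne' : (X \ C).Nonempty := by
    rw [Finset.nonempty_iff_ne_empty]
    intro h
    exact hCne (Finset.Subset.antisymm hCX (Finset.sdiff_eq_empty_iff_subset.mp h))
  obtain ⟨χ, hχ, hχmin⟩ := Finset.exists_min_image (X \ C) a hne'
  rw [Finset.mem_sdiff] at hχ
  have hχ₁C : χ₁ ∈ C := hC₀C (by simp [hχ₁])
  refine ⟨χ, hχ.1, hχ.2, χ₁, hχ₁C, ?_, ?_⟩
  · rw [(ha χ₁ hχ₁).1, (ha χ hχ.1).1]
    exact Nat.mul_dvd_mul_left e (pow_dvd_pow p (hmin χ hχ.1))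
  · -- the inequality
    have hlt : a χ₁ < a χ := by
      rcases (hmin χ hχ.1).lt_or_eq with h | h
      · exact h
      · exfalso
        exact hχ.2 (hC₀C (by simp [hχ.1, h]))
    obtain ⟨T, hT⟩ : ∃ T : ℕ, T = p ^ a χ := ⟨_, rfl⟩
    obtain ⟨F, hF⟩ : ∃ F : Finset (N → ℂ), F = X.filter (fun ξ => a ξ < a χ) := ⟨_, rfl⟩
    have hFC : F ⊆ C := by
      intro ξ hξ
      rw [hF, Finset.mem_filter] at hξ
      by_contra hξC
      have := hχmin ξ (Finset.mem_sdiff.mpr ⟨hξ.1, hξC⟩)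
      omega
    have hsumF : ∑ ξ ∈ F, charDegree ξ ^ 2 = e ^ 2 * ∑ ξ ∈ F, (p ^ a ξ) ^ 2 := by
      rw [Finset.mul_sum]
      refine Finset.sum_congr rfl fun ξ hξ => ?_
      rw [hF, Finset.mem_filter] at hξ
      rw [(ha ξ hξ.1).1]
      ring
    have hsumX : e * ∑ ξ ∈ X, (p ^ a ξ) ^ 2 = q * r := by
      have h1 : ∑ ξ ∈ X, charDegree ξ ^ 2 = e ^ 2 * ∑ ξ ∈ X, (p ^ a ξ) ^ 2 := by
        rw [Finset.mul_sum]
        refine Finset.sum_congr rfl fun ξ hξ => ?_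
        rw [(ha ξ hξ).1]
        ring
      rw [h1] at hsum
      have h2 : e * (e * ∑ ξ ∈ X, (p ^ a ξ) ^ 2) = e * (q * r) := by
        rw [← hsum]
        ring
      exact Nat.eq_of_mul_eq_mul_left he h2
    have hsplit : ∑ ξ ∈ X, (p ^ a ξ) ^ 2 = ∑ ξ ∈ F, (p ^ a ξ) ^ 2 +
        ∑ ξ ∈ X.filter (fun ξ => ¬ a ξ < a χ), (p ^ a ξ) ^ 2 := by
      rw [hF, Finset.sum_filter_add_sum_filter_not]
    have hd2 : T ^ 2 ∣ ∑ ξ ∈ X.filter (fun ξ => ¬ a ξ < a χ), (p ^ a ξ) ^ 2 := by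
      apply Finset.dvd_sum
      intro ξ hξ
      rw [Finset.mem_filter] at hξ
      rw [hT]
      exact pow_dvd_pow_of_dvd (pow_dvd_pow p (by omega)) 2
    have hcop : Nat.Coprime (T ^ 2) e := by
      rw [hT, ← pow_mul]
      exact Nat.Coprime.pow_left _ hep.symm
    have hd1 : T ^ 2 ∣ ∑ ξ ∈ X, (p ^ a ξ) ^ 2 := by
      have h3 : T ^ 2 ∣ e * ∑ ξ ∈ X, (p ^ a ξ) ^ 2 := by
        rw [hsumX, hT]
        exact Dvd.dvd.mul_right (ha χ hχ.1).2 r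
      exact hcop.dvd_of_dvd_mul_left h3
    have hdF : T ^ 2 ∣ ∑ ξ ∈ F, (p ^ a ξ) ^ 2 := by
      rw [hsplit] at hd1
      exact (Nat.dvd_add_left hd2).mp hd1
    have h2F : 2 ∣ ∑ ξ ∈ F, (p ^ a ξ) ^ 2 := by
      apply even_sum_of_conj F conjFun
      intro ξ hξ
      rw [hF, Finset.mem_filter] at hξ ⊢
      exact ⟨⟨(hconj ξ hξ.1).1, by rw [haconj ξ hξ.1]; exact hξ.2⟩, (hconj ξ hξ.1).2,
        Helper35.conjFun_conjFun ξ, by rw [haconj ξ hξ.1]⟩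
    have hposF : 0 < ∑ ξ ∈ F, (p ^ a ξ) ^ 2 := by
      apply Finset.sum_pos' (fun _ _ => Nat.zero_le _)
      exact ⟨χ₁, by rw [hF, Finset.mem_filter]; exact ⟨hχ₁, hlt⟩, by positivity⟩
    have hTodd : Nat.Coprime 2 (T ^ 2) := by
      rw [hT, ← pow_mul]
      apply Nat.Coprime.pow_right
      rw [Nat.coprime_primes Nat.prime_two hp]
      exact fun h => hp2 h.symm
    have h2T : 2 * T ^ 2 ≤ ∑ ξ ∈ F, (p ^ a ξ) ^ 2 :=
      Nat.le_of_dvd hposF (hTodd.mul_dvd_of_dvd_of_dvd h2F hdF)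
    have hT1 : p ^ a χ₁ < T := by
      rw [hT]
      exact Nat.pow_lt_pow_right hp1 hlt
    have hTpos : 0 < T := by
      rw [hT]
      positivity
    calc 2 * charDegree χ₁ * charDegree χ = e ^ 2 * (2 * p ^ a χ₁ * T) := by
          rw [(ha χ₁ hχ₁).1, (ha χ hχ.1).1, hT]
          ring
      _ < e ^ 2 * (2 * T ^ 2) := by
          apply Nat.mul_lt_mul_of_pos_left _ (by positivity)
          nlinarith
      _ ≤ e ^ 2 * ∑ ξ ∈ F, (p ^ a ξ) ^ 2 := Nat.mul_le_mul_left _ h2T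
      _ = ∑ ξ ∈ F, charDegree ξ ^ 2 := hsumF.symm
      _ ≤ ∑ ξ ∈ C, charDegree ξ ^ 2 := Finset.sum_le_sum_of_subset hFC


end Cfsg.Agent.Lib.Helper35
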